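import Mathlib
import Cfsg.Prelude.Def_CaseTheorems
import Cfsg.Agent.Lib.FixityFour.Shape

/-!
# Two-groups of normal rank two with an automorphism of odd order

Setting and elementary facts: a two-subgroup `T`, an element `h` of odd prime power order normalising it.
-/

set_option autoImplicit false
set_option linter.style.haveILetI false
set_option linter.unusedSectionVars false

namespace Cfsg.Agent.NormalRankTwo

open Subgroup

variable {G : Type*} [Group G]

/-- The standing hypotheses. -/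
structure Hyp (T : Subgroup G) (p : ℕ) (h : G) : Prop where
  two : IsPGroup 2 T
  rank : ∀ A : Subgroup G, A ≤ T → (∀ g ∈ T, ∀ a ∈ A, g * a * g⁻¹ ∈ A) →
    (∀ a ∈ A, ∀ b ∈ A, Commute a b) → (∀ a ∈ A, a * a = 1) → Nat.card A ≤ 4
  sec : Cfsg.SectionalPRankLE 2 4 T
  prime : p.Prime
  odd : p ≠ 2
  pow : ∃ k, orderOf h = p ^ k
  norm : ∀ g ∈ T, h * g * h⁻¹ ∈ T

/-- A subgroup of `T` invariant under `T` and `h`. -/
structure Inv (T : Subgroup G) (h : G) (A : Subgroup G) : Prop where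
  le : A ≤ T
  nrm : ∀ g ∈ T, ∀ a ∈ A, g * a * g⁻¹ ∈ A
  hinv : ∀ a ∈ A, h * a * h⁻¹ ∈ A

variable {T : Subgroup G} {p : ℕ} {h : G}

theorem conj_commute {a b c : G} (hab : Commute a b) : Commute (c * a * c⁻¹) (c * b * c⁻¹) :=
  hab.map (MulAut.conj c).toMonoidHom

theorem commute_of_conj_eq {a g : G} (e : g * a * g⁻¹ = a) : Commute g a := mul_inv_eq_iff_eq_mul.1 e

theorem conj_eq_of_commute {a g : G} (e : Commute g a) : g * a * g⁻¹ = a := mul_inv_eq_iff_eq_mul.2 e

theorem sq_conj {a g : G} : (g * a * g⁻¹) * (g * a * g⁻¹) = g * (a * a) * g⁻¹ := by group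

theorem pow_conj_mem {A : Subgroup G} (hA : ∀ a ∈ A, h * a * h⁻¹ ∈ A) (i : ℕ) {a : G} (ha : a ∈ A) :
    h ^ i * a * (h ^ i)⁻¹ ∈ A := by
  induction i with
  | zero => simpa using ha
  | succ i ih =>
    have := hA _ ih
    rwa [show h * (h ^ i * a * (h ^ i)⁻¹) * h⁻¹ = h ^ (i + 1) * a * (h ^ (i + 1))⁻¹ by rw [pow_succ']; group]
      at this

variable [Finite G]

theorem Hyp.odd_order (hy : Hyp T p h) : Odd (orderOf h) := by
  obtain ⟨k, hk⟩ := hy.pow
  rw [hk]
  exact (hy.prime.odd_of_ne_two hy.odd).pow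

theorem hinv_symm {A : Subgroup G} (hA : ∀ a ∈ A, h * a * h⁻¹ ∈ A) {a : G} (ha : a ∈ A) :
    h⁻¹ * a * h ∈ A := by
  have := pow_conj_mem hA (orderOf h - 1) ha
  have hpos := orderOf_pos h
  have e : h ^ (orderOf h - 1) = h⁻¹ := by
    refine eq_inv_of_mul_eq_one_left ?_
    rw [← pow_succ, show orderOf h - 1 + 1 = orderOf h by omega, pow_orderOf_eq_one]
  rwa [e, inv_inv] at this

/-- A coset fixed by `h` contains an element fixed by `h`. -/
theorem Hyp.exists_fixed (hy : Hyp T p h) {N : Subgroup G} (hN : N ≤ T) (hNh : ∀ a ∈ N, h * a * h⁻¹ ∈ N)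
    {g : G} (hg : g⁻¹ * (h * g * h⁻¹) ∈ N) : ∃ n ∈ N, Commute h (g * n) := by
  classical
  haveI : Fact p.Prime := ⟨hy.prime⟩
  obtain ⟨k, hk⟩ := hy.pow
  -- the translated action on `N`
  let σ : Equiv.Perm N :=
    { toFun := fun n => ⟨g⁻¹ * (h * (g * n) * h⁻¹), by
        rw [show g⁻¹ * (h * (g * (n : G)) * h⁻¹) = g⁻¹ * (h * g * h⁻¹) * (h * n * h⁻¹) by group]
        exact mul_mem hg (hNh n n.2)⟩
      invFun := fun n => ⟨g⁻¹ * (h⁻¹ * (g * n) * h), by
        rw [show g⁻¹ * (h⁻¹ * (g * (n : G)) * h) = (h⁻¹ * (g⁻¹ * (h * g * h⁻¹)) * h)⁻¹ * (h⁻¹ * n * h) by group]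
        exact mul_mem (inv_mem (hinv_symm hNh hg)) (hinv_symm hNh n.2)⟩
      left_inv := fun n => Subtype.ext (by simp; group)
      right_inv := fun n => Subtype.ext (by simp; group) }
  have hpow : ∀ (i : ℕ) (n : N), ((σ ^ i) n : G) = g⁻¹ * (h ^ i * (g * n) * (h ^ i)⁻¹) := by
    intro i
    induction i with
    | zero => intro n; simp
    | succ i ih =>
      intro n
      rw [pow_succ', Equiv.Perm.mul_apply]
      show g⁻¹ * (h * (g * ((σ ^ i) n : G)) * h⁻¹) = _
      rw [ih, pow_succ']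
      group
  have hσ : σ ^ p ^ k = 1 := by
    refine Equiv.ext fun n => Subtype.ext ?_
    rw [hpow, ← hk, pow_orderOf_eq_one]
    simp
  have hP : IsPGroup p (zpowers σ) := by
    obtain ⟨j, -, hj⟩ := (Nat.dvd_prime_pow hy.prime).1 (orderOf_dvd_of_pow_eq_one hσ)
    exact IsPGroup.of_card (n := j) (by rw [Nat.card_zpowers, hj])
  have hmod := hP.card_modEq_card_fixedPoints N
  obtain ⟨m, hm⟩ := IsPGroup.iff_card.1 (hy.two.to_le hN)
  have hne : (MulAction.fixedPoints (zpowers σ) N).Nonempty := by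
    by_contra h0
    rw [Set.not_nonempty_iff_eq_empty] at h0
    rw [h0, Nat.card_coe_set_eq, Set.ncard_empty, hm] at hmod
    exact hy.odd ((Nat.prime_dvd_prime_iff_eq hy.prime Nat.prime_two).1
      (hy.prime.dvd_of_dvd_pow (Nat.modEq_zero_iff_dvd.1 hmod)))
  obtain ⟨n, hn⟩ := hne
  refine ⟨n, n.2, commute_of_conj_eq ?_⟩
  have h1 := congrArg (fun x : N => (x : G)) (hn ⟨σ, mem_zpowers σ⟩)
  calc h * (g * n) * h⁻¹ = g * (g⁻¹ * (h * (g * n) * h⁻¹)) := by group
    _ = g * n := by rw [show g⁻¹ * (h * (g * (n : G)) * h⁻¹) = n from h1]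

/-- If `h` fixes the involutions of an abelian invariant subgroup, it fixes all of it. -/
theorem Hyp.fix_abelian (hy : Hyp T p h) {A : Subgroup G} (hA : A ≤ T) (hAh : ∀ a ∈ A, h * a * h⁻¹ ∈ A)
    (hcomm : ∀ a ∈ A, ∀ b ∈ A, Commute a b) (hinv : ∀ a ∈ A, a * a = 1 → Commute h a) :
    ∀ a ∈ A, Commute h a := by
  suffices hk : ∀ k, ∀ a ∈ A, a ^ 2 ^ k = 1 → Commute h a by
    intro a ha
    obtain ⟨k, hk'⟩ := hy.two ⟨a, hA ha⟩
    exact hk k a ha (congrArg Subtype.val hk')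
  intro k
  induction k with
  | zero => intro a _ e; rw [pow_zero, pow_one] at e; rw [e]; exact Commute.one_right h
  | succ k ih =>
    intro a ha e
    rw [pow_succ, mul_comm, pow_mul] at e
    have hsq := conj_eq_of_commute (ih _ (pow_mem ha 2) e)
    set d := h * a * h⁻¹ * a⁻¹ with hd
    have hdA : d ∈ A := mul_mem (hAh a ha) (inv_mem ha)
    have hd2 : d * d = 1 := by
      rw [hd, ((hcomm _ (hAh a ha) _ (inv_mem ha)).symm.mul_mul_mul_comm (h * a * h⁻¹) a⁻¹),
        sq_conj, ← pow_two, hsq, pow_two]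
      group
    have hfd := conj_eq_of_commute (hinv d hdA hd2)
    -- `h ^ i` moves `a` by `d ^ i`
    have hi : ∀ i, h ^ i * a * (h ^ i)⁻¹ = d ^ i * a := by
      intro i
      induction i with
      | zero => simp
      | succ i ihi =>
        calc h ^ (i + 1) * a * (h ^ (i + 1))⁻¹ = h * (h ^ i * a * (h ^ i)⁻¹) * h⁻¹ := by rw [pow_succ']; group
          _ = (h * d * h⁻¹) ^ i * (h * a * h⁻¹) := by rw [ihi, conj_pow]; group
          _ = d ^ i * (d * a) := by rw [hfd, show h * a * h⁻¹ = d * a by rw [hd, inv_mul_cancel_right]]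
          _ = _ := by rw [pow_succ, mul_assoc (d ^ i)]
    have h1 := hi (orderOf h)
    rw [pow_orderOf_eq_one] at h1
    have hdo : d ^ orderOf h = 1 := mul_eq_right.1 (h1.symm.trans (by group))
    obtain ⟨m, hm⟩ := hy.odd_order
    have hd1 : d = 1 := by
      rw [hm, pow_succ, pow_mul, pow_two, hd2, one_pow, one_mul] at hdo
      exact hdo
    exact commute_of_conj_eq (mul_inv_eq_one.1 hd1)

/-- A proper layer: something in `N` outside `Z` central of order two modulo `Z`. -/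
theorem exists_central_mod (hT : IsPGroup 2 T) {Z N : Subgroup G} (hZN : Z ≤ N) (hNT : N ≤ T)
    (hZn : ∀ g ∈ T, ∀ a ∈ Z, g * a * g⁻¹ ∈ Z) (hNn : ∀ g ∈ T, ∀ a ∈ N, g * a * g⁻¹ ∈ N) (hne : Z ≠ N) :
    ∃ x ∈ N, x ∉ Z ∧ x * x ∈ Z ∧ ∀ g ∈ T, g * x * g⁻¹ * x⁻¹ ∈ Z := by
  haveI : Fact (Nat.Prime 2) := ⟨Nat.prime_two⟩
  haveI : (Z.subgroupOf T).Normal := ⟨fun a ha g => mem_subgroupOf.2 (hZn g g.2 a ha)⟩
  set π := QuotientGroup.mk' (Z.subgroupOf T) with hπ
  have hR : IsPGroup 2 (⊤ : Subgroup (T ⧸ Z.subgroupOf T)) :=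
    fun g => by
      obtain ⟨k, hk⟩ := (hT.to_quotient (Z.subgroupOf T)) (g : T ⧸ Z.subgroupOf T)
      exact ⟨k, Subtype.ext hk⟩
  have hN1 : (N.subgroupOf T).map π ≠ ⊥ := by
    intro e
    apply hne
    refine le_antisymm hZN fun a ha => ?_
    have : π ⟨a, hNT ha⟩ = 1 := (Subgroup.mem_bot).1 (e ▸ mem_map.2 ⟨⟨a, hNT ha⟩, ha, rfl⟩)
    exact mem_subgroupOf.1 ((QuotientGroup.eq_one_iff _).1 this)
  obtain ⟨z, hz, hzo, hzc⟩ := FixityFour.exists_central hR le_top (N := (N.subgroupOf T).map π) (by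
    intro r _ y hy
    obtain ⟨r, rfl⟩ := QuotientGroup.mk'_surjective _ r
    obtain ⟨y, hy, rfl⟩ := hy
    exact ⟨r * y * r⁻¹, hNn r r.2 y hy, by simp [hπ]⟩) hN1
  obtain ⟨⟨x, hxT⟩, hxN, rfl⟩ := hz
  have hsq : π (⟨x, hxT⟩ * ⟨x, hxT⟩) = 1 := by
    rw [map_mul, ← pow_two, ← hzo, pow_orderOf_eq_one]
  refine ⟨x, hxN, fun hxZ => ?_, mem_subgroupOf.1 ((QuotientGroup.eq_one_iff _).1 hsq), fun g hg => ?_⟩
  · have : π ⟨x, hxT⟩ = 1 := (QuotientGroup.eq_one_iff _).2 hxZ
    rw [this, orderOf_one] at hzo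
    omega
  · have hc := hzc (π ⟨g, hg⟩) trivial
    have h1 : π (⟨g, hg⟩ * ⟨x, hxT⟩ * (⟨g, hg⟩ : T)⁻¹ * (⟨x, hxT⟩ : T)⁻¹) = 1 := by
      rw [map_mul, map_mul, map_mul, map_inv, map_inv, hc.eq, mul_inv_cancel_right, mul_inv_cancel]
    exact mem_subgroupOf.1 ((QuotientGroup.eq_one_iff _).1 h1)

/-- The four-group criterion: an elementary invariant subgroup with a further central involution. -/
theorem Hyp.no_eight (hy : Hyp T p h) {U : Subgroup G} (hU : U ≤ T) (hU4 : Nat.card U = 4)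
    (hUn : ∀ g ∈ T, ∀ a ∈ U, g * a * g⁻¹ ∈ U) (hUc : ∀ a ∈ U, ∀ b ∈ U, Commute a b)
    (hU2 : ∀ a ∈ U, a * a = 1) {v : G} (hv : v ∈ T) (hv2 : v * v = 1) (hvU : v ∉ U)
    (hvc : ∀ a ∈ U, Commute v a) (hvn : ∀ g ∈ T, g * v * g⁻¹ * v⁻¹ ∈ U) : False := by
  have hi : v⁻¹ = v := inv_eq_of_mul_eq_one_right hv2
  let E : Subgroup G :=
    { carrier := {y | y ∈ U ∨ y * v ∈ U}
      one_mem' := Or.inl U.one_mem
      mul_mem' := by
        rintro a b (ha | ha) (hb | hb)
        · exact Or.inl (mul_mem ha hb)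
        · exact Or.inr (by rw [mul_assoc]; exact mul_mem ha hb)
        · refine Or.inr ?_
          rw [mul_assoc, ← (hvc b hb).eq, ← mul_assoc]
          exact mul_mem ha hb
        · refine Or.inl ?_
          have hb' : Commute v b := by
            have := (hvc _ hb).mul_right ((Commute.refl v).inv_right)
            rwa [mul_inv_cancel_right] at this
          have : a * b = (a * v) * (b * v) := by
            calc a * b = a * (v * v) * b := by rw [hv2, mul_one]
              _ = (a * v) * (b * v) := by rw [← hb'.eq]; group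
          rw [this]
          exact mul_mem ha hb
      inv_mem' := by
        rintro a (ha | ha)
        · exact Or.inl (inv_mem ha)
        · refine Or.inr ?_
          have : a⁻¹ * v = (a * v)⁻¹ := by
            have hc : Commute v a := by
              have := (hvc _ ha).mul_right ((Commute.refl v).inv_right)
              rwa [mul_inv_cancel_right] at this
            rw [mul_inv_rev, hi, hc.inv_right.eq]
          rw [this]
          exact inv_mem ha }
  have hvE : ∀ y ∈ E, Commute v y := by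
    rintro y (hy' | hy')
    · exact hvc y hy'
    · have := (hvc _ hy').mul_right ((Commute.refl v).inv_right)
      rwa [mul_inv_cancel_right] at this
  have hcases : ∀ y ∈ E, ∃ u ∈ U, y = u ∨ y = u * v := by
    rintro y (hy' | hy')
    · exact ⟨y, hy', Or.inl rfl⟩
    · exact ⟨y * v, hy', Or.inr (by rw [mul_assoc, hv2, mul_one])⟩
  have hle : Nat.card E ≤ 4 := by
    refine hy.rank E ?_ ?_ ?_ ?_
    · intro y hy'
      obtain ⟨u, hu, rfl | rfl⟩ := hcases y hy'
      exacts [hU hu, mul_mem (hU hu) hv]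
    · intro g hg y hy'
      obtain ⟨u, hu, rfl | rfl⟩ := hcases y hy'
      · exact Or.inl (hUn g hg y hu)
      · refine Or.inr ?_
        have hc := hvn g hg
        rw [hi] at hc
        rw [show g * (u * v) * g⁻¹ * v = g * u * g⁻¹ * (g * v * g⁻¹ * v) by group]
        exact mul_mem (hUn g hg u hu) hc
    · intro a ha b hb
      obtain ⟨u, hu, rfl | rfl⟩ := hcases a ha <;> obtain ⟨w, hw, rfl | rfl⟩ := hcases b hb
      · exact hUc _ hu _ hw
      · exact (hUc _ hu _ hw).mul_right (hvc _ hu).symm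
      · exact (hUc _ hu _ hw).mul_left (hvc _ hw)
      · exact ((hUc _ hu _ hw).mul_right (hvc _ hu).symm).mul_left ((hvc _ hw).mul_right (Commute.refl v))
    · intro a ha
      obtain ⟨u, hu, rfl | rfl⟩ := hcases a ha
      · exact hU2 a hu
      · rw [(hvc u hu).mul_mul_mul_comm u v, hU2 u hu, hv2, one_mul]
  have hlt : Nat.card U < Nat.card E := by
    rcases lt_or_eq_of_le (card_le_of_le (show U ≤ E from fun y hy' => Or.inl hy')) with hl | hl
    · exact hl
    · exact absurd (eq_of_le_of_card_ge (show U ≤ E from fun y hy' => Or.inl hy') hl.ge ▸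
        (Or.inr (by rw [hv2]; exact U.one_mem) : v ∈ E)) hvU
  omega

/-- Elementary sections have order at most sixteen. -/
theorem Hyp.section_le (hy : Hyp T p h) {Z D : Subgroup G} (hZD : Z ≤ D) (hDT : D ≤ T)
    (hn : ∀ g ∈ D, ∀ a ∈ Z, g * a * g⁻¹ ∈ Z) (hsq : ∀ d ∈ D, d * d ∈ Z) :
    Z.relIndex D ≤ 16 := by
  set H := D.subgroupOf T
  set N := (Z.subgroupOf T).subgroupOf H
  haveI : N.Normal := ⟨fun a ha g => hn (g : T) g.2 _ ha⟩
  have h2 : ∀ q : H ⧸ N, q * q = 1 := by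
    intro q
    obtain ⟨d, rfl⟩ := QuotientGroup.mk_surjective q
    rw [← QuotientGroup.mk_mul, QuotientGroup.eq_one_iff]
    exact hsq ((d : T) : G) d.2
  haveI : IsMulCommutative (⊤ : Subgroup (H ⧸ N)) := ⟨⟨fun a b => Subtype.ext (by
    have hi : ∀ x : H ⧸ N, x⁻¹ = x := fun x => inv_eq_of_mul_eq_one_right (h2 x)
    show (a : H ⧸ N) * b = b * a
    conv_lhs => rw [← hi (a * b), mul_inv_rev, hi, hi])⟩⟩
  have := hy.sec H N ⊤ inferInstance fun a _ => by rw [pow_two]; exact h2 a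
  rw [Subgroup.card_top] at this
  have e : Z.relIndex D = N.index := by
    rw [← relIndex_subgroupOf hDT]
    rfl
  rw [e]
  exact this

end Cfsg.Agent.NormalRankTwo
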