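import Mathlib
import Cfsg.Agent.Lib.NormalRankTwo.Basic

/-!
# The commutator subgroup `[T, h]` when `h` fixes all invariant abelian subgroups

It is special with centre fixed by `h`, and an element of `C_T(h)` centralising its centre centralises it.
-/

set_option autoImplicit false
set_option linter.style.haveILetI false
set_option linter.unusedSectionVars false

namespace Cfsg.Agent.NormalRankTwo

open Subgroup

variable {G : Type*} [Group G]

/-- `h` centralises every invariant abelian subgroup. -/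
def FixAb (T : Subgroup G) (h : G) : Prop :=
  ∀ A : Subgroup G, Inv T h A → (∀ a ∈ A, ∀ b ∈ A, Commute a b) → ∀ a ∈ A, Commute h a

/-- The subgroup generated by the commutators of `h` with `T`. -/
def dsub (T : Subgroup G) (h : G) : Subgroup G :=
  closure ((fun g => h * g * h⁻¹ * g⁻¹) '' (T : Set G))

/-- Its centre. -/
def zsub (T : Subgroup G) (h : G) : Subgroup G := dsub T h ⊓ centralizer (dsub T h : Set G)

variable [Finite G] {T : Subgroup G} {p : ℕ} {h : G}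

theorem comm_mem_dsub {g : G} (hg : g ∈ T) : h * g * h⁻¹ * g⁻¹ ∈ dsub T h := subset_closure ⟨g, hg, rfl⟩

theorem Hyp.dsub_inv (hy : Hyp T p h) : Inv T h (dsub T h) := by
  refine ⟨(closure_le _).2 ?_, ?_, ?_⟩
  · rintro _ ⟨g, hg, rfl⟩; exact mul_mem (hy.norm g hg) (inv_mem hg)
  · intro g hg a ha
    have hle : (dsub T h).map (MulAut.conj g).toMonoidHom ≤ dsub T h := by
      rw [dsub, MonoidHom.map_closure, closure_le]
      rintro _ ⟨_, ⟨x, hx, rfl⟩, rfl⟩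
      show g * (h * x * h⁻¹ * x⁻¹) * g⁻¹ ∈ dsub T h
      rw [show g * (h * x * h⁻¹ * x⁻¹) * g⁻¹ = (h * g * h⁻¹ * g⁻¹)⁻¹ * (h * (g * x) * h⁻¹ * (g * x)⁻¹) by group]
      exact mul_mem (inv_mem (comm_mem_dsub hg)) (comm_mem_dsub (mul_mem hg hx))
    exact hle ⟨a, ha, rfl⟩
  · intro a ha
    have hle : (dsub T h).map (MulAut.conj h).toMonoidHom ≤ dsub T h := by
      rw [dsub, MonoidHom.map_closure, closure_le]
      rintro _ ⟨_, ⟨x, hx, rfl⟩, rfl⟩
      show h * (h * x * h⁻¹ * x⁻¹) * h⁻¹ ∈ dsub T h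
      rw [show h * (h * x * h⁻¹ * x⁻¹) * h⁻¹ = h * (h * x * h⁻¹) * h⁻¹ * (h * x * h⁻¹)⁻¹ by group]
      exact comm_mem_dsub (hy.norm x hx)
    exact hle ⟨a, ha, rfl⟩

theorem Hyp.zsub_inv (hy : Hyp T p h) : Inv T h (zsub T h) := by
  have hD := hy.dsub_inv
  refine ⟨inf_le_left.trans hD.le, fun g hg a ha => ?_, fun a ha => ?_⟩
  · obtain ⟨haD, haC⟩ := mem_inf.1 ha
    refine mem_inf.2 ⟨hD.nrm g hg a haD, fun d hd => ?_⟩
    have hd' : g⁻¹ * d * g ∈ dsub T h := by simpa using hD.nrm g⁻¹ (inv_mem hg) d hd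
    calc d * (g * a * g⁻¹) = g * (g⁻¹ * d * g * a) * g⁻¹ := by group
      _ = g * (a * (g⁻¹ * d * g)) * g⁻¹ := by rw [haC _ hd']
      _ = g * a * g⁻¹ * d := by group
  · obtain ⟨haD, haC⟩ := mem_inf.1 ha
    refine mem_inf.2 ⟨hD.hinv a haD, fun d hd => ?_⟩
    have hd' : h⁻¹ * d * h ∈ dsub T h := hinv_symm hD.hinv hd
    calc d * (h * a * h⁻¹) = h * (h⁻¹ * d * h * a) * h⁻¹ := by group
      _ = h * (a * (h⁻¹ * d * h)) * h⁻¹ := by rw [haC _ hd']
      _ = h * a * h⁻¹ * d := by group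

theorem zsub_comm {a d : G} (ha : a ∈ zsub T h) (hd : d ∈ dsub T h) : Commute a d :=
  ((mem_inf.1 ha).2 d hd).symm

/-- `T` is the product of `[T, h]` and the fixed points of `h`. -/
theorem Hyp.exists_prod (hy : Hyp T p h) {g : G} (hg : g ∈ T) :
    ∃ d ∈ dsub T h, ∃ r ∈ T, Commute h r ∧ g = d * r := by
  have hD := hy.dsub_inv
  obtain ⟨n, hn, hc⟩ := hy.exists_fixed hD.le hD.hinv (g := g) (by
    have := hD.nrm g⁻¹ (inv_mem hg) _ (comm_mem_dsub hg)
    rwa [show g⁻¹ * (h * g * h⁻¹ * g⁻¹) * g⁻¹⁻¹ = g⁻¹ * (h * g * h⁻¹) by group] at this)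
  exact ⟨g * n⁻¹ * g⁻¹, hD.nrm g hg _ (inv_mem hn), g * n, mul_mem hg (hD.le hn), hc, by group⟩

/-- `[T, h]` is generated by the commutators of `h` with itself. -/
theorem Hyp.dsub_le_closure (hy : Hyp T p h) :
    dsub T h ≤ closure ((fun g => h * g * h⁻¹ * g⁻¹) '' (dsub T h : Set G)) := by
  refine (closure_le _).2 ?_
  rintro _ ⟨g, hg, rfl⟩
  obtain ⟨d, hd, r, -, hr, rfl⟩ := hy.exists_prod hg
  refine subset_closure ⟨d, hd, ?_⟩
  show h * d * h⁻¹ * d⁻¹ = h * (d * r) * h⁻¹ * (d * r)⁻¹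
  rw [show h * (d * r) * h⁻¹ = h * d * h⁻¹ * (h * r * h⁻¹) by group, conj_eq_of_commute hr]
  group

/-- Invariant abelian subgroups are centralised by `[T, h]`. -/
theorem commute_of_inv (hf : FixAb T h) {A : Subgroup G} (hA : Inv T h A)
    (hc : ∀ a ∈ A, ∀ b ∈ A, Commute a b) {a : G} (ha : a ∈ A) {d : G} (hd : d ∈ dsub T h) : Commute d a := by
  have hle : dsub T h ≤ centralizer ({a} : Set G) := by
    refine (closure_le _).2 ?_
    rintro _ ⟨g, hg, rfl⟩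
    refine mem_centralizer_singleton_iff.2 ?_
    have hga : g⁻¹ * a * g ∈ A := by simpa using hA.nrm g⁻¹ (inv_mem hg) a ha
    have e1 := conj_eq_of_commute (hf A hA hc _ hga)
    have e2 := conj_eq_of_commute (hf A hA hc a ha)
    have e3 : (g * h * g⁻¹ * h⁻¹) * a * (g * h * g⁻¹ * h⁻¹)⁻¹ = a := by
      calc (g * h * g⁻¹ * h⁻¹) * a * (g * h * g⁻¹ * h⁻¹)⁻¹
          = g * (h * (g⁻¹ * (h⁻¹ * a * h) * g) * h⁻¹) * g⁻¹ := by group
        _ = g * (h * (g⁻¹ * a * g) * h⁻¹) * g⁻¹ := by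
          rw [show h⁻¹ * a * h = a by
            conv_lhs => rw [← e2]
            group]
        _ = a := by rw [e1]; group
    have := (commute_of_conj_eq e3).inv_left
    rw [show (g * h * g⁻¹ * h⁻¹)⁻¹ = h * g * h⁻¹ * g⁻¹ by group] at this
    exact this.eq
  exact mem_centralizer_singleton_iff.1 (hle hd)

theorem le_zsub (hf : FixAb T h) {A : Subgroup G} (hA : Inv T h A) (hc : ∀ a ∈ A, ∀ b ∈ A, Commute a b)
    (hle : A ≤ dsub T h) : A ≤ zsub T h := fun a ha =>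
  mem_inf.2 ⟨hle ha, fun _ hd => (commute_of_inv hf hA hc ha hd).eq⟩

theorem Hyp.zsub_fixed (hy : Hyp T p h) (hf : FixAb T h) {z : G} (hz : z ∈ zsub T h) : Commute h z :=
  hf _ hy.zsub_inv (fun _ ha _ hb => zsub_comm ha (mem_inf.1 hb).1) z hz

/-- `[T, h]` modulo its centre is elementary abelian. -/
theorem Hyp.dsub_special (hy : Hyp T p h) (hf : FixAb T h) :
    (∀ d ∈ dsub T h, d * d ∈ zsub T h) ∧ (∀ d ∈ dsub T h, ∀ e ∈ dsub T h, d * e * d⁻¹ * e⁻¹ ∈ zsub T h) ∧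
      ∀ d ∈ dsub T h, ∀ e ∈ dsub T h, (d * e * d⁻¹ * e⁻¹) * (d * e * d⁻¹ * e⁻¹) = 1 := by
  have hD := hy.dsub_inv
  have hZ := hy.zsub_inv
  have hcz : ∀ z ∈ zsub T h, ∀ g ∈ dsub T h, g * z * g⁻¹ = z := fun z hz g hg =>
    conj_eq_of_commute (zsub_comm hz hg).symm
  let K : Subgroup G :=
    { carrier := {x | x ∈ dsub T h ∧ x * x ∈ zsub T h ∧ ∀ y ∈ dsub T h, y * x * y⁻¹ * x⁻¹ ∈ zsub T h}
      one_mem' := ⟨one_mem _, by rw [mul_one]; exact one_mem _, fun y _ => by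
        rw [show y * 1 * y⁻¹ * (1 : G)⁻¹ = 1 by group]; exact one_mem _⟩
      mul_mem' := by
        rintro a b ⟨ha, ha2, hac⟩ ⟨hb, hb2, hbc⟩
        refine ⟨mul_mem ha hb, ?_, fun y hy' => ?_⟩
        · have hc := hac b hb
          rw [show a * b * (a * b) = a * (b * a * b⁻¹ * a⁻¹) * a⁻¹ * (a * a) * (b * b) by group,
            hcz _ hc a ha]
          exact mul_mem (mul_mem hc ha2) hb2
        · rw [show y * (a * b) * y⁻¹ * (a * b)⁻¹ = y * a * y⁻¹ * a⁻¹ * (a * (y * b * y⁻¹ * b⁻¹) * a⁻¹) by group,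
            hcz _ (hbc y hy') a ha]
          exact mul_mem (hac y hy') (hbc y hy')
      inv_mem' := by
        rintro a ⟨ha, ha2, hac⟩
        refine ⟨inv_mem ha, ?_, fun y hy' => ?_⟩
        · rw [show a⁻¹ * a⁻¹ = (a * a)⁻¹ by group]; exact inv_mem ha2
        · rw [show y * a⁻¹ * y⁻¹ * a⁻¹⁻¹ = a⁻¹ * (y * a * y⁻¹ * a⁻¹)⁻¹ * a⁻¹⁻¹ by group,
            hcz _ (inv_mem (hac y hy')) _ (inv_mem ha)]
          exact inv_mem (hac y hy') }
  have hK : Inv T h K := by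
    refine ⟨fun x hx => hD.le hx.1, ?_, ?_⟩
    · rintro g hg x ⟨hx, hx2, hxc⟩
      refine ⟨hD.nrm g hg x hx, by rw [sq_conj]; exact hZ.nrm g hg _ hx2, fun y hy' => ?_⟩
      rw [show y * (g * x * g⁻¹) * y⁻¹ * (g * x * g⁻¹)⁻¹ =
        g * ((g⁻¹ * y * g⁻¹⁻¹) * x * (g⁻¹ * y * g⁻¹⁻¹)⁻¹ * x⁻¹) * g⁻¹ by group]
      exact hZ.nrm g hg _ (hxc _ (hD.nrm _ (inv_mem hg) y hy'))
    · rintro x ⟨hx, hx2, hxc⟩
      refine ⟨hD.hinv x hx, by rw [sq_conj]; exact hZ.hinv _ hx2, fun y hy' => ?_⟩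
      rw [show y * (h * x * h⁻¹) * y⁻¹ * (h * x * h⁻¹)⁻¹ =
        h * ((h⁻¹ * y * h) * x * (h⁻¹ * y * h)⁻¹ * x⁻¹) * h⁻¹ by group]
      exact hZ.hinv _ (hxc _ (hinv_symm hD.hinv hy'))
  set C := dsub T h ⊓ centralizer (K : Set G) with hCdef
  have hC : Inv T h C := by
    refine ⟨inf_le_left.trans hD.le, ?_, ?_⟩
    · intro g hg c hc
      refine mem_inf.2 ⟨hD.nrm g hg c (mem_inf.1 hc).1, fun k hk => ?_⟩
      have hk' : g⁻¹ * k * g ∈ K := by simpa using hK.nrm g⁻¹ (inv_mem hg) k hk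
      calc k * (g * c * g⁻¹) = g * (g⁻¹ * k * g * c) * g⁻¹ := by group
        _ = g * (c * (g⁻¹ * k * g)) * g⁻¹ := by rw [(mem_inf.1 hc).2 _ hk']
        _ = g * c * g⁻¹ * k := by group
    · intro c hc
      refine mem_inf.2 ⟨hD.hinv c (mem_inf.1 hc).1, fun k hk => ?_⟩
      have hk' : h⁻¹ * k * h ∈ K := hinv_symm hK.hinv hk
      calc k * (h * c * h⁻¹) = h * (h⁻¹ * k * h * c) * h⁻¹ := by group
        _ = h * (c * (h⁻¹ * k * h)) * h⁻¹ := by rw [(mem_inf.1 hc).2 _ hk']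
        _ = h * c * h⁻¹ * k := by group
  have hCK : C ⊓ K ≤ zsub T h := le_zsub hf
    ⟨inf_le_left.trans hC.le, fun g hg a ha => mem_inf.2 ⟨hC.nrm g hg a (mem_inf.1 ha).1, hK.nrm g hg a (mem_inf.1 ha).2⟩,
      fun a ha => mem_inf.2 ⟨hC.hinv a (mem_inf.1 ha).1, hK.hinv a (mem_inf.1 ha).2⟩⟩
    (fun a ha b hb => ((mem_inf.1 (mem_inf.1 ha).1).2 b (mem_inf.1 hb).2).symm)
    (inf_le_left.trans inf_le_left)
  have hCZ : C ≤ zsub T h := by
    by_contra hne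
    have hZC : zsub T h ≤ C := fun z hz =>
      mem_inf.2 ⟨(mem_inf.1 hz).1, fun k hk => ((zsub_comm hz hk.1).symm).eq⟩
    obtain ⟨x, hx, hxZ, hx2, hxc⟩ := exists_central_mod hy.two hZC hC.le hZ.nrm hC.nrm (fun e => hne e.ge)
    exact hxZ (hCK (mem_inf.2 ⟨hx, (mem_inf.1 hx).1, hx2, fun y hy' => hxc y (hD.le hy')⟩))
  -- how elements of `[T, h]` move `K`
  have hact : ∀ d ∈ dsub T h, ∀ x ∈ K, ∃ z ∈ zsub T h, z * z = 1 ∧ d * x * d⁻¹ = z * x := by
    intro d hd x hx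
    have hz := hx.2.2 d hd
    refine ⟨_, hz, ?_, by group⟩
    have h1 := hcz _ hx.2.1 d hd
    rw [← sq_conj, show d * x * d⁻¹ = d * x * d⁻¹ * x⁻¹ * x by group] at h1
    set z := d * x * d⁻¹ * x⁻¹
    rw [((zsub_comm hz hx.1).symm).mul_mul_mul_comm z x] at h1
    exact mul_eq_right.1 h1
  have hsq : ∀ d ∈ dsub T h, d * d ∈ zsub T h := by
    intro d hd
    refine hCZ (mem_inf.2 ⟨mul_mem hd hd, fun x hx => ?_⟩)
    obtain ⟨z, hz, hz2, he⟩ := hact d hd x hx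
    refine (Commute.eq ?_).symm
    refine commute_of_conj_eq ?_
    calc d * d * x * (d * d)⁻¹ = d * (d * x * d⁻¹) * d⁻¹ := by group
      _ = d * (z * x) * d⁻¹ := by rw [he]
      _ = d * z * d⁻¹ * (d * x * d⁻¹) := by group
      _ = x := by rw [hcz z hz d hd, he, ← mul_assoc, hz2, one_mul]
  have hcomm : ∀ d ∈ dsub T h, ∀ e ∈ dsub T h, d * e * d⁻¹ * e⁻¹ ∈ zsub T h := by
    intro d hd e he
    refine hCZ (mem_inf.2 ⟨mul_mem (mul_mem (mul_mem hd he) (inv_mem hd)) (inv_mem he), fun x hx => ?_⟩)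
    obtain ⟨z, hz, hz2, h1⟩ := hact d hd x hx
    obtain ⟨w, hw, hw2, h2⟩ := hact e he x hx
    have hdi : d⁻¹ * x * d = z * x := by
      have h' : x = z * (d⁻¹ * x * d) := by
        calc x = d⁻¹ * (d * x * d⁻¹) * d := by group
          _ = d⁻¹ * z * d⁻¹⁻¹ * (d⁻¹ * x * d) := by rw [h1]; group
          _ = _ := by rw [hcz z hz _ (inv_mem hd)]
      conv_rhs => rw [h', ← mul_assoc, hz2, one_mul]
    have hei : e⁻¹ * x * e = w * x := by
      have h' : x = w * (e⁻¹ * x * e) := by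
        calc x = e⁻¹ * (e * x * e⁻¹) * e := by group
          _ = e⁻¹ * w * e⁻¹⁻¹ * (e⁻¹ * x * e) := by rw [h2]; group
          _ = _ := by rw [hcz w hw _ (inv_mem he)]
      conv_rhs => rw [h', ← mul_assoc, hw2, one_mul]
    refine (Commute.eq ?_).symm
    refine commute_of_conj_eq ?_
    calc d * e * d⁻¹ * e⁻¹ * x * (d * e * d⁻¹ * e⁻¹)⁻¹ = d * (e * (d⁻¹ * (e⁻¹ * x * e) * d) * e⁻¹) * d⁻¹ := by group
      _ = d * (e * (d⁻¹ * w * d⁻¹⁻¹ * (d⁻¹ * x * d)) * e⁻¹) * d⁻¹ := by rw [hei]; group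
      _ = d * (e * (w * z) * e⁻¹ * (e * x * e⁻¹)) * d⁻¹ := by rw [hcz w hw _ (inv_mem hd), hdi]; group
      _ = d * (w * z * w) * d⁻¹ * (d * x * d⁻¹) := by rw [hcz _ (mul_mem hw hz) e he, h2]; group
      _ = x := by
        rw [hcz _ (mul_mem (mul_mem hw hz) hw) d hd, h1, show w * z * w = z by
          rw [(zsub_comm hw (mem_inf.1 hz).1).eq, mul_assoc, hw2, mul_one], ← mul_assoc, hz2, one_mul]
  refine ⟨hsq, hcomm, fun d hd e he => ?_⟩
  set z := d * e * d⁻¹ * e⁻¹ with hzdef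
  have hz := hcomm d hd e he
  have h1 : d * d * e * (d * d)⁻¹ = e := conj_eq_of_commute (zsub_comm (hsq d hd) he)
  have h2 : d * d * e * (d * d)⁻¹ = z * z * e := by
    calc d * d * e * (d * d)⁻¹ = d * z * d⁻¹ * (d * e * d⁻¹) := by rw [hzdef]; group
      _ = z * (z * e) := by rw [hcz z hz d hd]; congr 1; rw [hzdef]; group
      _ = _ := by group
  exact mul_eq_right.1 (h2.symm.trans h1)

/-- No element outside an invariant subgroup containing the commutators is fixed modulo it. -/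
theorem Hyp.fpf_mod (hy : Hyp T p h) {N : Subgroup G} (hNh : ∀ a ∈ N, h * a * h⁻¹ ∈ N)
    (hN : N ≤ dsub T h) (hc : ∀ d ∈ dsub T h, ∀ e ∈ dsub T h, d * e * d⁻¹ * e⁻¹ ∈ N)
    {d : G} (hd : d ∈ dsub T h) (hdN : h * d * h⁻¹ * d⁻¹ ∈ N) : d ∈ N := by
  have hD := hy.dsub_inv
  set D := dsub T h with hDdef
  haveI : (N.subgroupOf D).Normal := ⟨fun a ha g => mem_subgroupOf.2 (by
    have h1 := mul_mem (hc g g.2 a a.2) ha
    simpa using h1)⟩
  set π := QuotientGroup.mk' (N.subgroupOf D)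
  have hab : ∀ a b : D, Commute (π a) (π b) := fun a b => commute_of_conj_eq (by
    rw [← map_mul, ← map_inv, ← map_mul]
    refine QuotientGroup.eq.2 (mem_subgroupOf.2 ?_)
    have := hc a a.2 (b : G)⁻¹ (inv_mem b.2)
    simpa [mul_assoc] using this)
  let ψ : D →* D ⧸ N.subgroupOf D :=
    { toFun := fun a => π ⟨h * a * h⁻¹ * (a : G)⁻¹, mul_mem (hD.hinv a a.2) (inv_mem a.2)⟩
      map_one' := by
        convert map_one π using 2
        exact Subtype.ext (by simp)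
      map_mul' := fun a b => by
        set a' : D := ⟨h * a * h⁻¹ * (a : G)⁻¹, mul_mem (hD.hinv a a.2) (inv_mem a.2)⟩
        set b' : D := ⟨h * b * h⁻¹ * (b : G)⁻¹, mul_mem (hD.hinv b b.2) (inv_mem b.2)⟩
        calc π ⟨h * (a * b : D) * h⁻¹ * ((a * b : D) : G)⁻¹, _⟩ = π (a' * (a * b' * a⁻¹)) := by
              congr 1
              exact Subtype.ext (by simp [a', b']; group)
          _ = π a' * π b' := by rw [map_mul, map_mul, map_mul, map_inv, (hab a b').eq, mul_inv_cancel_right] }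
  have hsurj : Function.Surjective ψ := by
    intro q
    obtain ⟨⟨a, ha⟩, rfl⟩ := QuotientGroup.mk'_surjective _ q
    have hmain : ∀ b, b ∈ closure ((fun g => h * g * h⁻¹ * g⁻¹) '' (D : Set G)) →
        ∀ hb : b ∈ D, π ⟨b, hb⟩ ∈ ψ.range := by
      intro b hb
      have hle : closure ((fun g => h * g * h⁻¹ * g⁻¹) '' (D : Set G)) ≤ (ψ.range.comap π).map D.subtype := by
        refine (closure_le _).2 ?_
        rintro _ ⟨g, hg, rfl⟩
        exact ⟨⟨_, mul_mem (hD.hinv g hg) (inv_mem hg)⟩, ⟨⟨g, hg⟩, rfl⟩, rfl⟩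
      obtain ⟨c, hc', rfl⟩ := hle hb
      intro hb'
      exact hc'
    exact hmain a (hy.dsub_le_closure ha) ha
  have hker : ψ.ker = N.subgroupOf D := by
    have hle : N.subgroupOf D ≤ ψ.ker := fun a ha => MonoidHom.mem_ker.2 ((QuotientGroup.eq_one_iff _).2
      (mem_subgroupOf.2 (mul_mem (hNh a ha) (inv_mem ha))))
    refine (eq_of_le_of_card_ge hle ?_).symm
    have h1 : ψ.ker.index = (N.subgroupOf D).index := by
      rw [index_ker, MonoidHom.range_eq_top.2 hsurj, card_top]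
      rfl
    have h2 := ψ.ker.card_mul_index
    have h3 := (N.subgroupOf D).card_mul_index
    rw [h1] at h2
    exact (Nat.eq_of_mul_eq_mul_right (Nat.pos_of_ne_zero index_ne_zero_of_finite) (h2.trans h3.symm)).le
  have : (⟨d, hd⟩ : D) ∈ ψ.ker := MonoidHom.mem_ker.2 ((QuotientGroup.eq_one_iff _).2 (mem_subgroupOf.2 hdN))
  rw [hker] at this
  exact this

/-- The centre is elementary and generated by commutators. -/
theorem Hyp.zsub_elementary (hy : Hyp T p h) (hf : FixAb T h) {z : G} (hz : z ∈ zsub T h) : z * z = 1 := by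
  obtain ⟨-, hc, hc2⟩ := hy.dsub_special hf
  let N : Subgroup G :=
    { carrier := {x | x ∈ zsub T h ∧ x * x = 1}
      one_mem' := ⟨one_mem _, by rw [mul_one]⟩
      mul_mem' := fun {a b} ha hb => ⟨mul_mem ha.1 hb.1, by
        rw [(zsub_comm hb.1 (mem_inf.1 ha.1).1).mul_mul_mul_comm a b, ha.2, hb.2, one_mul]⟩
      inv_mem' := fun {a} ha => ⟨inv_mem ha.1, by rw [← mul_inv_rev, ha.2, inv_one]⟩ }
  have hzN : z ∈ N := hy.fpf_mod (N := N)
    (fun a ha => by rw [conj_eq_of_commute (hy.zsub_fixed hf ha.1)]; exact ha)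
    (fun a ha => (mem_inf.1 ha.1).1) (fun d hd e he => ⟨hc d hd e he, hc2 d hd e he⟩) (mem_inf.1 hz).1
    (by rw [conj_eq_of_commute (hy.zsub_fixed hf hz), mul_inv_cancel]; exact N.one_mem)
  exact hzN.2

theorem Hyp.zsub_le_four (hy : Hyp T p h) (hf : FixAb T h) : Nat.card (zsub T h) ≤ 4 :=
  hy.rank _ hy.zsub_inv.le hy.zsub_inv.nrm (fun _ ha _ hb => zsub_comm ha (mem_inf.1 hb).1)
    fun _ ha => hy.zsub_elementary hf ha

/-- Modulo the centre nothing is fixed. -/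
theorem Hyp.fpf (hy : Hyp T p h) (hf : FixAb T h) {d : G} (hd : d ∈ dsub T h)
    (hdZ : h * d * h⁻¹ * d⁻¹ ∈ zsub T h) : d ∈ zsub T h :=
  hy.fpf_mod hy.zsub_inv.hinv inf_le_left (hy.dsub_special hf).2.1 hd hdZ

/-- A fixed element centralising the centre centralises `[T, h]`. -/
theorem Hyp.commute_dsub (hy : Hyp T p h) (hf : FixAb T h) {r : G} (hr : r ∈ T) (hrh : Commute h r)
    (hrZ : ∀ z ∈ zsub T h, Commute r z) {d : G} (hd : d ∈ dsub T h) : Commute r d := by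
  have hD := hy.dsub_inv
  have hZ := hy.zsub_inv
  obtain ⟨hsq, hcomm, hcomm2⟩ := hy.dsub_special hf
  -- all fixed elements centralising the centre
  let S : Set G := {w | ∃ g ∈ T, ∃ e ∈ dsub T h, Commute h g ∧ (∀ z ∈ zsub T h, Commute g z) ∧
    w = e⁻¹ * (g * e * g⁻¹)}
  set M := closure (S ∪ (zsub T h : Set G)) with hM
  have hSD : ∀ w ∈ S, w ∈ dsub T h := by
    rintro _ ⟨g, hg, e, he, -, -, rfl⟩
    exact mul_mem (inv_mem he) (hD.nrm g hg e he)
  have hMD : M ≤ dsub T h := (closure_le _).2 (Set.union_subset hSD fun z hz => (mem_inf.1 hz).1)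
  have hMn : ∀ g ∈ T, ∀ a ∈ M, g * a * g⁻¹ ∈ M := by
    intro g hg a ha
    obtain ⟨c, hc, s, hs, hsh, rfl⟩ := hy.exists_prod hg
    have hstep : M.map (MulAut.conj s).toMonoidHom ≤ M := by
      rw [hM, MonoidHom.map_closure, closure_le]
      rintro _ ⟨w, hw | hw, rfl⟩
      · obtain ⟨g', hg', e, he, hg'h, hg'Z, rfl⟩ := hw
        refine subset_closure (Or.inl ⟨s * g' * s⁻¹, mul_mem (mul_mem hs hg') (inv_mem hs), s * e * s⁻¹,
          hD.nrm s hs e he, (hsh.mul_right hg'h).mul_right hsh.inv_right, fun z hz => ?_, by simp; group⟩)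
        have := conj_commute (c := s) (hg'Z _ (hZ.nrm s⁻¹ (inv_mem hs) z hz))
        rwa [show s * (s⁻¹ * z * s⁻¹⁻¹) * s⁻¹ = z by group] at this
      · exact subset_closure (Or.inr (hZ.nrm s hs w hw))
    have ha' : s * a * s⁻¹ ∈ M := hstep ⟨a, ha, rfl⟩
    rw [show c * s * a * (c * s)⁻¹ = c * (s * a * s⁻¹) * c⁻¹ * (s * a * s⁻¹)⁻¹ * (s * a * s⁻¹) by group]
    exact mul_mem (subset_closure (Or.inr (hcomm c hc _ (hMD ha')))) ha'
  have hMh : ∀ a ∈ M, h * a * h⁻¹ ∈ M := by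
    intro a ha
    have hstep : M.map (MulAut.conj h).toMonoidHom ≤ M := by
      rw [hM, MonoidHom.map_closure, closure_le]
      rintro _ ⟨w, hw | hw, rfl⟩
      · obtain ⟨g, hg, e, he, hgh, hgZ, rfl⟩ := hw
        refine subset_closure (Or.inl ⟨g, hg, h * e * h⁻¹, hD.hinv e he, hgh, hgZ, ?_⟩)
        show h * (e⁻¹ * (g * e * g⁻¹)) * h⁻¹ = _
        calc h * (e⁻¹ * (g * e * g⁻¹)) * h⁻¹ = (h * e * h⁻¹)⁻¹ * ((h * g * h⁻¹) * (h * e * h⁻¹) * (h * g * h⁻¹)⁻¹) := by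
              group
          _ = _ := by rw [conj_eq_of_commute hgh]
      · exact subset_closure (Or.inr (hZ.hinv w hw))
    exact hstep ⟨a, ha, rfl⟩
  let F : Subgroup G :=
    { carrier := {v | v ∈ M ∧ ∀ g ∈ T, g * v * g⁻¹ * v⁻¹ ∈ zsub T h}
      one_mem' := ⟨one_mem _, fun g _ => by rw [show g * 1 * g⁻¹ * (1 : G)⁻¹ = 1 by group]; exact one_mem _⟩
      mul_mem' := by
        rintro a b ⟨ha, hac⟩ ⟨hb, hbc⟩
        refine ⟨mul_mem ha hb, fun g hg => ?_⟩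
        rw [show g * (a * b) * g⁻¹ * (a * b)⁻¹ = g * a * g⁻¹ * a⁻¹ * (a * (g * b * g⁻¹ * b⁻¹) * a⁻¹) by group,
          conj_eq_of_commute (zsub_comm (hbc g hg) (hMD ha)).symm]
        exact mul_mem (hac g hg) (hbc g hg)
      inv_mem' := by
        rintro a ⟨ha, hac⟩
        refine ⟨inv_mem ha, fun g hg => ?_⟩
        rw [show g * a⁻¹ * g⁻¹ * a⁻¹⁻¹ = a⁻¹ * (g * a * g⁻¹ * a⁻¹)⁻¹ * a⁻¹⁻¹ by group,
          conj_eq_of_commute (zsub_comm (inv_mem (hac g hg)) (inv_mem (hMD ha))).symm]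
        exact inv_mem (hac g hg) }
  have hFcomm : ∀ v ∈ F, ∀ a ∈ M, Commute v a := by
    intro v hv a ha
    have hle : M ≤ centralizer ({v} : Set G) := by
      rw [hM, closure_le]
      rintro w (⟨g, hg, e, he, -, hgZ, rfl⟩ | hw)
      · refine mem_centralizer_singleton_iff.2 ?_
        set z := g * v * g⁻¹ * v⁻¹ with hz
        have hzc : z ∈ zsub T h := hv.2 g hg
        have hc := hcomm e he v (hMD hv.1)
        set c := e * v * e⁻¹ * v⁻¹ with hcdef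
        have hgc : g * c * g⁻¹ = c := conj_eq_of_commute (hgZ c hc)
        have hge : g * e * g⁻¹ * v * (g * e * g⁻¹)⁻¹ = c * v := by
          have hgv : g * v * g⁻¹ = z * v := by rw [hz, inv_mul_cancel_right]
          calc g * e * g⁻¹ * v * (g * e * g⁻¹)⁻¹
              = g * e * g⁻¹ * (z⁻¹ * (g * v * g⁻¹)) * (g * e * g⁻¹)⁻¹ := by rw [hgv, inv_mul_cancel_left]
            _ = (g * e * g⁻¹ * z⁻¹ * (g * e * g⁻¹)⁻¹) * (g * (e * v * e⁻¹) * g⁻¹) := by group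
            _ = z⁻¹ * (g * c * g⁻¹ * (g * v * g⁻¹)) := by
              rw [conj_eq_of_commute (zsub_comm (inv_mem hzc) (hD.nrm g hg e he)).symm, hcdef]; group
            _ = c * v := by
              rw [hgc, hgv, ← mul_assoc, ← mul_assoc, (zsub_comm (inv_mem hzc) (mem_inf.1 hc).1).eq,
                inv_mul_cancel_right]
        refine (commute_of_conj_eq ?_).eq
        calc e⁻¹ * (g * e * g⁻¹) * v * (e⁻¹ * (g * e * g⁻¹))⁻¹
            = e⁻¹ * (g * e * g⁻¹ * v * (g * e * g⁻¹)⁻¹) * e := by group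
          _ = v := by
              rw [hge, show c * v = e * v * e⁻¹ by rw [hcdef, inv_mul_cancel_right]]; group
      · exact mem_centralizer_singleton_iff.2 (zsub_comm hw (hMD hv.1)).eq
    exact (mem_centralizer_singleton_iff.1 (hle ha) : Commute a v).symm
  have hFinv : Inv T h F := by
    refine ⟨fun v hv => hD.le (hMD hv.1), ?_, ?_⟩
    · rintro g hg v ⟨hv, hvc⟩
      refine ⟨hMn g hg v hv, fun s hs => ?_⟩
      rw [show s * (g * v * g⁻¹) * s⁻¹ * (g * v * g⁻¹)⁻¹ = g * ((g⁻¹ * s * g) * v * (g⁻¹ * s * g)⁻¹ * v⁻¹) * g⁻¹ by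
        group]
      exact hZ.nrm g hg _ (hvc _ (mul_mem (mul_mem (inv_mem hg) hs) hg))
    · rintro v ⟨hv, hvc⟩
      refine ⟨hMh v hv, fun s hs => ?_⟩
      rw [show s * (h * v * h⁻¹) * s⁻¹ * (h * v * h⁻¹)⁻¹ = h * ((h⁻¹ * s * h) * v * (h⁻¹ * s * h)⁻¹ * v⁻¹) * h⁻¹ by
        group]
      exact hZ.hinv _ (hvc _ (hinv_symm hy.norm hs))
  have hFZ : F ≤ zsub T h := le_zsub hf hFinv (fun v hv w hw => hFcomm v hv w hw.1) (fun v hv => hMD hv.1)
  have hMZ : M ≤ zsub T h := by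
    by_contra hne
    have hZM : zsub T h ≤ M := fun z hz => subset_closure (Or.inr hz)
    obtain ⟨x, hx, hxZ, -, hxc⟩ := exists_central_mod hy.two hZM (hMD.trans hD.le) hZ.nrm hMn (fun e => hne e.ge)
    exact hxZ (hFZ ⟨hx, hxc⟩)
  -- `r` acts by homomorphisms into the centre
  have hz : ∀ e ∈ dsub T h, e⁻¹ * (r * e * r⁻¹) ∈ zsub T h := fun e he =>
    hMZ (subset_closure (Or.inl ⟨r, hr, e, he, hrh, hrZ, rfl⟩))
  have hle : dsub T h ≤ centralizer ({r} : Set G) := by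
    refine hy.dsub_le_closure.trans ((closure_le _).2 ?_)
    rintro _ ⟨e, he, rfl⟩
    refine mem_centralizer_singleton_iff.2 (commute_of_conj_eq ?_).symm.eq
    set z := e⁻¹ * (r * e * r⁻¹) with hzdef
    have hze : r * e * r⁻¹ = e * z := by rw [hzdef, mul_inv_cancel_left]
    have hzh : r * (h * e * h⁻¹) * r⁻¹ = h * e * h⁻¹ * z := by
      calc r * (h * e * h⁻¹) * r⁻¹ = r * h * e * (r * h)⁻¹ := by group
        _ = h * (r * e * r⁻¹) * h⁻¹ := by rw [← hrh.eq]; group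
        _ = h * e * h⁻¹ * (h * z * h⁻¹) := by rw [hze]; group
        _ = _ := by rw [conj_eq_of_commute (hy.zsub_fixed hf (hz e he))]
    calc r * (h * e * h⁻¹ * e⁻¹) * r⁻¹ = r * (h * e * h⁻¹) * r⁻¹ * (r * e * r⁻¹)⁻¹ := by group
      _ = h * e * h⁻¹ * e⁻¹ := by rw [hzh, hze]; group
  exact (mem_centralizer_singleton_iff.1 (hle hd) : Commute d r).symm

end Cfsg.Agent.NormalRankTwo
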