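import Mathlib
import Cfsg.Agent.Lib.NormalRankTwo.Special

/-!
# The order of `T` when the centre of `[T, h]` has order four
-/

set_option autoImplicit false
set_option linter.style.haveILetI false
set_option linter.unusedSectionVars false

namespace Cfsg.Agent.NormalRankTwo

open Subgroup

variable {G : Type*} [Group G] [Finite G] {T : Subgroup G} {p : ℕ} {h : G}

/-- An index at most two from products outside. -/
theorem relIndex_le_two {C D : Subgroup G} (hmul : ∀ a ∈ D, a ∉ C → ∀ b ∈ D, b ∉ C → a * b ∈ C) :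
    C.relIndex D ≤ 2 := by
  by_cases hDC : D ≤ C
  · rw [relIndex_eq_one.2 hDC]; omega
  obtain ⟨a, ha, haC⟩ := SetLike.not_le_iff_exists.1 hDC
  refine le_of_eq (index_eq_two_iff.2 ⟨⟨a, ha⟩, fun b => ?_⟩)
  by_cases hb : (b : G) ∈ C
  · refine Or.inr ⟨hb, fun h1 => haC ?_⟩
    exact (mul_mem_cancel_left hb).1 (mem_subgroupOf.1 h1)
  · exact Or.inl ⟨mem_subgroupOf.2 (hmul b b.2 hb a ha haC), hb⟩

/-- Products outside a subgroup of index two. -/
theorem mul_mem_of_relIndex_two {C D : Subgroup G} (hCD : C.relIndex D = 2) {a b : G} (ha : a ∈ D) (hb : b ∈ D)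
    (haC : a ∉ C) (hbC : b ∉ C) : a * b ∈ C :=
  mem_subgroupOf.1 ((mul_mem_iff_of_index_two (H := C.subgroupOf D) hCD (a := ⟨a, ha⟩) (b := ⟨b, hb⟩)).2
    ⟨fun h1 => absurd h1 haC, fun h1 => absurd h1 hbC⟩)

theorem relIndex_pow (hT : IsPGroup 2 T) (N : Subgroup G) {D : Subgroup G} (hD : D ≤ T) :
    ∃ k, N.relIndex D = 2 ^ k := by
  haveI : Fact (Nat.Prime 2) := ⟨Nat.prime_two⟩
  exact (hT.to_le hD).index (N.subgroupOf D)

/-- Adding one element to a subgroup containing all commutators. -/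
theorem exists_ext {N D : Subgroup G} (hND : N ≤ D) (hc : ∀ d ∈ D, ∀ e ∈ D, d * e * d⁻¹ * e⁻¹ ∈ N) {x : G}
    (hx : x ∈ D) (hx2 : x * x ∈ N) : ∃ E : Subgroup G, N ≤ E ∧ E ≤ D ∧ x ∈ E ∧ N.relIndex E ≤ 2 ∧
      ∀ e ∈ E, e ∈ N ∨ e * x ∈ N := by
  have hswap : ∀ b ∈ D, b * x ∈ N → x * b ∈ N := fun b hb h1 => by
    have := mul_mem (hc x hx b hb) h1
    rwa [show x * b * x⁻¹ * b⁻¹ * (b * x) = x * b by group] at this
  have hn : ∀ b ∈ D, ∀ n ∈ N, b * n * b⁻¹ ∈ N := fun b hb n hn => by
    simpa using mul_mem (hc b hb n (hND hn)) hn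
  have hlow : ∀ b, b * x ∈ N → b ∈ D := fun b h1 => (mul_mem_cancel_right hx).1 (hND h1)
  let E : Subgroup G :=
    { carrier := {e | e ∈ N ∨ e * x ∈ N}
      one_mem' := Or.inl N.one_mem
      mul_mem' := by
        rintro a b (ha | ha) (hb | hb)
        · exact Or.inl (mul_mem ha hb)
        · exact Or.inr (by rw [mul_assoc]; exact mul_mem ha hb)
        · refine Or.inr ?_
          rw [show a * b * x = a * x * (x⁻¹ * b * x⁻¹⁻¹) by group]
          exact mul_mem ha (hn _ (inv_mem hx) b hb)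
        · refine Or.inl ?_
          have h3 := mul_mem (mul_mem ha (inv_mem hx2)) (hswap b (hlow b hb) hb)
          rwa [show a * x * (x * x)⁻¹ * (x * b) = a * b by group] at h3
      inv_mem' := by
        rintro a (ha | ha)
        · exact Or.inl (inv_mem ha)
        · refine Or.inr ?_
          have h1 := mul_mem (inv_mem (hswap a (hlow a ha) ha)) hx2
          rwa [show (x * a)⁻¹ * (x * x) = a⁻¹ * x by group] at h1 }
  refine ⟨E, fun n hn' => Or.inl hn', ?_, Or.inr hx2, relIndex_le_two ?_, fun e he => he⟩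
  · rintro e (he | he)
    exacts [hND he, hlow e he]
  · rintro a (ha | ha) haN b (hb | hb) hbN
    · exact absurd ha haN
    · exact absurd ha haN
    · exact absurd hb hbN
    · have h3 := mul_mem (mul_mem ha (inv_mem hx2)) (hswap b (hlow b hb) hb)
      rwa [show a * x * (x * x)⁻¹ * (x * b) = a * b by group] at h3

/-- The elements of `[T, h]` whose commutators with `d` lie in `N`. -/
def commIn (hy : Hyp T p h) (hf : FixAb T h) (d : G) (hd : d ∈ dsub T h) (N : Subgroup G) : Subgroup G where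
  carrier := {e | e ∈ dsub T h ∧ d * e * d⁻¹ * e⁻¹ ∈ N}
  one_mem' := ⟨one_mem _, by rw [show d * 1 * d⁻¹ * (1 : G)⁻¹ = 1 by group]; exact one_mem _⟩
  mul_mem' := by
    rintro a b ⟨ha, ha'⟩ ⟨hb, hb'⟩
    refine ⟨mul_mem ha hb, ?_⟩
    rw [show d * (a * b) * d⁻¹ * (a * b)⁻¹ = d * a * d⁻¹ * a⁻¹ * (a * (d * b * d⁻¹ * b⁻¹) * a⁻¹) by group,
      conj_eq_of_commute (zsub_comm ((hy.dsub_special hf).2.1 d hd b hb) ha).symm]
    exact mul_mem ha' hb'
  inv_mem' := by
    rintro a ⟨ha, ha'⟩
    refine ⟨inv_mem ha, ?_⟩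
    rw [show d * a⁻¹ * d⁻¹ * a⁻¹⁻¹ = a⁻¹ * (d * a * d⁻¹ * a⁻¹)⁻¹ * a⁻¹⁻¹ by group,
      conj_eq_of_commute (zsub_comm (inv_mem ((hy.dsub_special hf).2.1 d hd a ha)) (inv_mem ha)).symm]
    exact inv_mem ha'

variable (hy : Hyp T p h) (hf : FixAb T h)
include hy hf

theorem mem_commIn_self {d : G} (hd : d ∈ dsub T h) (N : Subgroup G) : d ∈ commIn hy hf d hd N :=
  ⟨hd, by rw [show d * d * d⁻¹ * d⁻¹ = 1 by group]; exact one_mem _⟩

theorem mem_commIn_symm {d e : G} (hd : d ∈ dsub T h) {N : Subgroup G} (he : e ∈ commIn hy hf d hd N)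
    (he' : e ∈ dsub T h) : d ∈ commIn hy hf e he' N :=
  ⟨hd, by
    have := inv_mem he.2
    rwa [show (d * e * d⁻¹ * e⁻¹)⁻¹ = e * d * e⁻¹ * d⁻¹ by group] at this⟩

theorem zsub_le_commIn {d : G} (hd : d ∈ dsub T h) (N : Subgroup G) : zsub T h ≤ commIn hy hf d hd N :=
  fun z hz => ⟨(mem_inf.1 hz).1, by
    rw [conj_eq_of_commute (zsub_comm hz hd).symm, mul_inv_cancel]; exact one_mem _⟩

variable (hne : ∃ g ∈ T, ¬ Commute h g)
include hne

theorem exists_noncomm : ∃ d ∈ dsub T h, ∃ e ∈ dsub T h, d * e * d⁻¹ * e⁻¹ ≠ 1 := by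
  by_contra hall
  push Not at hall
  have hfix : ∀ d ∈ dsub T h, Commute h d := hf _ hy.dsub_inv fun a ha b hb =>
    commute_of_conj_eq (mul_inv_eq_one.1 (hall a ha b hb))
  have hbot : dsub T h = ⊥ := by
    rw [eq_bot_iff]
    refine hy.dsub_le_closure.trans ((closure_le _).2 ?_)
    rintro _ ⟨g, hg, rfl⟩
    simp [conj_eq_of_commute (hfix g hg)]
  obtain ⟨g, hg, hgc⟩ := hne
  refine hgc (commute_of_conj_eq (mul_inv_eq_one.1 ?_))
  exact mem_bot.1 (hbot ▸ comm_mem_dsub hg)

theorem card_zsub : Nat.card (zsub T h) = 2 ∨ Nat.card (zsub T h) = 4 := by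
  haveI : Fact (Nat.Prime 2) := ⟨Nat.prime_two⟩
  obtain ⟨k, hk⟩ := IsPGroup.iff_card.1 (hy.two.to_le hy.zsub_inv.le)
  have h4 := hy.zsub_le_four hf
  obtain ⟨d, hd, e, he, hde⟩ := exists_noncomm hy hf hne
  have h1 : Nat.card (zsub T h) ≠ 1 := fun h1 => hde (mem_bot.1 ((eq_bot_of_card_eq _ h1) ▸
    (hy.dsub_special hf).2.1 d hd e he))
  have hk2 : k ≤ 2 := by
    by_contra hlt
    have := Nat.pow_le_pow_right (show 0 < 2 by norm_num) (show 3 ≤ k by omega)
    omega
  interval_cases k <;> simp_all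

/-- `[T, h]` modulo its centre has order sixteen. -/
theorem relIndex_zsub (h4 : Nat.card (zsub T h) = 4) : (zsub T h).relIndex (dsub T h) = 16 := by
  have hD := hy.dsub_inv
  obtain ⟨hsq, hcomm, hcomm2⟩ := hy.dsub_special hf
  set D := dsub T h with hDdef
  set Z := zsub T h with hZdef
  have hZD : Z ≤ D := inf_le_left
  have hle := hy.section_le hZD hD.le (fun g hg a ha => hy.zsub_inv.nrm g (hD.le hg) a ha) hsq
  obtain ⟨k, hk⟩ := relIndex_pow hy.two Z hD.le
  have hk4 : k ≤ 4 := by
    by_contra hlt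
    have := Nat.pow_le_pow_right (show 0 < 2 by norm_num) (show 5 ≤ k by omega)
    omega
  -- outside an index two subgroup something is fixed
  have hno2 : ∀ N : Subgroup G, Z ≤ N → N ≤ D → (∀ a ∈ N, h * a * h⁻¹ ∈ N) → N.relIndex D ≠ 2 := by
    intro N hZN hND hNh h2
    have hc : ∀ d ∈ D, ∀ e ∈ D, d * e * d⁻¹ * e⁻¹ ∈ N := fun d hd e he => hZN (hcomm d hd e he)
    obtain ⟨x, hx, hxN⟩ : ∃ x ∈ D, x ∉ N := by
      by_contra hall
      push Not at hall
      rw [relIndex_eq_one.2 hall] at h2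
      omega
    refine hxN (hy.fpf_mod hNh hND hc hx (mul_mem_of_relIndex_two h2 (hD.hinv x hx) (inv_mem hx) ?_ ?_))
    · intro h1
      apply hxN
      have := hinv_symm hNh h1
      rwa [show h⁻¹ * (h * x * h⁻¹) * h = x by group] at this
    · exact fun h1 => hxN (inv_mem_iff.1 h1)
  obtain ⟨d₀, hd₀, e₀, he₀, hde⟩ := exists_noncomm hy hf hne
  have hDZ : ¬ D ≤ Z := fun hDle => hde (by
    rw [conj_eq_of_commute (zsub_comm (hDle hd₀) he₀), mul_inv_cancel])
  rw [hk]
  interval_cases k
  · exact absurd (relIndex_eq_one.1 hk) hDZ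
  · exact absurd hk (hno2 Z le_rfl hZD hy.zsub_inv.hinv)
  · -- all commutators in a group of order two
    exfalso
    obtain ⟨x, hx, hxZ⟩ := SetLike.not_le_iff_exists.1 hDZ
    obtain ⟨E, hZE, hED, hxE, hE2, hEm⟩ := exists_ext hZD hcomm hx (hsq x hx)
    obtain ⟨y, hy', hyE⟩ : ∃ y ∈ D, y ∉ E := by
      by_contra hall
      push Not at hall
      have := le_antisymm hED hall
      rw [this, hk] at hE2
      omega
    obtain ⟨F, hEF, hFD, hyF, hF2, hFm⟩ :=
      exists_ext hED (fun a ha b hb => hZE (hcomm a ha b hb)) hy' (hZE (hsq y hy'))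
    have hFD' : F = D := by
      refine le_antisymm hFD ?_
      have h1 := relIndex_mul_relIndex Z E F hZE hEF
      have h2 := relIndex_mul_relIndex Z F D (hZE.trans hEF) hFD
      have hZE2 : Z.relIndex E = 2 := by
        obtain ⟨j, hj⟩ := relIndex_pow hy.two Z (hED.trans hD.le)
        have hne1 : Z.relIndex E ≠ 1 := fun h1 => hxZ (relIndex_eq_one.1 h1 hxE)
        have : 1 ≤ Z.relIndex E := by rw [hj]; exact Nat.one_le_two_pow
        omega
      have hEF2 : E.relIndex F = 2 := by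
        obtain ⟨j, hj⟩ := relIndex_pow hy.two E (hFD.trans hD.le)
        have hne1 : E.relIndex F ≠ 1 := fun h1 => hyE (relIndex_eq_one.1 h1 hyF)
        have : 1 ≤ E.relIndex F := by rw [hj]; exact Nat.one_le_two_pow
        omega
      rw [← h1, hZE2, hEF2, hk] at h2
      exact relIndex_eq_one.1 (by omega)
    set c := x * y * x⁻¹ * y⁻¹ with hc
    let N : Subgroup G :=
      { carrier := {a | a = 1 ∨ a = c}
        one_mem' := Or.inl rfl
        mul_mem' := by
          rintro _ _ (rfl | rfl) (rfl | rfl) <;> simp [hc, hcomm2 x hx y hy']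
        inv_mem' := by
          rintro _ (rfl | rfl)
          · simp
          · exact Or.inr (inv_eq_of_mul_eq_one_right (hcomm2 x hx y hy')) }
    have hgen : ∀ (S : Subgroup G), Z ≤ S → x ∈ S → y ∈ S → D ≤ S := by
      intro S hZS hxS hyS
      rw [← hFD']
      intro f hfF
      rcases hFm f hfF with h1 | h1
      · rcases hEm f h1 with h2 | h2
        · exact hZS h2
        · exact (mul_mem_cancel_right hxS).1 (hZS h2)
      · refine (mul_mem_cancel_right hyS).1 ?_
        rcases hEm _ h1 with h2 | h2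
        · exact hZS h2
        · exact (mul_mem_cancel_right hxS).1 (hZS h2)
    have hallN : ∀ a ∈ D, ∀ b ∈ D, a * b * a⁻¹ * b⁻¹ ∈ N := by
      intro a ha b hb
      have hX : D ≤ commIn hy hf x hx N :=
        hgen _ (zsub_le_commIn hy hf hx N) (mem_commIn_self hy hf hx N) ⟨hy', Or.inr rfl⟩
      have hY : D ≤ commIn hy hf y hy' N :=
        hgen _ (zsub_le_commIn hy hf hy' N) (mem_commIn_symm hy hf hx (hX hy') hy') (mem_commIn_self hy hf hy' N)
      exact (hgen (commIn hy hf a ha N) (zsub_le_commIn hy hf ha N)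
        (mem_commIn_symm hy hf hx (hX ha) ha) (mem_commIn_symm hy hf hy' (hY ha) ha) hb).2
    have hNZ : N ≤ Z := by
      rintro a (rfl | rfl)
      exacts [one_mem _, hcomm x hx y hy']
    have hZN : Z ≤ N := fun z hz => hy.fpf_mod
      (fun a ha => by rw [conj_eq_of_commute (hy.zsub_fixed hf (hNZ ha))]; exact ha) (hNZ.trans hZD) hallN (hZD hz)
      (by rw [conj_eq_of_commute (hy.zsub_fixed hf hz), mul_inv_cancel]; exact one_mem _)
    have hN2 : Nat.card N ≤ 2 := by
      rw [← SetLike.coe_sort_coe, Nat.card_coe_set_eq]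
      exact (Set.ncard_le_ncard (t := {1, c}) (fun a ha => ha) (Set.toFinite _)).trans
        (Set.ncard_insert_le _ _ |>.trans (by simp))
    have := card_le_of_le hZN
    omega
  · -- order eight: a radical for a functional on the centre
    exfalso
    set c₀ := d₀ * e₀ * d₀⁻¹ * e₀⁻¹ with hc₀
    have hc₀Z : c₀ ∈ Z := hcomm d₀ hd₀ e₀ he₀
    obtain ⟨a, haZ, ha1, hac⟩ : ∃ a ∈ Z, a ≠ 1 ∧ a ≠ c₀ := by
      by_contra hall
      push Not at hall
      have hsub : (Z : Set G) ⊆ {1, c₀} := fun a ha => by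
        by_cases h1 : a = 1
        · exact Or.inl h1
        · exact Or.inr (hall a ha h1)
      have := (Set.ncard_le_ncard hsub (Set.toFinite _)).trans ((Set.ncard_insert_le _ _).trans (by simp) : _ ≤ 2)
      rw [← Nat.card_coe_set_eq, SetLike.coe_sort_coe] at this
      omega
    have ha2 := hy.zsub_elementary hf haZ
    let K : Subgroup G :=
      { carrier := {b | b = 1 ∨ b = a}
        one_mem' := Or.inl rfl
        mul_mem' := by rintro _ _ (rfl | rfl) (rfl | rfl) <;> simp [ha2]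
        inv_mem' := by
          rintro _ (rfl | rfl)
          · simp
          · exact Or.inr (inv_eq_of_mul_eq_one_right ha2) }
    have hKZ : K ≤ Z := by
      rintro b (rfl | rfl)
      exacts [one_mem _, haZ]
    have hKZ2 : K.relIndex Z = 2 := by
      have h1 := card_mul_index (K.subgroupOf Z)
      rw [Nat.card_congr (subgroupOfEquivOfLe hKZ).toEquiv] at h1
      have hK2 : Nat.card K = 2 := by
        rw [← SetLike.coe_sort_coe, Nat.card_coe_set_eq]
        exact (congrArg Set.ncard (Set.ext fun b => by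
          show (b = 1 ∨ b = a) ↔ b ∈ ({1, a} : Set G)
          simp)).trans (Set.ncard_pair ha1.symm)
      rw [hK2, h4] at h1
      show (K.subgroupOf Z).index = 2
      omega
    let Rad : Subgroup G :=
      { carrier := {d | d ∈ D ∧ ∀ e ∈ D, d * e * d⁻¹ * e⁻¹ ∈ K}
        one_mem' := ⟨one_mem _, fun e _ => by rw [show 1 * e * (1 : G)⁻¹ * e⁻¹ = 1 by group]; exact one_mem _⟩
        mul_mem' := by
          rintro b b' ⟨hb, hb1⟩ ⟨hb', hb2⟩
          refine ⟨mul_mem hb hb', fun e he => ?_⟩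
          rw [show b * b' * e * (b * b')⁻¹ * e⁻¹ = b * (b' * e * b'⁻¹ * e⁻¹) * b⁻¹ * (b * e * b⁻¹ * e⁻¹) by group,
            conj_eq_of_commute (zsub_comm (hcomm b' hb' e he) hb).symm]
          exact mul_mem (hb2 e he) (hb1 e he)
        inv_mem' := by
          rintro b ⟨hb, hb1⟩
          refine ⟨inv_mem hb, fun e he => ?_⟩
          rw [show b⁻¹ * e * b⁻¹⁻¹ * e⁻¹ = b⁻¹ * (b * e * b⁻¹ * e⁻¹)⁻¹ * b⁻¹⁻¹ by group,
            conj_eq_of_commute (zsub_comm (inv_mem (hcomm b hb e he)) (inv_mem hb)).symm]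
          exact inv_mem (hb1 e he) }
    have hZR : Z ≤ Rad := fun z hz => ⟨hZD hz, fun e he => by
      rw [conj_eq_of_commute (zsub_comm hz he), mul_inv_cancel]; exact one_mem _⟩
    have hRD : Rad ≤ D := fun d hd => hd.1
    have hRh : ∀ d ∈ Rad, h * d * h⁻¹ ∈ Rad := by
      rintro d ⟨hd, hdc⟩
      refine ⟨hD.hinv d hd, fun e he => ?_⟩
      have he' := hdc _ (hinv_symm hD.hinv he)
      have h1 : h * (d * (h⁻¹ * e * h) * d⁻¹ * (h⁻¹ * e * h)⁻¹) * h⁻¹ =
          h * d * h⁻¹ * e * (h * d * h⁻¹)⁻¹ * e⁻¹ := by group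
      rw [← h1, conj_eq_of_commute (hy.zsub_fixed hf (hKZ he'))]
      exact he'
    have hRne : ¬ D ≤ Rad := fun hDR => by
      rcases (hDR hd₀).2 e₀ he₀ with h1 | h1
      · exact hde h1
      · exact hac h1.symm
    -- the commutator functional of an element has kernel of index at most two
    have hker : ∀ (d : G) (hd : d ∈ D), (commIn hy hf d hd K).relIndex D ≤ 2 := by
      intro d hd
      refine relIndex_le_two fun b hb hbK b' hb' hbK' => ⟨mul_mem hb hb', ?_⟩
      rw [show d * (b * b') * d⁻¹ * (b * b')⁻¹ = d * b * d⁻¹ * b⁻¹ * (b * (d * b' * d⁻¹ * b'⁻¹) * b⁻¹) by group,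
        conj_eq_of_commute (zsub_comm (hcomm d hd b' hb') hb).symm]
      exact mul_mem_of_relIndex_two hKZ2 (hcomm d hd b hb) (hcomm d hd b' hb') (fun h1 => hbK ⟨hb, h1⟩)
        fun h1 => hbK' ⟨hb', h1⟩
    have hmul := relIndex_mul_relIndex Z Rad D hZR hRD
    rw [hk] at hmul
    obtain ⟨i, hi⟩ := relIndex_pow hy.two Z (hRD.trans hD.le)
    obtain ⟨j, hj⟩ := relIndex_pow hy.two Rad hD.le
    have hj0 : j ≠ 0 := fun e => hRne (relIndex_eq_one.1 (by rw [hj, e, pow_zero]))
    have hj1 : j ≠ 1 := fun e => hno2 Rad hZR hRD hRh (by rw [hj, e, pow_one])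
    have hi1 : i ≠ 1 := by
      intro e
      rw [e, pow_one] at hi
      obtain ⟨x, hx, hxZ⟩ : ∃ x ∈ Rad, x ∉ Z := by
        by_contra hall
        push Not at hall
        rw [relIndex_eq_one.2 hall] at hi
        omega
      refine hxZ (hy.fpf hf (hRD hx) (mul_mem_of_relIndex_two hi (hRh x hx) (inv_mem hx) ?_ ?_))
      · intro h1
        apply hxZ
        have := hinv_symm hy.zsub_inv.hinv h1
        rwa [show h⁻¹ * (h * x * h⁻¹) * h = x by group] at this
      · exact fun h1 => hxZ (inv_mem_iff.1 h1)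
    have hi0 : i = 0 := by
      rw [hi, hj, ← pow_add] at hmul
      have := Nat.pow_right_injective (le_refl 2) hmul
      omega
    have hRZ : Rad ≤ Z := relIndex_eq_one.1 (by rw [hi, hi0, pow_zero])
    obtain ⟨x, hx, hxZ⟩ := SetLike.not_le_iff_exists.1 hDZ
    obtain ⟨E, hZE, hED, hxE, hE2, hEm⟩ := exists_ext hZD hcomm hx (hsq x hx)
    obtain ⟨y, hyX, hyE⟩ : ∃ y ∈ commIn hy hf x hx K, y ∉ E := by
      by_contra hall
      push Not at hall
      have hle' : (commIn hy hf x hx K) ≤ E := hall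
      have h1 := relIndex_mul_relIndex Z (commIn hy hf x hx K) D (zsub_le_commIn hy hf hx K) (fun e he => he.1)
      have h2 : Z.relIndex (commIn hy hf x hx K) ≤ 2 := (relIndex_le_of_le_right hle' (by
        rw [Subgroup.relIndex]; exact index_ne_zero_of_finite)).trans hE2
      have h3 := Nat.mul_le_mul h2 (hker x hx)
      rw [h1, hk] at h3
      omega
    have hyD : y ∈ D := hyX.1
    obtain ⟨F, hEF, hFD, hyF, hF2, hFm⟩ :=
      exists_ext hED (fun a ha b hb => hZE (hcomm a ha b hb)) hyD (hZE (hsq y hyD))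
    have hF4 : Z.relIndex F ≤ 4 := by
      rw [← relIndex_mul_relIndex Z E F hZE hEF]; exact Nat.mul_le_mul hE2 hF2
    obtain ⟨w, hw, hwF⟩ : ∃ w ∈ D, w ∉ F := by
      by_contra hall
      push Not at hall
      have := le_antisymm hFD hall
      rw [this, hk] at hF4
      omega
    have hFZ : 4 ≤ Z.relIndex F := by
      rw [← relIndex_mul_relIndex Z E F hZE hEF]
      refine Nat.mul_le_mul (n₁ := 2) (m₁ := 2) ?_ ?_
      · obtain ⟨l, hl⟩ := relIndex_pow hy.two Z (hED.trans hD.le)
        have : Z.relIndex E ≠ 1 := fun h1 => hxZ (relIndex_eq_one.1 h1 hxE)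
        have : 0 < Z.relIndex E := by rw [hl]; positivity
        omega
      · obtain ⟨l, hl⟩ := relIndex_pow hy.two E (hFD.trans hD.le)
        have : E.relIndex F ≠ 1 := fun h1 => hyE (relIndex_eq_one.1 h1 hyF)
        have : 0 < E.relIndex F := by rw [hl]; positivity
        omega
    obtain ⟨v, ⟨hvF, hvW⟩, hvZ⟩ : ∃ v ∈ F ⊓ commIn hy hf w hw K, v ∉ Z := by
      by_contra hall
      push Not at hall
      have h1 := relIndex_mul_relIndex Z (F ⊓ commIn hy hf w hw K) F
        (le_inf (hZE.trans hEF) (zsub_le_commIn hy hf hw K)) inf_le_left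
      rw [relIndex_eq_one.2 hall, one_mul, inf_comm, inf_relIndex_right] at h1
      have := relIndex_le_of_le_right (K := F) (L := D) (H := commIn hy hf w hw K) hFD (by
        rw [Subgroup.relIndex]; exact index_ne_zero_of_finite)
      have := hker w hw
      omega
    have hgenF : ∀ (S : Subgroup G), Z ≤ S → x ∈ S → y ∈ S → F ≤ S := by
      intro S hZS hxS hyS f hfF
      rcases hFm f hfF with h1 | h1
      · rcases hEm f h1 with h2 | h2
        · exact hZS h2
        · exact (mul_mem_cancel_right hxS).1 (hZS h2)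
      · refine (mul_mem_cancel_right hyS).1 ?_
        rcases hEm _ h1 with h2 | h2
        · exact hZS h2
        · exact (mul_mem_cancel_right hxS).1 (hZS h2)
    have hX : F ≤ commIn hy hf x hx K := hgenF _ (zsub_le_commIn hy hf hx K) (mem_commIn_self hy hf hx K) hyX
    have hY : F ≤ commIn hy hf y hyD K :=
      hgenF _ (zsub_le_commIn hy hf hyD K) (mem_commIn_symm hy hf hx hyX hyD) (mem_commIn_self hy hf hyD K)
    have hvD : v ∈ D := hFD hvF
    obtain ⟨L, hFL, hLD, hwL, -, hLm⟩ := exists_ext hFD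
      (fun a ha b hb => hEF (hZE (hcomm a ha b hb))) hw (hEF (hZE (hsq w hw)))
    have hLD' : L = D := by
      refine le_antisymm hLD (relIndex_eq_one.1 ?_)
      have h1 := relIndex_mul_relIndex Z F L (hZE.trans hEF) hFL
      have h2 := relIndex_mul_relIndex Z L D ((hZE.trans hEF).trans hFL) hLD
      obtain ⟨l, hl⟩ := relIndex_pow hy.two F (hLD.trans hD.le)
      have hne1 : F.relIndex L ≠ 1 := fun h1 => hwF (relIndex_eq_one.1 h1 hwL)
      have hge : 2 ≤ F.relIndex L := by
        have : 0 < F.relIndex L := by rw [hl]; positivity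
        omega
      have h8 : 8 ≤ Z.relIndex L := by rw [← h1]; exact Nat.mul_le_mul (n₁ := 4) (m₁ := 2) hFZ hge
      rw [hk] at h2
      nlinarith
    refine hvZ (hRZ ⟨hvD, fun e he => ?_⟩)
    rw [← hLD'] at he
    have hV : D ≤ commIn hy hf v hvD K := by
      rw [← hLD']
      intro l hlL
      have hFv : F ≤ commIn hy hf v hvD K := hgenF _ (zsub_le_commIn hy hf hvD K)
        (mem_commIn_symm hy hf hx (hX hvF) hvD) (mem_commIn_symm hy hf hyD (hY hvF) hvD)
      rcases hLm l hlL with h1 | h1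
      · exact hFv h1
      · exact (mul_mem_cancel_right (mem_commIn_symm hy hf hw hvW hvD)).1 (hFv h1)
    exact (hV (hLD' ▸ he)).2
  · rfl

/-- With a centre of order four the order of `T` is `64` or `128`. -/
theorem card_of_four (h4 : Nat.card (zsub T h) = 4) : Nat.card T = 64 ∨ Nat.card T = 128 := by
  haveI : Fact (Nat.Prime 2) := ⟨Nat.prime_two⟩
  have hD := hy.dsub_inv
  have hZ := hy.zsub_inv
  obtain ⟨hsq, hcomm, -⟩ := hy.dsub_special hf
  set D := dsub T h with hDdef
  set Z := zsub T h with hZdef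
  have hZD : Z ≤ D := inf_le_left
  set R := T ⊓ centralizer ({h} : Set G) with hR
  have hRh : ∀ r ∈ R, Commute h r := fun r hr => ((mem_centralizer_singleton_iff.1 (mem_inf.1 hr).2 : Commute r h)).symm
  have hDR : D ⊓ R = Z := le_antisymm (fun d hd => hy.fpf hf (mem_inf.1 hd).1 (by
      rw [conj_eq_of_commute (hRh d (mem_inf.1 hd).2), mul_inv_cancel]; exact one_mem _))
    fun z hz => mem_inf.2 ⟨hZD hz, mem_inf.2 ⟨hZ.le hz, mem_centralizer_singleton_iff.2 (hy.zsub_fixed hf hz).symm.eq⟩⟩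
  have hprod : ∀ g ∈ T, ∃ d ∈ D, ∃ r ∈ R, g = d * r := fun g hg => by
    obtain ⟨d, hd, r, hr, hrh, e⟩ := hy.exists_prod hg
    exact ⟨d, hd, r, mem_inf.2 ⟨hr, mem_centralizer_singleton_iff.2 hrh.symm.eq⟩, e⟩
  -- the order of `T`
  have hcard : Nat.card T = 64 * Z.relIndex R := by
    haveI : (D.subgroupOf T).Normal := ⟨fun a ha g => mem_subgroupOf.2 (hD.nrm g g.2 a ha)⟩
    set ψ := (QuotientGroup.mk' (D.subgroupOf T)).comp (inclusion (inf_le_left : R ≤ T))
    have hsurj : Function.Surjective ψ := by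
      intro q
      obtain ⟨⟨g, hg⟩, rfl⟩ := QuotientGroup.mk'_surjective _ q
      obtain ⟨d, hd, r, hr, rfl⟩ := hprod g hg
      refine ⟨⟨r, hr⟩, QuotientGroup.eq.2 (mem_subgroupOf.2 ?_)⟩
      show r⁻¹ * (d * r) ∈ D
      have := hD.nrm r⁻¹ (inv_mem (mem_inf.1 hr).1) d hd
      simpa [mul_assoc] using this
    have hk : ψ.ker = D.subgroupOf R := by
      ext r
      exact (QuotientGroup.eq_one_iff _).trans Iff.rfl
    have h1 : (D.subgroupOf R).index = (D.subgroupOf T).index := by
      rw [← hk, index_ker, MonoidHom.range_eq_top.2 hsurj, card_top]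
      rfl
    have h2 : Z.relIndex R = D.relIndex R := by rw [← hDR, inf_relIndex_right]
    have h3 := (D.subgroupOf T).card_mul_index
    rw [← h1, Nat.card_congr (subgroupOfEquivOfLe hD.le).toEquiv] at h3
    have h5 := (Z.subgroupOf D).card_mul_index
    rw [Nat.card_congr (subgroupOfEquivOfLe hZD).toEquiv, h4] at h5
    have h6 : (Z.subgroupOf D).index = 16 := relIndex_zsub hy hf hne h4
    rw [h6] at h5
    rw [h2, ← h3, ← h5]
    rfl
  -- fixed points of `T` on the centre
  have hnobot : (⊥ : Subgroup G) ≠ Z := fun e => by rw [← e, card_bot] at h4; omega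
  obtain ⟨z, hzZ, hz1, -, hzc⟩ := exists_central_mod hy.two bot_le hZ.le
    (fun g _ a ha => by rw [mem_bot.1 ha]; simp) hZ.nrm hnobot
  have hzfix : ∀ g ∈ T, g * z * g⁻¹ = z := fun g hg => mul_inv_eq_one.1 (mem_bot.1 (hzc g hg))
  have hz1' : z ≠ 1 := fun e => hz1 (mem_bot.2 e)
  have hmove : ∀ g ∈ T, ∀ a ∈ Z, g * a * g⁻¹ ≠ a → g * a * g⁻¹ = z * a := by
    intro g hg a ha hga
    have ha1 : a ≠ 1 := fun e => hga (by rw [e]; group)
    have haz : a ≠ z := fun e => hga (by rw [e, hzfix g hg])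
    have hsub : ({1, z, a, z * a} : Set G) ⊆ (Z : Set G) := by
      rintro b (rfl | rfl | rfl | rfl)
      exacts [one_mem _, hzZ, ha, mul_mem hzZ ha]
    have hz2 := hy.zsub_elementary hf hzZ
    have h4' : ({1, z, a, z * a} : Set G).ncard = 4 := by
      rw [Set.ncard_insert_of_notMem, Set.ncard_insert_of_notMem, Set.ncard_pair]
      · intro e; exact hz1' (mul_eq_right.1 e.symm)
      · simp only [Set.mem_insert_iff, Set.mem_singleton_iff, not_or]
        exact ⟨haz.symm, fun e => ha1 (mul_left_cancel (e.symm.trans (mul_one z).symm))⟩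
      · simp only [Set.mem_insert_iff, Set.mem_singleton_iff, not_or]
        refine ⟨hz1'.symm, ha1.symm, fun e => haz ?_⟩
        rw [eq_inv_of_mul_eq_one_right e.symm, inv_eq_of_mul_eq_one_right hz2]
    have hall : (Z : Set G) = {1, z, a, z * a} := (Set.eq_of_subset_of_ncard_le hsub (by
      rw [h4', ← Nat.card_coe_set_eq, SetLike.coe_sort_coe, h4]) (Set.toFinite _)).symm
    have hmem : g * a * g⁻¹ ∈ (Z : Set G) := hZ.nrm g hg a ha
    rw [hall] at hmem
    rcases hmem with e | e | e | e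
    · exact absurd (conj_eq_one_iff.1 e) ha1
    · exact absurd ((MulAut.conj g).injective (show g * a * g⁻¹ = g * z * g⁻¹ by rw [hzfix g hg, e])) haz
    · exact absurd e hga
    · exact e
  set C := R ⊓ centralizer (Z : Set G) with hC
  have hCidx : C.relIndex R ≤ 2 := by
    refine relIndex_le_two fun r hr hrC s hs hsC => mem_inf.2 ⟨mul_mem hr hs, fun a ha => ?_⟩
    by_contra hne'
    have hT1 := (mem_inf.1 hr).1
    have hT2 := (mem_inf.1 hs).1
    -- each of them moves every element outside `⟨z⟩` to its partner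
    have hmoves : ∀ g ∈ R, g ∉ C → ∀ b ∈ Z, b * (r * s) ≠ r * s * b → g * b * g⁻¹ ≠ b := by
      intro g hg hgC b hb hb' hgb
      apply hgC
      refine mem_inf.2 ⟨hg, fun c hc => ?_⟩
      by_contra hc'
      have hbz : b ≠ z := fun e => hb' (by
        rw [e]; exact (commute_of_conj_eq (hzfix _ (mul_mem hT1 hT2))).symm.eq)
      have hgc := hmove g (mem_inf.1 hg).1 c hc fun e => hc' (commute_of_conj_eq e).symm.eq
      have hgc1 : c ≠ 1 := fun e => hc' (by rw [e]; group)
      have hgcz : c ≠ z := fun e => hc' (by rw [e]; exact (commute_of_conj_eq (hzfix g (mem_inf.1 hg).1)).symm.eq)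
      have hb1 : b ≠ 1 := fun e => hb' (by rw [e]; group)
      -- `b` is `c` or `z * c`, both moved
      have hz2 := hy.zsub_elementary hf hzZ
      have hsub : ({1, z, c, z * c} : Set G) ⊆ (Z : Set G) := by
        rintro w (rfl | rfl | rfl | rfl)
        exacts [one_mem _, hzZ, hc, mul_mem hzZ hc]
      have h4' : ({1, z, c, z * c} : Set G).ncard = 4 := by
        rw [Set.ncard_insert_of_notMem, Set.ncard_insert_of_notMem, Set.ncard_pair]
        · intro e; exact hz1' (mul_eq_right.1 e.symm)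
        · simp only [Set.mem_insert_iff, Set.mem_singleton_iff, not_or]
          exact ⟨hgcz.symm, fun e => hgc1 (mul_left_cancel (e.symm.trans (mul_one z).symm))⟩
        · simp only [Set.mem_insert_iff, Set.mem_singleton_iff, not_or]
          refine ⟨hz1'.symm, hgc1.symm, fun e => hgcz ?_⟩
          rw [eq_inv_of_mul_eq_one_right e.symm, inv_eq_of_mul_eq_one_right hz2]
      have hall : (Z : Set G) = {1, z, c, z * c} := (Set.eq_of_subset_of_ncard_le hsub (by
        rw [h4', ← Nat.card_coe_set_eq, SetLike.coe_sort_coe, h4]) (Set.toFinite _)).symm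
      have hbm : b ∈ (Z : Set G) := hb
      rw [hall] at hbm
      rcases hbm with e | e | e | e
      · exact hb1 e
      · exact hbz e
      · rw [e, hgc] at hgb
        exact hz1' (mul_eq_right.1 hgb)
      · rw [e, show g * (z * c) * g⁻¹ = g * z * g⁻¹ * (g * c * g⁻¹) by group, hzfix g (mem_inf.1 hg).1, hgc,
          ← mul_assoc z z, hz2, one_mul] at hgb
        exact hz1' (mul_eq_right.1 hgb.symm)
    have h1 := hmove s hT2 a ha (hmoves s hs hsC a ha hne')
    have h2 := hmove r hT1 a ha (hmoves r hr hrC a ha hne')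
    refine hne' (commute_of_conj_eq ?_).symm.eq
    calc r * s * a * (r * s)⁻¹ = r * (s * a * s⁻¹) * r⁻¹ := by group
      _ = r * z * r⁻¹ * (r * a * r⁻¹) := by rw [h1]; group
      _ = a := by rw [hzfix r hT1, h2, ← mul_assoc, hy.zsub_elementary hf hzZ, one_mul]
  -- nothing more centralises the centre
  have hCZ : C ≤ Z := by
    by_contra hne'
    have hZC : Z ≤ C := fun a ha => mem_inf.2 ⟨(hDR ▸ ha : a ∈ D ⊓ R).2,
      fun b hb => (zsub_comm ha (hZD hb)).symm.eq⟩
    have hCd : ∀ c ∈ C, ∀ d ∈ D, Commute c d := fun c hc d hd =>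
      hy.commute_dsub hf (mem_inf.1 (mem_inf.1 hc).1).1 (hRh c (mem_inf.1 hc).1)
        (fun b hb => ((mem_inf.1 hc).2 b hb).symm) hd
    have hCn : ∀ g ∈ T, ∀ c ∈ C, g * c * g⁻¹ ∈ C := by
      intro g hg c hc
      obtain ⟨d, hd, s, hs, rfl⟩ := hprod g hg
      have h1 : s * c * s⁻¹ ∈ C := by
        refine mem_inf.2 ⟨mul_mem (mul_mem hs (mem_inf.1 hc).1) (inv_mem hs), fun b hb => ?_⟩
        have hb' := hZ.nrm s⁻¹ (inv_mem (mem_inf.1 hs).1) b hb
        have h2 : Commute (s⁻¹ * b * s⁻¹⁻¹) c := (mem_inf.1 hc).2 _ hb'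
        have := conj_commute (c := s) h2
        rwa [show s * (s⁻¹ * b * s⁻¹⁻¹) * s⁻¹ = b by group] at this
      rw [show d * s * c * (d * s)⁻¹ = d * (s * c * s⁻¹) * d⁻¹ by group,
        conj_eq_of_commute (hCd _ h1 d hd).symm]
      exact h1
    obtain ⟨r, hr, hrZ, hr2, hrc⟩ :=
      exists_central_mod hy.two hZC (inf_le_left.trans inf_le_left) hZ.nrm hCn (fun e => hne' e.ge)
    have hrT : r ∈ T := (mem_inf.1 (mem_inf.1 hr).1).1
    have hZcomm : ∀ a ∈ Z, ∀ b ∈ Z, Commute a b := fun a ha b hb => zsub_comm ha (hZD hb)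
    by_cases hw : r * r = 1
    · exact hy.no_eight hZ.le h4 hZ.nrm hZcomm (fun a ha => hy.zsub_elementary hf ha) hrT hw hrZ
        (fun a ha => (hCd r hr a (hZD ha))) hrc
    set w := r * r with hwdef
    have hwfix : ∀ g ∈ T, g * w * g⁻¹ = w := by
      intro g hg
      have hc := hrc g hg
      set u := g * r * g⁻¹ * r⁻¹ with hu
      have e : g * r * g⁻¹ = u * r := by rw [hu, inv_mul_cancel_right]
      rw [hwdef, ← sq_conj, e, (hCd r hr u (hZD hc)).mul_mul_mul_comm u r, hy.zsub_elementary hf hc, one_mul]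
    -- an element of `D` with square in `⟨w⟩`
    obtain ⟨v, hvD, hvZ, hvc, hv2⟩ : ∃ v ∈ D, v ∉ Z ∧ (∀ g ∈ T, g * v * g⁻¹ * v⁻¹ ∈ Z) ∧
        (v * v = 1 ∨ v * v = w) := by
      by_cases hRC : R ≤ C
      · by_contra hall
        push Not at hall
        have hT : ∀ d ∈ D, ∀ g ∈ T, g * d * g⁻¹ * d⁻¹ ∈ Z := by
          intro d hd g hg
          obtain ⟨e, he, s, hs, rfl⟩ := hprod g hg
          rw [show e * s * d * (e * s)⁻¹ = e * (s * d * s⁻¹) * e⁻¹ by group,
            conj_eq_of_commute (hCd s (hRC hs) d hd)]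
          exact hcomm e he d hd
        have hnot : ∀ d ∈ D, d ∉ Z → d * d ≠ 1 ∧ d * d ≠ w := fun d hd hdZ => hall d hd hdZ (hT d hd)
        let K : Subgroup G :=
          { carrier := {b | b = 1 ∨ b = w}
            one_mem' := Or.inl rfl
            mul_mem' := by
              rintro _ _ (rfl | rfl) (rfl | rfl) <;>
                simp [hy.zsub_elementary hf hr2]
            inv_mem' := by
              rintro _ (rfl | rfl)
              · simp
              · exact Or.inr (inv_eq_of_mul_eq_one_right (hy.zsub_elementary hf hr2)) }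
        have hKZ : K ≤ Z := by
          rintro b (rfl | rfl)
          exacts [one_mem _, hr2]
        have hKZ2 : K.relIndex Z = 2 := by
          have h1 := card_mul_index (K.subgroupOf Z)
          rw [Nat.card_congr (subgroupOfEquivOfLe hKZ).toEquiv] at h1
          have hK2 : Nat.card K = 2 := by
            rw [← SetLike.coe_sort_coe, Nat.card_coe_set_eq]
            exact (congrArg Set.ncard (Set.ext fun b => by
              show (b = 1 ∨ b = w) ↔ b ∈ ({1, w} : Set G)
              simp)).trans (Set.ncard_pair (Ne.symm hw))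
          rw [hK2, h4] at h1
          show (K.subgroupOf Z).index = 2
          omega
        have hsqK : ∀ d ∈ D, d ∉ Z → d * d ∉ K := by
          rintro d hd hdZ (e | e)
          exacts [(hnot d hd hdZ).1 e, (hnot d hd hdZ).2 e]
        have h16 := relIndex_zsub hy hf hne h4
        obtain ⟨x, hx, hxZ⟩ : ∃ x ∈ D, x ∉ Z := by
          by_contra hall'
          push Not at hall'
          rw [relIndex_eq_one.2 hall'] at h16
          omega
        obtain ⟨E, hZE, hED, hxE, hE2, hEm⟩ := exists_ext hZD hcomm hx (hsq x hx)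
        set X := commIn hy hf x hx K with hX
        have hXidx : X.relIndex D ≤ 2 := relIndex_le_two fun b hb hbK b' hb' hbK' => ⟨mul_mem hb hb', by
          rw [show x * (b * b') * x⁻¹ * (b * b')⁻¹ = x * b * x⁻¹ * b⁻¹ * (b * (x * b' * x⁻¹ * b'⁻¹) * b⁻¹) by group,
            conj_eq_of_commute (zsub_comm (hcomm x hx b' hb') hb).symm]
          exact mul_mem_of_relIndex_two hKZ2 (hcomm x hx b hb) (hcomm x hx b' hb') (fun h1 => hbK ⟨hb, h1⟩)
            fun h1 => hbK' ⟨hb', h1⟩⟩
        obtain ⟨y, hyX, hyE⟩ : ∃ y ∈ X, y ∉ E := by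
          by_contra hall'
          push Not at hall'
          have h1 := relIndex_mul_relIndex Z X D (zsub_le_commIn hy hf hx K) (fun e he => he.1)
          have h2 : Z.relIndex X ≤ 2 := (relIndex_le_of_le_right (show X ≤ E from hall') (by
            rw [Subgroup.relIndex]; exact index_ne_zero_of_finite)).trans hE2
          have h3 := Nat.mul_le_mul h2 hXidx
          rw [h1, h16] at h3
          omega
        have hyZ : y ∉ Z := fun h1 => hyE (hZE h1)
        have hxyZ : x * y ∉ Z := fun h1 => hyE ((mul_mem_cancel_left hxE).1 (hZE h1))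
        apply hsqK (x * y) (mul_mem hx hyX.1) hxyZ
        have hc := hyX.2
        have hcZ := hcomm x hx y hyX.1
        have e : x * y * (x * y) = x * (x * y * x⁻¹ * y⁻¹)⁻¹ * x⁻¹ * ((x * x) * (y * y)) := by group
        rw [e, conj_eq_of_commute (zsub_comm (inv_mem hcZ) hx).symm]
        refine mul_mem (inv_mem hc) ?_
        exact mul_mem_of_relIndex_two hKZ2 (hsq x hx) (hsq y hyX.1) (hsqK x hx hxZ) (hsqK y hyX.1 hyZ)
      · -- some fixed element moves the centre
        obtain ⟨s, hs, hsC⟩ := SetLike.not_le_iff_exists.1 hRC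
        obtain ⟨a, ha, has⟩ : ∃ a ∈ Z, s * a * s⁻¹ ≠ a := by
          by_contra hall
          push Not at hall
          exact hsC (mem_inf.2 ⟨hs, fun b hb => (commute_of_conj_eq (hall b hb)).symm.eq⟩)
        have hfix2 : ∀ b ∈ Z, (∀ g ∈ T, g * b * g⁻¹ = b) → b = 1 ∨ b = z := by
          intro b hb hbf
          by_contra hb'
          push Not at hb'
          obtain ⟨hb1, hbz⟩ := hb'
          have hz2 := hy.zsub_elementary hf hzZ
          have hsub : ({1, z, b, z * b} : Set G) ⊆ (Z : Set G) := by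
            rintro w (rfl | rfl | rfl | rfl)
            exacts [one_mem _, hzZ, hb, mul_mem hzZ hb]
          have h4' : ({1, z, b, z * b} : Set G).ncard = 4 := by
            rw [Set.ncard_insert_of_notMem, Set.ncard_insert_of_notMem, Set.ncard_pair]
            · intro e; exact hz1' (mul_eq_right.1 e.symm)
            · simp only [Set.mem_insert_iff, Set.mem_singleton_iff, not_or]
              exact ⟨hbz.symm, fun e => hb1 (mul_left_cancel (e.symm.trans (mul_one z).symm))⟩
            · simp only [Set.mem_insert_iff, Set.mem_singleton_iff, not_or]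
              refine ⟨hz1'.symm, hb1.symm, fun e => hbz ?_⟩
              rw [eq_inv_of_mul_eq_one_right e.symm, inv_eq_of_mul_eq_one_right hz2]
          have hall : (Z : Set G) = {1, z, b, z * b} := (Set.eq_of_subset_of_ncard_le hsub (by
            rw [h4', ← Nat.card_coe_set_eq, SetLike.coe_sort_coe, h4]) (Set.toFinite _)).symm
          have ham : a ∈ (Z : Set G) := ha
          rw [hall] at ham
          have hsT := (mem_inf.1 hs).1
          rcases ham with e | e | e | e <;> apply has <;> rw [e]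
          · group
          · exact hzfix s hsT
          · exact hbf s hsT
          · rw [show s * (z * b) * s⁻¹ = s * z * s⁻¹ * (s * b * s⁻¹) by group, hzfix s hsT, hbf s hsT]
        obtain ⟨v, hv, hvZ, hv2, hvc⟩ := exists_central_mod hy.two hZD hD.le hZ.nrm hD.nrm (fun e => by
          obtain ⟨d₁, hd₁, e₁, he₁, hde⟩ := exists_noncomm hy hf hne
          exact hde (by rw [conj_eq_of_commute (zsub_comm (show d₁ ∈ Z from e ▸ hd₁) he₁), mul_inv_cancel]))
        refine ⟨v, hv, hvZ, hvc, ?_⟩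
        have hwz : w = z := (hfix2 w hr2 hwfix).resolve_left hw
        rw [hwz]
        refine hfix2 _ hv2 fun g hg => ?_
        have hc := hvc g hg
        set u := g * v * g⁻¹ * v⁻¹ with hu
        have e : g * v * g⁻¹ = u * v := by rw [hu, inv_mul_cancel_right]
        rw [← sq_conj, e, (zsub_comm hc hv).symm.mul_mul_mul_comm u v, hy.zsub_elementary hf hc, one_mul]
    have hvT : v ∈ T := hD.le hvD
    have hvZc : ∀ a ∈ Z, Commute v a := fun a ha => (zsub_comm ha hvD).symm
    rcases hv2 with hv2 | hv2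
    · exact hy.no_eight hZ.le h4 hZ.nrm hZcomm (fun a ha => hy.zsub_elementary hf ha) hvT hv2 hvZ hvZc hvc
    · refine hy.no_eight hZ.le h4 hZ.nrm hZcomm (fun a ha => hy.zsub_elementary hf ha) (mul_mem hvT hrT) ?_ ?_
        (fun a ha => (hvZc a ha).mul_left (hCd r hr a (hZD ha))) fun g hg => ?_
      · rw [(hCd r hr v hvD).mul_mul_mul_comm v r, hv2, ← hwdef, hy.zsub_elementary hf hr2]
      · intro h1
        apply hrZ
        rw [← hDR]
        exact mem_inf.2 ⟨(mul_mem_cancel_left hvD).1 (hZD h1), (mem_inf.1 hr).1⟩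
      · rw [show g * (v * r) * g⁻¹ * (v * r)⁻¹ = g * v * g⁻¹ * v⁻¹ * (v * (g * r * g⁻¹ * r⁻¹) * v⁻¹) by group,
          conj_eq_of_commute (hvZc _ (hrc g hg))]
        exact mul_mem (hvc g hg) (hrc g hg)
  have hCeq : C = Z := le_antisymm hCZ fun a ha => mem_inf.2 ⟨(hDR ▸ ha : a ∈ D ⊓ R).2,
    fun b hb => (zsub_comm ha (hZD hb)).symm.eq⟩
  rw [hCeq] at hCidx
  obtain ⟨k, hk⟩ := relIndex_pow hy.two Z (inf_le_left : R ≤ T)
  rw [hcard, hk]
  rw [hk] at hCidx
  have : k ≤ 1 := by
    by_contra hlt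
    have := Nat.pow_le_pow_right (show 0 < 2 by norm_num) (show 2 ≤ k by omega)
    omega
  interval_cases k <;> simp

end Cfsg.Agent.NormalRankTwo
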