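import Mathlib
import Cfsg.Agent.Lib.SmallSimple.Basic
import Cfsg.Agent.Lib.ZStar.Main
import Cfsg.Agent.Lib.NormalRankTwo.SpecialBound

/-!
# A central product of an extraspecial group with the fixed points does not occur
-/

set_option autoImplicit false
set_option linter.style.haveILetI false
set_option linter.unusedSectionVars false

namespace Cfsg.Agent.NormalRankTwo

open Subgroup

variable {G : Type*} [Group G] [Finite G] {p : ℕ} {h : G}

/-- A centre of order two of `[T, h]` is impossible in a simple group. -/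
theorem fusion_case [IsSimpleGroup G] (hna : ¬ IsMulCommutative G) (T : Sylow 2 G)
    (hy : Hyp (T : Subgroup G) p h) (hf : FixAb (T : Subgroup G) h) (hne : ∃ g ∈ (T : Subgroup G), ¬ Commute h g)
    (hfixN : ∀ n ∈ normalizer ((T : Subgroup G) : Set G), ∀ w ∈ (T : Subgroup G),
      (∀ g ∈ (T : Subgroup G), Commute g w) → w * w = 1 → n * w * n⁻¹ = w)
    (h2 : Nat.card (zsub (T : Subgroup G) h) = 2) : False := by
  classical
  haveI : Fact (Nat.Prime 2) := ⟨Nat.prime_two⟩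
  have hD := hy.dsub_inv
  have hZ := hy.zsub_inv
  obtain ⟨hsq, hcomm, -⟩ := hy.dsub_special hf
  set D := dsub (T : Subgroup G) h with hDdef
  set Z := zsub (T : Subgroup G) h with hZdef
  have hZD : Z ≤ D := inf_le_left
  -- the involution of the centre
  obtain ⟨z, hzZ, hz1⟩ : ∃ z ∈ Z, z ≠ 1 := by
    by_contra hall
    push Not at hall
    rw [(Subgroup.eq_bot_iff_forall Z).2 hall, card_bot] at h2
    omega
  have hz2 : z * z = 1 := hy.zsub_elementary hf hzZ
  have hZm : ∀ w ∈ Z, w = 1 ∨ w = z := by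
    intro w hw
    by_contra hw'
    push Not at hw'
    have h3 := Set.ncard_le_ncard (show ({1, z, w} : Set G) ⊆ (Z : Set G) by
      rintro b (rfl | rfl | rfl)
      exacts [one_mem _, hzZ, hw]) (Set.toFinite _)
    rw [Set.ncard_insert_of_notMem (by simp [hz1.symm, hw'.1.symm]), Set.ncard_pair hw'.2.symm,
      ← Nat.card_coe_set_eq, SetLike.coe_sort_coe, h2] at h3
    omega
  have hzo : orderOf z = 2 := orderOf_eq_prime (by rw [pow_two]; exact hz2) hz1
  have hzT : z ∈ (T : Subgroup G) := hZ.le hzZ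
  have hzc : ∀ g ∈ (T : Subgroup G), Commute g z := fun g hg => by
    refine commute_of_conj_eq ((hZm _ (hZ.nrm g hg z hzZ)).resolve_left fun e => hz1 (conj_eq_one_iff.1 e))
  have hZc : ∀ g ∈ (T : Subgroup G), ∀ w ∈ Z, Commute g w := fun g hg w hw => by
    rcases hZm w hw with rfl | rfl
    exacts [Commute.one_right g, hzc g hg]
  -- the fixed points centralise `D`
  have hRD : ∀ r ∈ (T : Subgroup G), Commute h r → ∀ d ∈ D, Commute r d := fun r hr hrh d hd =>
    hy.commute_dsub hf hr hrh (fun w hw => hZc r hr w hw) hd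
  have hcentD : ∀ g ∈ (T : Subgroup G), (∀ d ∈ D, Commute g d) → Commute h g := by
    intro g hg hgD
    obtain ⟨d, hd, r, hr, hrh, rfl⟩ := hy.exists_prod hg
    have hdZ : d ∈ Z := mem_inf.2 ⟨hd, fun e he => by
      have h1 := (hgD e he).mul_left (hRD r hr hrh e he).inv_left
      rw [mul_inv_cancel_right] at h1
      exact h1.symm.eq⟩
    exact (hy.zsub_fixed hf hdZ).mul_right hrh
  have hsqR : ∀ g ∈ (T : Subgroup G), Commute h (g * g) := by
    intro g hg
    obtain ⟨d, hd, r, hr, hrh, rfl⟩ := hy.exists_prod hg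
    rw [(hRD r hr hrh d hd).mul_mul_mul_comm d r]
    exact (hy.zsub_fixed hf (hsq d hd)).mul_right (hrh.mul_right hrh)
  have hDR : ∀ d ∈ D, Commute h d → d ∈ Z := fun d hd hc => hy.fpf hf hd (by
    rw [conj_eq_of_commute hc, mul_inv_cancel]; exact one_mem _)
  obtain ⟨d₀, hd₀, e₀, he₀, hde⟩ := exists_noncomm hy hf hne
  -- squares in centralisers
  obtain ⟨d₁, hd₁, hd₁2⟩ : ∃ d ∈ D, d * d = z := by
    by_contra hall
    push Not at hall
    apply hde
    have hall' : ∀ d ∈ D, d * d = 1 := fun d hd => (hZm _ (hsq d hd)).resolve_right (hall d hd)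
    rw [conj_eq_of_commute (FixityFour.commute_of_sq hall' hd₀ he₀), mul_inv_cancel]
  have hz_sq : ∀ u ∈ (T : Subgroup G), u * u = 1 → ∃ c ∈ (T : Subgroup G), Commute c u ∧ c * c = z := by
    intro u hu hu2
    obtain ⟨d, hd, r, hr, hrh, rfl⟩ := hy.exists_prod hu
    by_cases hdZ : d ∈ Z
    · exact ⟨d₁, hD.le hd₁, ((zsub_comm hdZ hd₁).symm).mul_right (hRD r hr hrh d₁ hd₁).symm, hd₁2⟩
    set C₀ := commIn hy hf d hd ⊥ with hC₀
    have hC₀c : ∀ e ∈ C₀, Commute e d := fun e he => (commute_of_conj_eq (mul_inv_eq_one.1 (mem_bot.1 he.2))).symm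
    by_contra hall
    push Not at hall
    have hC₀2 : ∀ e ∈ C₀, e * e = 1 := fun e he => (hZm _ (hsq e he.1)).resolve_right
      (hall e (hD.le he.1) ((hC₀c e he).mul_right (hRD r hr hrh e he.1).symm))
    have hC₀D : C₀ ≤ D := fun e he => he.1
    have hle : Nat.card C₀ ≤ 4 := hy.rank C₀ (hC₀D.trans hD.le) (fun g hg e he => by
      obtain ⟨d', hd', r', hr', hr'h, rfl⟩ := hy.exists_prod hg
      rw [show d' * r' * e * (d' * r')⁻¹ = d' * (r' * e * r'⁻¹) * d'⁻¹ by group,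
        conj_eq_of_commute (hRD r' hr' hr'h e he.1), ← inv_mul_cancel_right (d' * e * d'⁻¹) e]
      exact mul_mem (zsub_le_commIn hy hf hd ⊥ (hcomm d' hd' e he.1)) he)
      (fun a ha b hb => FixityFour.commute_of_sq hC₀2 ha hb) hC₀2
    have hidx : C₀.relIndex D ≤ 2 := relIndex_le_two fun a ha haC b hb hbC => ⟨mul_mem ha hb, mem_bot.2 (by
      rw [show d * (a * b) * d⁻¹ * (a * b)⁻¹ = d * a * d⁻¹ * a⁻¹ * (a * (d * b * d⁻¹ * b⁻¹) * a⁻¹) by group,
        conj_eq_of_commute (zsub_comm (hcomm d hd b hb) ha).symm,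
        (hZm _ (hcomm d hd a ha)).resolve_left fun e => haC ⟨ha, mem_bot.2 e⟩,
        (hZm _ (hcomm d hd b hb)).resolve_left fun e => hbC ⟨hb, mem_bot.2 e⟩, hz2])⟩
    have hD8 : Nat.card D ≤ 8 := by
      have h1 := (C₀.subgroupOf D).card_mul_index
      rw [Nat.card_congr (subgroupOfEquivOfLe hC₀D).toEquiv] at h1
      rw [← h1]
      exact le_trans (Nat.mul_le_mul hle hidx) le_rfl
    have hd2 : d * d = 1 := hC₀2 d (mem_commIn_self hy hf hd ⊥)
    set d' := h * d * h⁻¹ with hd'def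
    have hd'D : d' ∈ D := hD.hinv d hd
    have hd'2 : d' * d' = 1 := by rw [hd'def, sq_conj, hd2]; group
    obtain ⟨E, hZE, hED, hdE, -, hEm⟩ := exists_ext hZD hcomm hd (by rw [hd2]; exact Z.one_mem)
    have hd'E : d' ∉ E := by
      intro h1
      rcases hEm d' h1 with h3 | h3
      · apply hdZ
        have := hinv_symm hZ.hinv h3
        rwa [hd'def, show h⁻¹ * (h * d * h⁻¹) * h = d by group] at this
      · refine hdZ (hy.fpf hf hd ?_)
        rw [← hd'def, inv_eq_of_mul_eq_one_right hd2]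
        exact h3
    obtain ⟨F, hEF, hFD, hd'F, -, hFm⟩ :=
      exists_ext hED (fun a ha b hb => hZE (hcomm a ha b hb)) hd'D (by rw [hd'2]; exact E.one_mem)
    have hFD' : F = D := by
      refine eq_of_le_of_card_ge hFD ?_
      have hlt : ∀ {A B : Subgroup G}, A ≤ B → B ≤ (T : Subgroup G) → (∃ x ∈ B, x ∉ A) →
          2 * Nat.card A ≤ Nat.card B := by
        intro A B hAB hBT ⟨x, hx, hxA⟩
        obtain ⟨k, hk⟩ := relIndex_pow hy.two A hBT
        have h1 := (A.subgroupOf B).card_mul_index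
        rw [Nat.card_congr (subgroupOfEquivOfLe hAB).toEquiv] at h1
        have h3 : A.relIndex B ≠ 1 := fun e => hxA (relIndex_eq_one.1 e hx)
        have h4 : 1 ≤ A.relIndex B := by rw [hk]; exact Nat.one_le_two_pow
        have h5 : 2 ≤ (A.subgroupOf B).index := by
          show 2 ≤ A.relIndex B
          omega
        rw [← h1, mul_comm]
        exact Nat.mul_le_mul_left _ h5
      have h3 := hlt hZE (hED.trans hD.le) ⟨d, hdE, hdZ⟩
      have h4 := hlt hEF (hFD.trans hD.le) ⟨d', hd'F, hd'E⟩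
      omega
    have hsqz : (d * d') * (d * d') = z := by
      have hcd : d * d' * d⁻¹ * d'⁻¹ = (d * d') * (d * d') := by
        rw [inv_eq_of_mul_eq_one_right hd2, inv_eq_of_mul_eq_one_right hd'2]; group
      rw [← hcd]
      refine (hZm _ (hcomm d hd d' hd'D)).resolve_left fun e => ?_
      have hcdd : Commute d' d := (commute_of_conj_eq (mul_inv_eq_one.1 e)).symm
      have hd'C : d' ∈ C₀ := ⟨hd'D, mem_bot.2 e⟩
      have hle2 : D ≤ C₀ := by
        rw [← hFD']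
        intro f hfF
        have hEC : ∀ e ∈ E, e ∈ C₀ := fun e he => by
          rcases hEm e he with h3 | h3
          · exact zsub_le_commIn hy hf hd ⊥ h3
          · exact (mul_mem_cancel_right (mem_commIn_self hy hf hd ⊥)).1 (zsub_le_commIn hy hf hd ⊥ h3)
        rcases hFm f hfF with h3 | h3
        · exact hEC f h3
        · exact (mul_mem_cancel_right hd'C).1 (hEC _ h3)
      exact hde (by
        rw [conj_eq_of_commute (FixityFour.commute_of_sq hC₀2 (hle2 hd₀) (hle2 he₀)), mul_inv_cancel])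
    set e := h * d' * h⁻¹ with hedef
    have heD : e ∈ D := hD.hinv d' hd'D
    have he2 : e * e = 1 := by rw [hedef, sq_conj, hd'2]; group
    have hmem : e ∈ F := hFD'.symm ▸ heD
    have hmul : ∀ w ∈ Z, (w * (d * d')) * (w * (d * d')) = z := fun w hw => by
      rw [(zsub_comm hw (mul_mem hd hd'D)).symm.mul_mul_mul_comm w (d * d'), hy.zsub_elementary hf hw, one_mul, hsqz]
    rcases hFm e hmem with h3 | h3
    · rcases hEm e h3 with h4 | h4
      · -- `d` would be central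
        apply hdZ
        have := hinv_symm hZ.hinv (hinv_symm hZ.hinv h4)
        rwa [hedef, hd'def, show h⁻¹ * (h⁻¹ * (h * (h * d * h⁻¹) * h⁻¹) * h) * h = d by group] at this
      · -- `h ^ 2` fixes `d` modulo the centre
        refine hdZ (hy.fpf hf hd ?_)
        obtain ⟨m, hm⟩ := hy.odd_order
        have hi : ∀ i, h ^ (2 * i) * d * (h ^ (2 * i))⁻¹ * d⁻¹ ∈ Z := by
          intro i
          induction i with
          | zero => simp
          | succ i ih =>
            have h5 : h ^ 2 * (h ^ (2 * i) * d * (h ^ (2 * i))⁻¹ * d⁻¹) * (h ^ 2)⁻¹ ∈ Z :=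
              pow_conj_mem hZ.hinv 2 ih
            have h6 : h ^ 2 * d * (h ^ 2)⁻¹ * d⁻¹ ∈ Z := by
              rw [show h ^ 2 * d * (h ^ 2)⁻¹ = e by rw [hedef, hd'def, pow_two]; group,
                inv_eq_of_mul_eq_one_right hd2]
              exact h4
            have := mul_mem h5 h6
            rwa [show h ^ 2 * (h ^ (2 * i) * d * (h ^ (2 * i))⁻¹ * d⁻¹) * (h ^ 2)⁻¹ * (h ^ 2 * d * (h ^ 2)⁻¹ * d⁻¹) =
              h ^ (2 * (i + 1)) * d * (h ^ (2 * (i + 1)))⁻¹ * d⁻¹ by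
                rw [show 2 * (i + 1) = 2 + 2 * i by ring, pow_add]; group] at this
        have := hi (m + 1)
        rwa [show 2 * (m + 1) = orderOf h + 1 by omega, pow_succ, pow_orderOf_eq_one, one_mul] at this
    · rcases hEm _ h3 with h4 | h4
      · -- `e` and `d'` agree modulo the centre
        refine hdZ ?_
        have h5 : d' ∈ Z := hy.fpf hf hd'D (by rw [← hedef, inv_eq_of_mul_eq_one_right hd'2]; exact h4)
        have := hinv_symm hZ.hinv h5
        rwa [hd'def, show h⁻¹ * (h * d * h⁻¹) * h = d by group] at this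
      · -- `e` would square to `z`
        have h5 := hmul (e * d' * d) h4
        rw [show e * d' * d * (d * d') = e * (d' * (d * d) * d') by group, hd2, mul_one, hd'2, mul_one, he2] at h5
        exact hz1 h5.symm
  -- the involution `z` is isolated unless it has other conjugates in `T`
  set Ω := {u : G | u ∈ (T : Subgroup G) ∧ u ≠ z ∧ IsConj z u} with hΩ
  have hΩne : Ω.Nonempty := by
    by_contra hempty
    have hO : Cfsg.oddCore G = ⊥ := by
      rcases (inferInstance : (Cfsg.oddCore G).Normal).eq_bot_or_eq_top with h3 | h3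
      · exact h3
      · exfalso
        have hodd := InvChar.Core.odd_card_oddCore (G := G)
        have hd := (Cfsg.oddCore G).orderOf_dvd_natCard (x := z) (h3 ▸ mem_top z)
        rw [hzo] at hd
        exact Nat.not_even_iff_odd.2 hodd (even_iff_two_dvd.2 hd)
    have hiso : Cfsg.IsIsolatedInvolution z := by
      refine ⟨hzo, fun g hg => ?_⟩
      by_contra hne'
      set z' := g * z * g⁻¹ with hz'
      have hz'2 : z' * z' = 1 := by rw [hz', sq_conj, hz2]; group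
      have hz'1 : z' ≠ 1 := fun e => hz1 (conj_eq_one_iff.1 e)
      obtain ⟨V, hV4, -, hzV, hz'V, -⟩ := FixityFour.exists_four hz2 hz'2 hg hz1 hz'1 (Ne.symm hne')
      obtain ⟨m, -, hm⟩ := FixityFour.conj_into T (M := ⊤) le_top (le_top : V ≤ ⊤)
        (IsPGroup.of_card (n := 2) (by rw [hV4]; rfl))
      have hc1 : IsConj z (m * z * m⁻¹) := isConj_iff.2 ⟨m, rfl⟩
      have hc2 : IsConj z (m * z' * m⁻¹) := isConj_iff.2 ⟨m * g, by rw [hz']; group⟩
      have e1 : m * z * m⁻¹ = z := by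
        by_contra e; exact hempty ⟨_, hm z hzV, e, hc1⟩
      have e2 : m * z' * m⁻¹ = z := by
        by_contra e; exact hempty ⟨_, hm z' hz'V, e, hc2⟩
      exact hne' ((MulAut.conj m).injective (show m * z' * m⁻¹ = m * z * m⁻¹ by rw [e1, e2]))
    have hc := ZStar.Main.mem_center_of_isolated hO hiso
    rw [SmallSimple.Basic.center_eq_bot hna, mem_bot] at hc
    exact hz1 hc
  obtain ⟨u, hu, hmax⟩ := Set.exists_max_image Ω
    (fun u => Nat.card ↥((T : Subgroup G) ⊓ centralizer ({u} : Set G))) (Set.toFinite _) hΩne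
  obtain ⟨huT, huz, hzu⟩ := hu
  obtain ⟨g₀, hg₀⟩ := isConj_iff.1 hzu
  have hu2 : u * u = 1 := by rw [← hg₀, sq_conj, hz2]; group
  set S := (T : Subgroup G) ⊓ centralizer ({u} : Set G) with hS
  have huS : u ∈ S := mem_inf.2 ⟨huT, mem_centralizer_singleton_iff.2 rfl⟩
  have hST : S ≠ (T : Subgroup G) := by
    intro e
    have hc : ∀ g ∈ (T : Subgroup G), Commute g u := fun g hg =>
      mem_centralizer_singleton_iff.1 (mem_inf.1 (show g ∈ S from e.symm ▸ hg)).2
    obtain ⟨n, hn, hne'⟩ := Sylow.conj_eq_normalizer_conj_of_mem_centralizer T z g₀⁻¹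
      (mem_centralizer_iff.2 fun g hg => (hzc g hg).eq)
      (by rw [inv_inv, hg₀]; exact mem_centralizer_iff.2 fun g hg => (hc g hg).eq)
    rw [inv_inv, hg₀] at hne'
    have := hfixN n⁻¹ (inv_mem hn) z hzT hzc hz2
    rw [inv_inv] at this
    exact huz (hne'.trans this)
  set C := centralizer ({u} : Set G) with hC
  have hSC : S ≤ C := inf_le_right
  obtain ⟨Q, hQ⟩ := ((T.isPGroup'.to_le (inf_le_left : S ≤ _)).comap_of_injective C.subtype C.subtype_injective :
    IsPGroup 2 (S.subgroupOf C)).exists_le_sylow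
  set Q' := (Q : Subgroup C).map C.subtype with hQ'
  have hSQ : S ≤ Q' := fun s hs => mem_map.2 ⟨⟨s, hSC hs⟩, hQ hs, rfl⟩
  have hQp : IsPGroup 2 Q' := Q.isPGroup'.map _
  have hQne : S ≠ Q' := by
    intro e
    have hlt : Nat.card S < Nat.card (T : Subgroup G) :=
      lt_of_le_of_ne (card_le_of_le inf_le_left) fun e' => hST (eq_of_le_of_card_ge inf_le_left e'.ge)
    set T' := (T : Subgroup G).map (MulAut.conj g₀).toMonoidHom
    have hT'C : T' ≤ C := by
      rintro _ ⟨t, ht, rfl⟩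
      refine mem_centralizer_singleton_iff.2 ?_
      rw [← hg₀]
      exact (conj_commute (c := g₀) (hzc t ht)).eq
    obtain ⟨m, -, hm⟩ := FixityFour.conj_into Q (M := ⊤) le_top (le_top : T'.subgroupOf C ≤ ⊤)
      ((T.isPGroup'.map _).comap_of_injective C.subtype C.subtype_injective)
    have h1 : Nat.card T' ≤ Nat.card Q' := by
      rw [← Nat.card_congr (subgroupOfEquivOfLe hT'C).toEquiv,
        ← card_map_of_injective (K := T'.subgroupOf C) (f := (MulAut.conj m).toMonoidHom) (MulAut.conj m).injective,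
        hQ', card_map_of_injective C.subtype_injective]
      exact card_le_of_le (by rintro _ ⟨y, hy', rfl⟩; exact hm y hy')
    rw [card_map_of_injective (MulAut.conj g₀).injective, ← e] at h1
    omega
  obtain ⟨y, hyQ, hyS, hyn, hyn'⟩ := FixityFour.exists_normalizing hQp hSQ hQne
  have hyu : Commute y u := mem_centralizer_singleton_iff.1 (map_subtype_le _ hyQ)
  set z' := y * z * y⁻¹ with hz'def
  have hzS : z ∈ S := mem_inf.2 ⟨hzT, mem_centralizer_singleton_iff.2 (hzc u huT).symm.eq⟩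
  by_cases hz'z : z' = z
  · -- a larger centraliser
    set Y := Q' ⊓ centralizer ({z} : Set G)
    have hSY : S ≤ Y := fun s hs => mem_inf.2 ⟨hSQ hs, mem_centralizer_singleton_iff.2 (hzc s (mem_inf.1 hs).1).eq⟩
    have hyY : y ∈ Y := mem_inf.2 ⟨hyQ, mem_centralizer_singleton_iff.2 (commute_of_conj_eq hz'z).eq⟩
    obtain ⟨m, hm, hmY⟩ := FixityFour.conj_into T (M := centralizer ({z} : Set G))
      (fun t ht => mem_centralizer_singleton_iff.2 (hzc t ht).eq) (inf_le_right : Y ≤ _) (hQp.to_le inf_le_left)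
    have hmz : Commute m z := mem_centralizer_singleton_iff.1 hm
    have hu' : m * u * m⁻¹ ∈ Ω := ⟨hmY u (hSY huS), fun e => huz (by
      calc u = m⁻¹ * (m * u * m⁻¹) * m := by group
        _ = z := by rw [e, mul_assoc, ← hmz.eq, inv_mul_cancel_left]),
      isConj_iff.2 ⟨m * g₀, by rw [← hg₀]; group⟩⟩
    have h1 := hmax _ hu'
    have h3 : Nat.card Y ≤ Nat.card ↥((T : Subgroup G) ⊓ centralizer ({m * u * m⁻¹} : Set G)) := by
      rw [← card_map_of_injective (K := Y) (f := (MulAut.conj m).toMonoidHom) (MulAut.conj m).injective]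
      refine card_le_of_le ?_
      rintro _ ⟨w, hw, rfl⟩
      refine mem_inf.2 ⟨hmY w hw, mem_centralizer_singleton_iff.2 ?_⟩
      exact (conj_commute (c := m) (mem_centralizer_singleton_iff.1 (map_subtype_le _ (mem_inf.1 hw).1) :
        Commute w u)).eq
    have h4 : Nat.card S < Nat.card Y := lt_of_le_of_ne (card_le_of_le hSY) fun e => hyS
      ((eq_of_le_of_card_ge hSY e.ge).symm ▸ hyY)
    omega
  obtain ⟨c, hcT, hcu, hc2⟩ := hz_sq u huT hu2
  have hcS : c ∈ S := mem_inf.2 ⟨hcT, mem_centralizer_singleton_iff.2 hcu.eq⟩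
  have hz'R : Commute h z' := by
    rw [hz'def, ← hc2, ← sq_conj]
    exact hsqR _ (mem_inf.1 (hyn c hcS)).1
  have hz'T : z' ∈ (T : Subgroup G) := (mem_inf.1 (hyn z hzS)).1
  have hz'Ω : z' ∈ Ω := ⟨hz'T, hz'z, isConj_iff.2 ⟨y, rfl⟩⟩
  set S' := (T : Subgroup G) ⊓ centralizer ({z'} : Set G) with hS'
  have hSS' : S ≤ S' := fun s hs => by
    refine mem_inf.2 ⟨(mem_inf.1 hs).1, mem_centralizer_singleton_iff.2 ?_⟩
    have h1 := conj_commute (c := y) (hzc _ (mem_inf.1 (hyn' s hs)).1)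
    rw [show y * (y⁻¹ * s * y) * y⁻¹ = s by group] at h1
    exact h1.eq
  have hS'eq : S = S' := eq_of_le_of_card_ge hSS' (hmax _ hz'Ω)
  have hDS : D ≤ S := fun d hd => by
    rw [hS'eq]
    exact mem_inf.2 ⟨hD.le hd, mem_centralizer_singleton_iff.2 (hRD z' hz'T hz'R d hd).symm.eq⟩
  -- the conjugate of `D`
  set D' := D.map (MulAut.conj y).toMonoidHom with hD'
  have hD'S : D' ≤ S := by
    rintro _ ⟨d, hd, rfl⟩
    exact hyn d (hDS hd)
  have hmin : ∀ N : Subgroup G, N ≤ D → (∀ d ∈ D, ∀ a ∈ N, d * a * d⁻¹ ∈ N) → N ≠ ⊥ → z ∈ N := by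
    intro N hND hNn hN1
    obtain ⟨a, ha, ha1, -, hac⟩ := exists_central_mod (hy.two.to_le hD.le) (bot_le : ⊥ ≤ N) hND
      (fun g _ b hb => by rw [mem_bot.1 hb]; simp) hNn (Ne.symm hN1)
    have haZ : a ∈ Z := mem_inf.2 ⟨hND ha, fun d hd =>
      (commute_of_conj_eq (mul_inv_eq_one.1 (mem_bot.1 (hac d hd)))).eq⟩
    exact ((hZm a haZ).resolve_left fun e => ha1 (mem_bot.2 e)) ▸ ha
  have hD'n : ∀ s ∈ S, ∀ a ∈ D', s * a * s⁻¹ ∈ D' := by
    rintro s hs _ ⟨d, hd, rfl⟩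
    refine ⟨(y⁻¹ * s * y) * d * (y⁻¹ * s * y)⁻¹, hD.nrm _ (mem_inf.1 (hyn' s hs)).1 d hd, ?_⟩
    show y * ((y⁻¹ * s * y) * d * (y⁻¹ * s * y)⁻¹) * y⁻¹ = s * (y * d * y⁻¹) * s⁻¹
    group
  have hz'D : z' ∉ D := fun h1 => hz'z ((hZm z' (hDR z' h1 hz'R)).resolve_left fun e => hz1 (conj_eq_one_iff.1 e))
  have hDD' : D ⊓ D' = ⊥ := by
    by_contra hne'
    have hN : ∀ s ∈ S, ∀ a ∈ D ⊓ D', s * a * s⁻¹ ∈ D ⊓ D' := fun s hs a ha =>
      mem_inf.2 ⟨hD.nrm s (mem_inf.1 hs).1 a (mem_inf.1 ha).1, hD'n s hs a (mem_inf.1 ha).2⟩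
    set N' := (D ⊓ D').map (MulAut.conj y⁻¹).toMonoidHom with hN'
    have hN'D : N' ≤ D := by
      rintro _ ⟨a, ha, rfl⟩
      obtain ⟨d, hd, rfl⟩ := (mem_inf.1 ha).2
      simpa [mul_assoc] using hd
    have h1 : z ∈ N' := hmin N' hN'D (by
      rintro d hd _ ⟨a, ha, rfl⟩
      refine ⟨(y * d * y⁻¹) * a * (y * d * y⁻¹)⁻¹, hN _ (hyn d (hDS hd)) a ha, ?_⟩
      show y⁻¹ * ((y * d * y⁻¹) * a * (y * d * y⁻¹)⁻¹) * y⁻¹⁻¹ = d * (y⁻¹ * a * y⁻¹⁻¹) * d⁻¹
      group) (fun e => hne' (by rwa [hN', map_eq_bot_iff_of_injective _ (MulAut.conj y⁻¹).injective] at e))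
    obtain ⟨a, ha, hae⟩ := h1
    have : a = z' := by
      rw [hz'def, ← hae]
      show a = y * (y⁻¹ * a * y⁻¹⁻¹) * y⁻¹
      group
    exact hz'D (this ▸ (mem_inf.1 ha).1)
  have hcommDD' : ∀ d ∈ D, ∀ a ∈ D', Commute d a := fun d hd a ha => by
    refine commute_of_conj_eq (mul_inv_eq_one.1 (mem_bot.1 (hDD' ▸ mem_inf.2 ⟨?_, ?_⟩)))
    · rw [show d * a * d⁻¹ * a⁻¹ = d * (a * d⁻¹ * a⁻¹) by group]
      exact mul_mem hd (hD.nrm a (mem_inf.1 (hD'S ha)).1 _ (inv_mem hd))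
    · exact mul_mem (hD'n d (hDS hd) a ha) (inv_mem ha)
  obtain ⟨r, hrT, hrS, hrn, hrn'⟩ := FixityFour.exists_normalizing T.isPGroup' (inf_le_left : S ≤ _) hST
  set z'' := r * z' * r⁻¹ with hz''def
  set D'' := D'.map (MulAut.conj r).toMonoidHom with hD''
  have hz''z' : z'' ≠ z' := fun e => hrS (hS'eq.ge
    (mem_inf.2 ⟨hrT, mem_centralizer_singleton_iff.2 (commute_of_conj_eq e).eq⟩))
  have hz'S' : z' ∈ S := hyn z hzS
  have hD''S : D'' ≤ S := by
    rintro _ ⟨a, ha, rfl⟩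
    exact hrn a (hD'S ha)
  have hcommDD'' : ∀ d ∈ D, ∀ a ∈ D'', Commute d a := by
    rintro d hd _ ⟨a, ha, rfl⟩
    have h1 := hcommDD' (r⁻¹ * d * r) (by simpa using hD.nrm r⁻¹ (inv_mem hrT) d hd) a ha
    have h3 := conj_commute (c := r) h1
    rwa [show r * (r⁻¹ * d * r) * r⁻¹ = d by group] at h3
  have hD''n : ∀ s ∈ S, ∀ a ∈ D'', s * a * s⁻¹ ∈ D'' := by
    rintro s hs _ ⟨a, ha, rfl⟩
    refine ⟨(r⁻¹ * s * r) * a * (r⁻¹ * s * r)⁻¹, hD'n _ (hrn' s hs) a ha, ?_⟩
    show r * ((r⁻¹ * s * r) * a * (r⁻¹ * s * r)⁻¹) * r⁻¹ = s * (r * a * r⁻¹) * s⁻¹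
    group
  have hD'D'' : D' ⊓ D'' = ⊥ := by
    by_contra hne'
    set N' := (D' ⊓ D'').map (MulAut.conj (r * y)⁻¹).toMonoidHom with hN'
    have hN'D : N' ≤ D := by
      rintro _ ⟨a, ha, rfl⟩
      obtain ⟨b, ⟨d, hd, rfl⟩, rfl⟩ := (mem_inf.1 ha).2
      simpa [mul_assoc] using hd
    have h1 : z ∈ N' := hmin N' hN'D (by
      rintro d hd _ ⟨a, ha, rfl⟩
      have hs : r * y * d * (r * y)⁻¹ ∈ S := by
        rw [show r * y * d * (r * y)⁻¹ = r * (y * d * y⁻¹) * r⁻¹ by group]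
        exact hrn _ (hyn d (hDS hd))
      refine ⟨(r * y * d * (r * y)⁻¹) * a * (r * y * d * (r * y)⁻¹)⁻¹,
        mem_inf.2 ⟨hD'n _ hs a (mem_inf.1 ha).1, hD''n _ hs a (mem_inf.1 ha).2⟩, ?_⟩
      show (r * y)⁻¹ * ((r * y * d * (r * y)⁻¹) * a * (r * y * d * (r * y)⁻¹)⁻¹) * (r * y)⁻¹⁻¹ =
        d * ((r * y)⁻¹ * a * (r * y)⁻¹⁻¹) * d⁻¹
      group) (fun e => hne' (by rwa [hN', map_eq_bot_iff_of_injective _ (MulAut.conj (r * y)⁻¹).injective] at e))
    obtain ⟨a, ha, hae⟩ := h1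
    have haz : a = z'' := by
      rw [hz''def, hz'def, ← hae]
      show a = r * (y * ((r * y)⁻¹ * a * (r * y)⁻¹⁻¹) * y⁻¹) * r⁻¹
      group
    have hz''D' : z'' ∈ D' := haz ▸ (mem_inf.1 ha).1
    obtain ⟨d, hd, hde'⟩ := hz''D'
    have hde'' : y * d * y⁻¹ = z'' := hde'
    have hdZ : d ∈ Z := mem_inf.2 ⟨hd, fun d' hd' => by
      have hs : r⁻¹ * (y * d' * y⁻¹) * r ∈ S := hrn' _ (hyn d' (hDS hd'))
      rw [hS'eq] at hs
      have h3 : Commute (r⁻¹ * (y * d' * y⁻¹) * r) z' := mem_centralizer_singleton_iff.1 (mem_inf.1 hs).2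
      have h4 := conj_commute (c := r) h3
      rw [← hz''def, ← hde'', show r * (r⁻¹ * (y * d' * y⁻¹) * r) * r⁻¹ = y * d' * y⁻¹ by group] at h4
      have h5 := conj_commute (c := y⁻¹) h4
      rw [show y⁻¹ * (y * d' * y⁻¹) * y⁻¹⁻¹ = d' by group, show y⁻¹ * (y * d * y⁻¹) * y⁻¹⁻¹ = d by group] at h5
      exact h5.eq⟩
    rcases hZm d hdZ with rfl | rfl
    · rw [show y * (1 : G) * y⁻¹ = 1 by group] at hde''
      exact hz1 (conj_eq_one_iff.1 (conj_eq_one_iff.1 hde''.symm : z' = 1))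
    · exact hz''z' hde''.symm
  have hcommD'D'' : ∀ b ∈ D', ∀ a ∈ D'', Commute b a := fun b hb a ha => by
    refine commute_of_conj_eq (mul_inv_eq_one.1 (mem_bot.1 (hD'D'' ▸ mem_inf.2 ⟨?_, ?_⟩)))
    · rw [show b * a * b⁻¹ * a⁻¹ = b * (a * b⁻¹ * a⁻¹) by group]
      exact mul_mem hb (hD'n a (hD''S ha) _ (inv_mem hb))
    · exact mul_mem (hD''n b (hD'S hb) a ha) (inv_mem ha)
  -- three factors make the sectional rank too large
  let φ : (D × D' × D'' : Type _) →* G :=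
    { toFun := fun q => q.1 * q.2.1 * q.2.2
      map_one' := by simp
      map_mul' := fun a b => by
        have e1 := hcommDD' b.1 b.1.2 a.2.1 a.2.1.2
        have e2 := hcommDD'' b.1 b.1.2 a.2.2 a.2.2.2
        have e3 := hcommD'D'' b.2.1 b.2.1.2 a.2.2 a.2.2.2
        show (a.1 : G) * b.1 * ((a.2.1 : G) * b.2.1) * ((a.2.2 : G) * b.2.2) =
          (a.1 : G) * a.2.1 * a.2.2 * ((b.1 : G) * b.2.1 * b.2.2)
        calc (a.1 : G) * b.1 * ((a.2.1 : G) * b.2.1) * ((a.2.2 : G) * b.2.2)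
            = a.1 * ((b.1 : G) * a.2.1) * ((b.2.1 : G) * a.2.2) * b.2.2 := by group
          _ = a.1 * a.2.1 * ((b.1 : G) * a.2.2) * b.2.1 * b.2.2 := by rw [e1.eq, e3.eq]; group
          _ = _ := by rw [e2.eq]; group }
  -- the product of the three centres
  let P₀ : Subgroup (D × D' × D'' : Type _) :=
    (Z.subgroupOf D).prod (((Z.map (MulAut.conj y).toMonoidHom).subgroupOf D').prod
      (((Z.map (MulAut.conj y).toMonoidHom).map (MulAut.conj r).toMonoidHom).subgroupOf D''))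
  set Z₀ := P₀.map φ with hZ₀
  have hcentre : ∀ q ∈ P₀, ∀ q' : (D × D' × D'' : Type _), Commute (φ q') (φ q) := by
    rintro ⟨a, b, c⟩ ⟨ha, hb, hc⟩ ⟨a', b', c'⟩
    refine Commute.map ?_ φ
    refine Prod.ext (Subtype.ext ?_) (Prod.ext (Subtype.ext ?_) (Subtype.ext ?_))
    · exact (zsub_comm (mem_subgroupOf.1 ha) a'.2).symm.eq
    · obtain ⟨w, hw, hwe⟩ := mem_subgroupOf.1 hb
      obtain ⟨w', hw', hwe'⟩ := b'.2
      show (b' : G) * b = b * b'
      rw [← hwe, ← hwe']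
      exact (conj_commute (c := y) (zsub_comm hw hw').symm).eq
    · obtain ⟨_, ⟨w, hw, rfl⟩, hwe⟩ := mem_subgroupOf.1 hc
      obtain ⟨_, ⟨w', hw', rfl⟩, hwe'⟩ := c'.2
      show (c' : G) * c = c * c'
      rw [← hwe, ← hwe']
      exact (conj_commute (c := r) (conj_commute (c := y) (zsub_comm hw hw').symm)).eq
  have hW : φ.range ≤ (T : Subgroup G) := by
    rintro _ ⟨q, rfl⟩
    exact mul_mem (mul_mem (hD.le q.1.2) (mem_inf.1 (hD'S q.2.1.2)).1) (mem_inf.1 (hD''S q.2.2.2)).1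
  have hsec := hy.section_le (Z := Z₀) (map_le_range φ P₀) hW (by
      rintro _ ⟨q', rfl⟩ _ ⟨q, hq, rfl⟩
      rw [conj_eq_of_commute (hcentre q hq q')]
      exact ⟨q, hq, rfl⟩) (by
      rintro _ ⟨⟨a, b, c⟩, rfl⟩
      refine ⟨(a, b, c) * (a, b, c), ⟨?_, ?_, ?_⟩, map_mul φ _ _⟩
      · exact mem_subgroupOf.2 (hsq a a.2)
      · obtain ⟨w, hw, hwe⟩ := b.2
        refine mem_subgroupOf.2 ⟨w * w, hsq w hw, ?_⟩
        show y * (w * w) * y⁻¹ = (b : G) * b
        rw [← hwe]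
        exact sq_conj.symm
      · obtain ⟨_, ⟨w, hw, rfl⟩, hwe⟩ := c.2
        refine mem_subgroupOf.2 ⟨y * (w * w) * y⁻¹, ⟨w * w, hsq w hw, rfl⟩, ?_⟩
        show r * (y * (w * w) * y⁻¹) * r⁻¹ = (c : G) * c
        rw [← hwe, ← sq_conj (g := y)]
        exact sq_conj.symm)
  have hidx : (Z₀.comap φ).index ≤ 16 := by rw [index_comap]; exact hsec
  have hsub : Z₀.comap φ ≤ P₀ := by
    rintro ⟨a, b, c⟩ ⟨⟨a', b', c'⟩, hq, he⟩
    -- a product lying among the centres has central factors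
    have hker : ((a, b, c) : (D × D' × D'' : Type _)) * ((a', b', c') : (D × D' × D'' : Type _))⁻¹ ∈ φ.ker := by
      rw [MonoidHom.mem_ker, map_mul, map_inv, he, mul_inv_cancel]
    have key : ∀ q ∈ φ.ker, q ∈ P₀ := by
      rintro ⟨k₁, k₂, k₃⟩ hk
      have hk' : (k₁ : G) * k₂ * k₃ = 1 := hk
      refine ⟨mem_subgroupOf.2 (mem_inf.2 ⟨k₁.2, fun d hd => ?_⟩), ?_, ?_⟩
      · have e : (k₁ : G) = (k₃ : G)⁻¹ * (k₂ : G)⁻¹ := by
          calc (k₁ : G) = (k₁ : G) * k₂ * k₃ * ((k₃ : G)⁻¹ * (k₂ : G)⁻¹) := by group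
            _ = _ := by rw [hk', one_mul]
        rw [e]
        exact (((hcommDD'' d hd k₃ k₃.2).inv_right).mul_right (hcommDD' d hd k₂ k₂.2).inv_right).eq
      · obtain ⟨w, hw, hwe⟩ := k₂.2
        refine mem_subgroupOf.2 ⟨w, mem_inf.2 ⟨hw, fun d hd => ?_⟩, hwe⟩
        have hd' : y * d * y⁻¹ ∈ D' := ⟨d, hd, rfl⟩
        have e : (k₂ : G) = (k₁ : G)⁻¹ * (k₃ : G)⁻¹ := by
          calc (k₂ : G) = (k₁ : G)⁻¹ * ((k₁ : G) * k₂ * k₃) * (k₃ : G)⁻¹ := by group
            _ = _ := by rw [hk', mul_one]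
        have hc : Commute (y * d * y⁻¹) (y * w * y⁻¹) := by
          rw [show y * w * y⁻¹ = (k₂ : G) from hwe, e]
          exact (hcommDD' _ k₁.2 _ hd').symm.inv_right.mul_right (hcommD'D'' _ hd' _ k₃.2).inv_right
        have h5 := conj_commute (c := y⁻¹) hc
        rw [show y⁻¹ * (y * d * y⁻¹) * y⁻¹⁻¹ = d by group, show y⁻¹ * (y * w * y⁻¹) * y⁻¹⁻¹ = w by group] at h5
        exact h5.eq
      · obtain ⟨w', ⟨w, hw, rfl⟩, hwe⟩ := k₃.2
        refine mem_subgroupOf.2 ⟨y * w * y⁻¹, ⟨w, mem_inf.2 ⟨hw, fun d hd => ?_⟩, rfl⟩, hwe⟩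
        have hd' : r * (y * d * y⁻¹) * r⁻¹ ∈ D'' := ⟨_, ⟨d, hd, rfl⟩, rfl⟩
        have e : (k₃ : G) = (k₂ : G)⁻¹ * (k₁ : G)⁻¹ := by
          calc (k₃ : G) = (k₂ : G)⁻¹ * (k₁ : G)⁻¹ * ((k₁ : G) * k₂ * k₃) := by group
            _ = _ := by rw [hk', mul_one]
        have hc : Commute (r * (y * d * y⁻¹) * r⁻¹) (r * (y * w * y⁻¹) * r⁻¹) := by
          rw [show r * (y * w * y⁻¹) * r⁻¹ = (k₃ : G) from hwe, e]
          exact ((hcommD'D'' _ k₂.2 _ hd').symm.inv_right).mul_right (hcommDD'' _ k₁.2 _ hd').symm.inv_right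
        have h5 := conj_commute (c := (r * y)⁻¹) hc
        rw [show (r * y)⁻¹ * (r * (y * d * y⁻¹) * r⁻¹) * (r * y)⁻¹⁻¹ = d by group,
          show (r * y)⁻¹ * (r * (y * w * y⁻¹) * r⁻¹) * (r * y)⁻¹⁻¹ = w by group] at h5
        exact h5.eq
    have := mul_mem (key _ hker) hq
    rwa [inv_mul_cancel_right] at this
  have hP : Nat.card P₀ ≤ 8 := by
    have h1 : Nat.card P₀ = Nat.card (Z.subgroupOf D) * (Nat.card ((Z.map (MulAut.conj y).toMonoidHom).subgroupOf D') *
        Nat.card (((Z.map (MulAut.conj y).toMonoidHom).map (MulAut.conj r).toMonoidHom).subgroupOf D'')) := by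
      rw [Nat.card_congr (prodEquiv _ _).toEquiv, Nat.card_prod, Nat.card_congr (prodEquiv _ _).toEquiv, Nat.card_prod]
    rw [h1, Nat.card_congr (subgroupOfEquivOfLe hZD).toEquiv,
      Nat.card_congr (subgroupOfEquivOfLe (map_mono hZD)).toEquiv,
      Nat.card_congr (subgroupOfEquivOfLe (map_mono (map_mono hZD))).toEquiv,
      card_map_of_injective (f := (MulAut.conj r).toMonoidHom) (MulAut.conj r).injective,
      card_map_of_injective (f := (MulAut.conj y).toMonoidHom) (MulAut.conj y).injective, h2]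
  have hDcard : 8 ≤ Nat.card D := by
    obtain ⟨k, hk⟩ := IsPGroup.iff_card.1 (hy.two.to_le hD.le)
    by_contra hlt
    have hk3 : k ≤ 2 := by
      by_contra h3
      have := Nat.pow_le_pow_right (show 0 < 2 by norm_num) (show 3 ≤ k by omega)
      omega
    apply hde
    have hc : IsMulCommutative D := by
      haveI : Fact (Nat.Prime 2) := ⟨Nat.prime_two⟩
      interval_cases k
      · haveI : Subsingleton D := (Nat.card_eq_one_iff_unique.1 (by simpa using hk)).1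
        exact ⟨⟨fun a b => Subsingleton.elim _ _⟩⟩
      · haveI := isCyclic_of_prime_card (α := D) (p := 2) (by simpa using hk)
        exact IsCyclic.isMulCommutative
      · exact IsPGroup.isMulCommutative_of_card_eq_prime_sq (p := 2) hk
    have e := congrArg Subtype.val (hc.is_comm.comm (⟨d₀, hd₀⟩ : D) ⟨e₀, he₀⟩)
    rw [show d₀ * e₀ = e₀ * d₀ from e]
    group
  have h1 := (Z₀.comap φ).card_mul_index
  have e1 : Nat.card D' = Nat.card D := card_map_of_injective (MulAut.conj y).injective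
  have e2 : Nat.card D'' = Nat.card D' := card_map_of_injective (MulAut.conj r).injective
  rw [Nat.card_prod, Nat.card_prod, e2, e1] at h1
  have h3 : Nat.card (Z₀.comap φ) * (Z₀.comap φ).index ≤ 8 * 16 :=
    Nat.mul_le_mul ((card_le_of_le hsub).trans hP) hidx
  have h4 : 8 * (8 * 8) ≤ Nat.card D * (Nat.card D * Nat.card D) :=
    Nat.mul_le_mul hDcard (Nat.mul_le_mul hDcard hDcard)
  rw [h1] at h3
  omega

end Cfsg.Agent.NormalRankTwo
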