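import Mathlib
import Cfsg.Agent.Lib.NormalRankTwo.SpecialBound

/-!
# A central four-group moved in a three-cycle: the homocyclic self-centralising subgroup
-/

set_option autoImplicit false
set_option linter.style.haveILetI false
set_option linter.unusedSectionVars false

namespace Cfsg.Agent.NormalRankTwo

open Subgroup

variable {G : Type*} [Group G]

/-- A central four-group of `T` moved by `h`. -/
structure Plane (T : Subgroup G) (h : G) (U : Subgroup G) : Prop where
  hy : Hyp T 3 h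
  inv : Inv T h U
  card : Nat.card U = 4
  sq : ∀ u ∈ U, u * u = 1
  cent : ∀ g ∈ T, ∀ u ∈ U, Commute g u
  move : ∀ u ∈ U, Commute h u → u = 1

/-- The homocyclic subgroup above a plane. -/
structure Homo (T : Subgroup G) (h : G) (U B : Subgroup G) (n : ℕ) : Prop where
  plane : Plane T h U
  inv : Inv T h B
  le : U ≤ B
  comm : ∀ a ∈ B, ∀ b ∈ B, Commute a b
  self : ∀ g ∈ T, (∀ b ∈ B, Commute g b) → g ∈ B
  omega : ∀ a ∈ B, a * a = 1 → a ∈ U
  fixone : ∀ a ∈ B, Commute h a → a = 1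
  pos : 1 ≤ n
  exp : ∀ a ∈ B, a ^ 2 ^ n = 1
  card : Nat.card B = 4 ^ n
  roots : ∀ j ≤ n, ∀ a ∈ B, a ^ 2 ^ j = 1 → ∃ c ∈ B, c ^ 2 ^ (n - j) = a
  iso : Nonempty (B ≃* Multiplicative (ZMod (2 ^ n) × ZMod (2 ^ n)))

variable [Finite G] {T U : Subgroup G} {h : G}

theorem commute_of_sq_commute {a : G} (ho : Odd (orderOf h)) (hc : Commute (h * h) a) : Commute h a := by
  obtain ⟨m, hm⟩ := ho
  have e : h = (h * h) ^ (m + 1) := by
    rw [← pow_two, ← pow_mul, show 2 * (m + 1) = orderOf h + 1 by omega, pow_succ, pow_orderOf_eq_one, one_mul]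
  rw [e]
  exact hc.pow_left _

/-- `U` consists of `1`, `u`, its image and their product. -/
theorem Plane.cases (hp : Plane T h U) {u : G} (hu : u ∈ U) (hu1 : u ≠ 1) :
    ∀ w ∈ U, w = 1 ∨ w = u ∨ w = h * u * h⁻¹ ∨ w = u * (h * u * h⁻¹) := by
  set v := h * u * h⁻¹ with hv
  have hvU : v ∈ U := hp.inv.hinv u hu
  have hv1 : v ≠ 1 := fun e => hu1 (conj_eq_one_iff.1 e)
  have hvu : v ≠ u := fun e => hu1 (hp.move u hu (commute_of_conj_eq e))
  have hsub : ({1, u, v, u * v} : Set G) ⊆ (U : Set G) := by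
    rintro b (rfl | rfl | rfl | rfl)
    exacts [one_mem _, hu, hvU, mul_mem hu hvU]
  have h4 : ({1, u, v, u * v} : Set G).ncard = 4 := by
    rw [Set.ncard_insert_of_notMem, Set.ncard_insert_of_notMem, Set.ncard_pair]
    · intro e; exact hu1 (mul_eq_right.1 e.symm)
    · simp only [Set.mem_insert_iff, Set.mem_singleton_iff, not_or]
      exact ⟨hvu.symm, fun e => hv1 (mul_left_cancel (e.symm.trans (mul_one u).symm))⟩
    · simp only [Set.mem_insert_iff, Set.mem_singleton_iff, not_or]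
      refine ⟨hu1.symm, hv1.symm, fun e => hvu ?_⟩
      rw [eq_inv_of_mul_eq_one_right e.symm, inv_eq_of_mul_eq_one_right (hp.sq u hu)]
  have hall : (U : Set G) = {1, u, v, u * v} := (Set.eq_of_subset_of_ncard_le hsub (by
    rw [h4, ← Nat.card_coe_set_eq, SetLike.coe_sort_coe, hp.card]) (Set.toFinite _)).symm
  intro w hw
  have hw' : w ∈ (U : Set G) := hw
  rw [hall] at hw'
  exact hw'

theorem Plane.rot (hp : Plane T h U) {u : G} (hu : u ∈ U) :
    h * (h * u * h⁻¹) * h⁻¹ = u * (h * u * h⁻¹) := by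
  by_cases hu1 : u = 1
  · subst hu1; group
  have hv := hp.inv.hinv u hu
  rcases hp.cases hu hu1 _ (hp.inv.hinv _ hv) with e | e | e | e
  · exact absurd (conj_eq_one_iff.1 (conj_eq_one_iff.1 e)) hu1
  · refine absurd (hp.move u hu (commute_of_sq_commute hp.hy.odd_order (commute_of_conj_eq ?_))) hu1
    calc h * h * u * (h * h)⁻¹ = h * (h * u * h⁻¹) * h⁻¹ := by group
      _ = u := e
  · exact absurd (hp.move u hu (commute_of_conj_eq ((MulAut.conj h).injective e))) hu1
  · exact e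

theorem Plane.cube (hp : Plane T h U) {u : G} (hu : u ∈ U) : h ^ 3 * u * (h ^ 3)⁻¹ = u := by
  set v := h * u * h⁻¹ with hv
  have hvU : v ∈ U := hp.inv.hinv u hu
  calc h ^ 3 * u * (h ^ 3)⁻¹ = h * (h * (h * u * h⁻¹) * h⁻¹) * h⁻¹ := by
        rw [show h ^ 3 = h * h * h by rw [pow_succ, pow_two]]; group
    _ = h * (u * v) * h⁻¹ := by rw [hp.rot hu]
    _ = (h * u * h⁻¹) * (h * v * h⁻¹) := by group
    _ = v * (u * v) := by rw [hv, hp.rot hu]
    _ = u := by rw [(hp.cent u (hp.inv.le hu) v hvU).eq, ← mul_assoc, hp.sq v hvU, one_mul]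

/-- A moved involution of an invariant abelian subgroup gives a plane. -/
theorem exists_plane (hT : IsPGroup 2 T)
    (hrank : ∀ A : Subgroup G, A ≤ T → (∀ g ∈ T, ∀ a ∈ A, g * a * g⁻¹ ∈ A) →
      (∀ a ∈ A, ∀ b ∈ A, Commute a b) → (∀ a ∈ A, a * a = 1) → Nat.card A ≤ 4)
    (hsec : Cfsg.SectionalPRankLE 2 4 T) {h' : G} (hodd : Odd (orderOf h'))
    (hnorm : ∀ g ∈ T, h' * g * h'⁻¹ ∈ T) {A : Subgroup G} (hA : Inv T h' A)
    (hAc : ∀ a ∈ A, ∀ b ∈ A, Commute a b) {a : G} (ha : a ∈ A) (ha2 : a * a = 1) (hmove : ¬ Commute h' a) :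
    ∃ (h : G) (U : Subgroup G), Plane T h U := by
  haveI : Fact (Nat.Prime 2) := ⟨Nat.prime_two⟩
  let U : Subgroup G :=
    { carrier := {x | x ∈ A ∧ x * x = 1}
      one_mem' := ⟨one_mem _, mul_one 1⟩
      mul_mem' := fun {x y} hx hy => ⟨mul_mem hx.1 hy.1, by
        rw [(hAc y hy.1 x hx.1).mul_mul_mul_comm x y, hx.2, hy.2, one_mul]⟩
      inv_mem' := fun {x} hx => ⟨inv_mem hx.1, by rw [← mul_inv_rev, hx.2, inv_one]⟩ }
  have hUn : ∀ g ∈ T, ∀ x ∈ U, g * x * g⁻¹ ∈ U := fun g hg x hx =>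
    ⟨hA.nrm g hg x hx.1, by rw [sq_conj, hx.2]; group⟩
  have hUT : U ≤ T := fun x hx => hA.le hx.1
  have hUh : ∀ x ∈ U, h' * x * h'⁻¹ ∈ U := fun x hx => ⟨hA.hinv x hx.1, by rw [sq_conj, hx.2]; group⟩
  have haU : a ∈ U := ⟨ha, ha2⟩
  have ha1 : a ≠ 1 := fun e => hmove (e ▸ Commute.one_right h')
  have hb : h' * a * h'⁻¹ ≠ a := fun e => hmove (commute_of_conj_eq e)
  have hb1 : h' * a * h'⁻¹ ≠ 1 := fun e => ha1 (conj_eq_one_iff.1 e)
  have h4 : Nat.card U = 4 := by
    have hle := hrank U hUT hUn (fun x hx y hy => hAc x hx.1 y hy.1) fun x hx => hx.2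
    have h3 := Set.ncard_le_ncard (show ({1, a, h' * a * h'⁻¹} : Set G) ⊆ (U : Set G) by
      rintro b (rfl | rfl | rfl)
      exacts [one_mem _, haU, hUh a haU]) (Set.toFinite _)
    rw [Set.ncard_insert_of_notMem (by simp [ha1.symm, hb1.symm]), Set.ncard_pair hb.symm,
      ← Nat.card_coe_set_eq, SetLike.coe_sort_coe] at h3
    obtain ⟨k, hk⟩ := IsPGroup.iff_card.1 (hT.to_le hUT)
    have hk2 : k ≤ 2 := by
      by_contra hlt
      have := Nat.pow_le_pow_right (show 0 < 2 by norm_num) (show 3 ≤ k by omega)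
      omega
    interval_cases k <;> omega
  -- a three-part of `h'`
  obtain ⟨v, m, hm3, hvm⟩ := Nat.exists_eq_pow_mul_and_not_dvd (orderOf_pos h').ne' 3 (by norm_num)
  set h := h' ^ m with hh
  have hho : orderOf h = 3 ^ v := by
    rw [hh, orderOf_pow' _ (fun e => hm3 (by rw [e]; exact dvd_zero 3)), Nat.gcd_eq_right ⟨3 ^ v, by rw [hvm, mul_comm]⟩, hvm,
      Nat.mul_div_cancel _ (Nat.pos_of_ne_zero fun e => hm3 (by rw [e]; exact dvd_zero 3))]
  have hnorm' : ∀ g ∈ T, h * g * h⁻¹ ∈ T := fun g hg => pow_conj_mem hnorm m hg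
  have hy : Hyp T 3 h := ⟨hT, hrank, hsec, Nat.prime_three, by norm_num, ⟨v, hho⟩, hnorm'⟩
  have hinv : Inv T h U := ⟨hUT, hUn, fun x hx => pow_conj_mem hUh m hx⟩
  -- the centre meets `U`
  obtain ⟨z, hzU, hz1, -, hzc⟩ := exists_central_mod hT bot_le hUT
    (fun g _ x hx => by rw [mem_bot.1 hx]; simp) hUn (fun e => by rw [← e, card_bot] at h4; omega)
  have hzfix : ∀ g ∈ T, g * z * g⁻¹ = z := fun g hg => mul_inv_eq_one.1 (mem_bot.1 (hzc g hg))
  have hz1' : z ≠ 1 := fun e => hz1 (mem_bot.2 e)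
  have hsq' : ∀ x ∈ U, x * x = 1 := fun x hx => hx.2
  -- four-element description on any non-trivial `x` with a different image
  have hdesc : ∀ x ∈ U, x ≠ 1 → ∀ y ∈ U, y ≠ 1 → y ≠ x → ∀ w ∈ U, w = 1 ∨ w = x ∨ w = y ∨ w = x * y := by
    intro x hx hx1 y hy' hy1 hyx w hw
    have hsub : ({1, x, y, x * y} : Set G) ⊆ (U : Set G) := by
      rintro b (rfl | rfl | rfl | rfl)
      exacts [one_mem _, hx, hy', mul_mem hx hy']
    have h4' : ({1, x, y, x * y} : Set G).ncard = 4 := by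
      rw [Set.ncard_insert_of_notMem, Set.ncard_insert_of_notMem, Set.ncard_pair]
      · intro e; exact hx1 (mul_eq_right.1 e.symm)
      · simp only [Set.mem_insert_iff, Set.mem_singleton_iff, not_or]
        exact ⟨hyx.symm, fun e => hy1 (mul_left_cancel (e.symm.trans (mul_one x).symm))⟩
      · simp only [Set.mem_insert_iff, Set.mem_singleton_iff, not_or]
        refine ⟨hx1.symm, hy1.symm, fun e => hyx ?_⟩
        rw [eq_inv_of_mul_eq_one_right e.symm, inv_eq_of_mul_eq_one_right (hsq' x hx)]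
    have hall : (U : Set G) = {1, x, y, x * y} := (Set.eq_of_subset_of_ncard_le hsub (by
      rw [h4', ← Nat.card_coe_set_eq, SetLike.coe_sort_coe, h4]) (Set.toFinite _)).symm
    have hw' : w ∈ (U : Set G) := hw
    rw [hall] at hw'
    exact hw'
  have hcent : ∀ g ∈ T, ∀ u ∈ U, Commute g u := by
    intro g hg u hu
    by_cases hzh : h' * z * h'⁻¹ = z
    · -- then `h'` fixes all of `U`
      exfalso
      apply hmove
      have hcz := commute_of_conj_eq hzh
      by_cases haz : a = z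
      · rw [haz]; exact hcz
      have hdz := hdesc z hzU hz1' a haU ha1 haz
      rcases hdz _ (hUh a haU) with e | e | e | e
      · exact absurd e hb1
      · refine absurd ((MulAut.conj h').injective (show h' * a * h'⁻¹ = h' * z * h'⁻¹ by rw [e, hzh])) haz
      · exact absurd e hb
      · refine commute_of_sq_commute hodd (commute_of_conj_eq ?_)
        calc h' * h' * a * (h' * h')⁻¹ = h' * (h' * a * h'⁻¹) * h'⁻¹ := by group
          _ = h' * (z * a) * h'⁻¹ := by rw [e]
          _ = h' * z * h'⁻¹ * (h' * a * h'⁻¹) := by group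
          _ = a := by rw [hzh, e, ← mul_assoc, hsq' z hzU, one_mul]
    · have hz'fix : g * (h' * z * h'⁻¹) * g⁻¹ = h' * z * h'⁻¹ := by
        have hg' : h'⁻¹ * g * h' ∈ T := hinv_symm hnorm hg
        calc g * (h' * z * h'⁻¹) * g⁻¹ = h' * ((h'⁻¹ * g * h') * z * (h'⁻¹ * g * h')⁻¹) * h'⁻¹ := by group
          _ = _ := by rw [hzfix _ hg']
      rcases hdesc z hzU hz1' _ (hUh z hzU) (fun e => hz1' (conj_eq_one_iff.1 e)) hzh u hu with rfl | rfl | rfl | rfl
      · exact Commute.one_right g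
      · exact commute_of_conj_eq (hzfix g hg)
      · exact commute_of_conj_eq hz'fix
      · exact (commute_of_conj_eq (hzfix g hg)).mul_right (commute_of_conj_eq hz'fix)
  refine ⟨h, U, hy, hinv, h4, hsq', hcent, fun u hu hcu => ?_⟩
  by_contra hu1
  -- `h' ^ 3` fixes `u`, so `h'` would
  set w := h' * u * h'⁻¹ with hw
  have hwU : w ∈ U := hUh u hu
  have hw1 : w ≠ 1 := fun e => hu1 (conj_eq_one_iff.1 e)
  have hh'u : Commute h' u → False := by
    intro hc
    by_cases hau : a = u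
    · exact hmove (hau ▸ hc)
    rcases hdesc u hu hu1 a haU ha1 hau _ (hUh a haU) with e | e | e | e
    · exact hb1 e
    · exact hau ((MulAut.conj h').injective (show h' * a * h'⁻¹ = h' * u * h'⁻¹ by
        rw [e, conj_eq_of_commute hc]))
    · exact hb e
    · refine hmove (commute_of_sq_commute hodd (commute_of_conj_eq ?_))
      calc h' * h' * a * (h' * h')⁻¹ = h' * (h' * a * h'⁻¹) * h'⁻¹ := by group
        _ = h' * (u * a) * h'⁻¹ := by rw [e]
        _ = h' * u * h'⁻¹ * (h' * a * h'⁻¹) := by group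
        _ = a := by rw [conj_eq_of_commute hc, e, ← mul_assoc, hsq' u hu, one_mul]
  by_cases hwu : w = u
  · exact hh'u (commute_of_conj_eq hwu)
  have h2 : h' * w * h'⁻¹ = u * w := by
    rcases hdesc u hu hu1 w hwU hw1 hwu _ (hUh w hwU) with e | e | e | e
    · exact absurd (conj_eq_one_iff.1 e) hw1
    · exfalso
      refine hh'u (commute_of_sq_commute hodd (commute_of_conj_eq ?_))
      calc h' * h' * u * (h' * h')⁻¹ = h' * w * h'⁻¹ := by rw [hw]; group
        _ = u := e
    · exact absurd ((MulAut.conj h').injective (show h' * w * h'⁻¹ = h' * u * h'⁻¹ by rw [e])) hwu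
    · exact e
  have h3 : h' ^ 3 * u * (h' ^ 3)⁻¹ = u := by
    calc h' ^ 3 * u * (h' ^ 3)⁻¹ = h' * (h' * w * h'⁻¹) * h'⁻¹ := by
          rw [hw, show h' ^ 3 = h' * h' * h' by rw [pow_succ, pow_two]]; group
      _ = h' * (u * w) * h'⁻¹ := by rw [h2]
      _ = (h' * u * h'⁻¹) * (h' * w * h'⁻¹) := by group
      _ = u := by rw [← hw, h2, (hAc u hu.1 w hwU.1).eq, ← mul_assoc, hsq' w hwU, one_mul]
  have hfm : Commute (h' ^ m) u := hcu
  have hf3 : Commute (h' ^ 3) u := commute_of_conj_eq h3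
  obtain ⟨r, s, hrs⟩ := exists_mul_add_mul_eq_one_of_coprime m
    ((Nat.prime_three.coprime_iff_not_dvd).2 hm3).symm
  apply hh'u
  have e : h' = (h' ^ m) ^ r * (h' ^ 3) ^ s := by
    rw [← zpow_natCast h' m, ← zpow_natCast h' 3, ← zpow_mul, ← zpow_mul, ← zpow_add, hrs, zpow_one]
  rw [e]
  exact (hfm.zpow_left r).mul_left (hf3.zpow_left s)
where
  exists_mul_add_mul_eq_one_of_coprime (m : ℕ) (hm : m.Coprime 3) :
      ∃ r s : ℤ, (m : ℤ) * r + ((3 : ℕ) : ℤ) * s = 1 :=
    ⟨Nat.gcdA m 3, Nat.gcdB m 3, by rw [← Nat.gcd_eq_gcd_ab, hm]; rfl⟩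

/-- The maximal invariant abelian subgroup above a plane is self-centralising and homocyclic. -/
theorem Plane.exists_homo (hp : Plane T h U) : ∃ (B : Subgroup G) (n : ℕ), Homo T h U B n := by
  classical
  haveI : Fact (Nat.Prime 2) := ⟨Nat.prime_two⟩
  have hy := hp.hy
  obtain ⟨B, hUB, ⟨hB, hBc⟩, hmax⟩ := Finite.exists_le_maximal
    (p := fun A : Subgroup G => Inv T h A ∧ ∀ a ∈ A, ∀ b ∈ A, Commute a b) (a := U)
    ⟨hp.inv, fun a ha b hb => hp.cent a (hp.inv.le ha) b hb⟩
  have homega : ∀ a ∈ B, a * a = 1 → a ∈ U := by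
    let O : Subgroup G :=
      { carrier := {x | x ∈ B ∧ x * x = 1}
        one_mem' := ⟨one_mem _, mul_one 1⟩
        mul_mem' := fun {x y} hx hy' => ⟨mul_mem hx.1 hy'.1, by
          rw [(hBc y hy'.1 x hx.1).mul_mul_mul_comm x y, hx.2, hy'.2, one_mul]⟩
        inv_mem' := fun {x} hx => ⟨inv_mem hx.1, by rw [← mul_inv_rev, hx.2, inv_one]⟩ }
    have hUO : U ≤ O := fun u hu => ⟨hUB hu, hp.sq u hu⟩
    have hO : U = O := eq_of_le_of_card_ge hUO (by
      rw [hp.card]
      exact hy.rank O (fun x hx => hB.le hx.1) (fun g hg x hx => ⟨hB.nrm g hg x hx.1, by rw [sq_conj, hx.2]; group⟩)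
        (fun x hx y hy' => hBc x hx.1 y hy'.1) fun x hx => hx.2)
    intro a ha ha2
    rw [hO]
    exact ⟨ha, ha2⟩
  have hfix : ∀ a ∈ B, Commute h a → a = 1 := by
    intro a ha hc
    by_contra ha1
    obtain ⟨k, hk⟩ := FixityFour.exists_pow_orderOf (hy.two.to_le hB.le) ha ha1
    have h2 : a ^ k * a ^ k = 1 := by
      rw [← pow_two]; conv_lhs => rw [← hk]
      exact pow_orderOf_eq_one _
    have := hp.move _ (homega _ (pow_mem ha k) h2) (hc.pow_right k)
    rw [this, orderOf_one] at hk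
    omega
  -- `h ^ 3` centralises `B`
  have hy3 : Hyp T 3 (h ^ 3) := by
    obtain ⟨k, hk⟩ := hy.pow
    obtain ⟨j, -, hj⟩ := (Nat.dvd_prime_pow Nat.prime_three).1 (hk ▸ orderOf_pow_dvd 3 : orderOf (h ^ 3) ∣ 3 ^ k)
    exact ⟨hy.two, hy.rank, hy.sec, hy.prime, hy.odd, ⟨j, hj⟩, fun g hg => pow_conj_mem hy.norm 3 hg⟩
  have hcube : ∀ b ∈ B, Commute (h ^ 3) b := hy3.fix_abelian hB.le (fun a ha => pow_conj_mem hB.hinv 3 ha) hBc
    fun a ha ha2 => commute_of_conj_eq (hp.cube (homega a ha ha2))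
  have hrot : ∀ b ∈ B, b * (h * b * h⁻¹) * (h * (h * b * h⁻¹) * h⁻¹) = 1 := by
    intro b hb
    set c := h * b * h⁻¹ with hc
    set d := h * c * h⁻¹ with hd
    have hcB : c ∈ B := hB.hinv b hb
    have hdB : d ∈ B := hB.hinv c hcB
    refine hfix _ (mul_mem (mul_mem hb hcB) hdB) (commute_of_conj_eq ?_)
    calc h * (b * c * d) * h⁻¹ = c * d * (h ^ 3 * b * (h ^ 3)⁻¹) := by
          rw [hd, hc, show h ^ 3 = h * h * h by rw [pow_succ, pow_two]]; group
      _ = _ := by rw [conj_eq_of_commute (hcube b hb), (hBc _ (mul_mem hcB hdB) b hb).eq, ← mul_assoc]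
  -- the centraliser of `B`
  have hself : ∀ g ∈ T, (∀ b ∈ B, Commute g b) → g ∈ B := by
    set C := T ⊓ centralizer (B : Set G) with hC
    have hBC : B ≤ C := fun b hb => mem_inf.2 ⟨hB.le hb, fun a ha => (hBc a ha b hb).eq⟩
    suffices hCB : C ≤ B from fun g hg hgB => hCB (mem_inf.2 ⟨hg, fun b hb => (hgB b hb).symm.eq⟩)
    by_contra hne
    have hCn : ∀ g ∈ T, ∀ x ∈ C, g * x * g⁻¹ ∈ C := fun g hg x hx => by
      refine mem_inf.2 ⟨mul_mem (mul_mem hg (mem_inf.1 hx).1) (inv_mem hg), fun b hb => ?_⟩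
      have h1 : Commute (g⁻¹ * b * g⁻¹⁻¹) x := (mem_inf.1 hx).2 _ (hB.nrm g⁻¹ (inv_mem hg) b hb)
      have h2 := conj_commute (c := g) h1
      rw [show g * (g⁻¹ * b * g⁻¹⁻¹) * g⁻¹ = b by group] at h2
      exact h2.eq
    have hcB : ∀ x ∈ C, ∀ b ∈ B, x * b * x⁻¹ = b := fun x hx b hb =>
      conj_eq_of_commute (show Commute b x from (mem_inf.1 hx).2 b hb).symm
    let X : Subgroup G :=
      { carrier := {x | x ∈ C ∧ x * x ∈ B ∧ ∀ g ∈ T, g * x * g⁻¹ * x⁻¹ ∈ B}
        one_mem' := ⟨one_mem _, by rw [mul_one]; exact one_mem _, fun g _ => by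
          rw [show g * 1 * g⁻¹ * (1 : G)⁻¹ = 1 by group]; exact one_mem _⟩
        mul_mem' := by
          rintro a b ⟨ha, ha2, hac⟩ ⟨hb, hb2, hbc⟩
          refine ⟨mul_mem ha hb, ?_, fun g hg => ?_⟩
          · have hc := hac b (mem_inf.1 hb).1
            rw [show a * b * (a * b) = a * (b * a * b⁻¹ * a⁻¹) * a⁻¹ * (a * a) * (b * b) by group, hcB a ha _ hc]
            exact mul_mem (mul_mem hc ha2) hb2
          · rw [show g * (a * b) * g⁻¹ * (a * b)⁻¹ = g * a * g⁻¹ * a⁻¹ * (a * (g * b * g⁻¹ * b⁻¹) * a⁻¹) by group,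
              hcB a ha _ (hbc g hg)]
            exact mul_mem (hac g hg) (hbc g hg)
        inv_mem' := by
          rintro a ⟨ha, ha2, hac⟩
          refine ⟨inv_mem ha, ?_, fun g hg => ?_⟩
          · rw [show a⁻¹ * a⁻¹ = (a * a)⁻¹ by group]; exact inv_mem ha2
          · rw [show g * a⁻¹ * g⁻¹ * a⁻¹⁻¹ = a⁻¹ * (g * a * g⁻¹ * a⁻¹)⁻¹ * a⁻¹⁻¹ by group,
              hcB _ (inv_mem ha) _ (inv_mem (hac g hg))]
            exact inv_mem (hac g hg) }
    have hBX : B ≤ X := fun b hb => ⟨hBC hb, mul_mem hb hb, fun g hg => mul_mem (hB.nrm g hg b hb) (inv_mem hb)⟩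
    have hXT : X ≤ T := fun x hx => (mem_inf.1 hx.1).1
    have hXh : ∀ x ∈ X, h * x * h⁻¹ ∈ X := by
      rintro x ⟨hx, hx2, hxc⟩
      refine ⟨mem_inf.2 ⟨hy.norm x (mem_inf.1 hx).1, fun b hb => ?_⟩, by rw [sq_conj]; exact hB.hinv _ hx2,
        fun g hg => ?_⟩
      · have h1 : Commute (h⁻¹ * b * h) x := (mem_inf.1 hx).2 _ (hinv_symm hB.hinv hb)
        have h2 := conj_commute (c := h) h1
        rw [show h * (h⁻¹ * b * h) * h⁻¹ = b by group] at h2
        exact h2.eq
      · rw [show g * (h * x * h⁻¹) * g⁻¹ * (h * x * h⁻¹)⁻¹ = h * ((h⁻¹ * g * h) * x * (h⁻¹ * g * h)⁻¹ * x⁻¹) * h⁻¹ by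
          group]
        exact hB.hinv _ (hxc _ (hinv_symm hy.norm hg))
    obtain ⟨x₀, hx₀, hx₀B, hx₀2, hx₀c⟩ := exists_central_mod hy.two hBC inf_le_left hB.nrm hCn (fun e => hne e.ge)
    have hx₀X : x₀ ∈ X := ⟨hx₀, hx₀2, hx₀c⟩
    have hXc : ∀ a ∈ X, ∀ b ∈ X, a * b * a⁻¹ * b⁻¹ ∈ B := fun a ha b hb => hb.2.2 a (hXT ha)
    -- nothing outside `B` is fixed modulo `B`
    have hfpf : ∀ x ∈ X, h * x * h⁻¹ * x⁻¹ ∈ B → x ∈ B := by
      intro x hx hxB
      by_contra hxn
      obtain ⟨E, hBE, hEX, hxE, -, hEm⟩ := exists_ext hBX hXc hx hx.2.1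
      have hEinv : Inv T h E := by
        refine ⟨hEX.trans hXT, fun g hg e he => ?_, fun e he => ?_⟩
        · rw [← inv_mul_cancel_right (g * e * g⁻¹) e]
          exact mul_mem (hBE ((hEX he).2.2 g hg)) he
        · rcases hEm e he with h1 | h1
          · exact hBE (hB.hinv e h1)
          · rw [show h * e * h⁻¹ = h * (e * x) * h⁻¹ * (h * x * h⁻¹ * x⁻¹ * x)⁻¹ by group]
            exact mul_mem (hBE (hB.hinv _ h1)) (inv_mem (mul_mem (hBE hxB) hxE))
      have hEc : ∀ a ∈ E, ∀ b ∈ E, Commute a b := by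
        have hxc : ∀ e ∈ E, Commute x e := fun e he => by
          rcases hEm e he with h1 | h1
          · exact (show Commute e x from (mem_inf.1 hx.1).2 e h1).symm
          · have h2 : Commute x (e * x) := (show Commute (e * x) x from (mem_inf.1 hx.1).2 _ h1).symm
            have := h2.mul_right (Commute.refl x).inv_right
            rwa [mul_inv_cancel_right] at this
        intro a ha b hb
        rcases hEm a ha with h1 | h1
        · rcases hEm b hb with h2 | h2
          · exact hBc a h1 b h2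
          · have := (hBc a h1 _ h2).mul_right ((hxc a (hBE h1)).symm.inv_right)
            rwa [mul_inv_cancel_right] at this
        · have hax : Commute (a * x) b := by
            rcases hEm b hb with h2 | h2
            · exact hBc _ h1 b h2
            · have := (hBc _ h1 _ h2).mul_right ((hxc _ (hBE h1)).symm.inv_right)
              rwa [mul_inv_cancel_right] at this
          have := hax.mul_left (hxc b hb).inv_left
          rwa [mul_inv_cancel_right] at this
      exact hxn (hmax ⟨hEinv, hEc⟩ hBE hxE)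
    -- the action on `X / B`
    haveI : (B.subgroupOf X).Normal := ⟨fun a ha g => mem_subgroupOf.2 (hB.nrm g (hXT g.2) a ha)⟩
    set π := QuotientGroup.mk' (B.subgroupOf X)
    let ψ : X →* X :=
      { toFun := fun x => ⟨h * x * h⁻¹, hXh x x.2⟩
        map_one' := Subtype.ext (by simp)
        map_mul' := fun a b => Subtype.ext (by
          show h * ((a : G) * b) * h⁻¹ = h * a * h⁻¹ * (h * b * h⁻¹)
          group) }
    let μ := QuotientGroup.map (B.subgroupOf X) (B.subgroupOf X) ψ (fun b hb => mem_comap.2 (mem_subgroupOf.2 (hB.hinv b hb)))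
    have hψ : Function.Surjective ψ := fun x => by
      refine ⟨⟨h⁻¹ * x * h, hinv_symm hXh x.2⟩, Subtype.ext ?_⟩
      show h * (h⁻¹ * x * h) * h⁻¹ = x
      group
    have hμ : Function.Surjective μ := by
      intro q
      obtain ⟨x, rfl⟩ := QuotientGroup.mk'_surjective _ q
      obtain ⟨w, rfl⟩ := hψ x
      exact ⟨π w, rfl⟩
    set σ : Equiv.Perm (X ⧸ B.subgroupOf X) := Equiv.ofBijective μ (Finite.injective_iff_surjective.2 hμ |> (⟨·, hμ⟩))
      with hσ
    have hσi : ∀ (i : ℕ) (x : X), (σ ^ i) (π x) = π ⟨h ^ i * x * (h ^ i)⁻¹, pow_conj_mem hXh i x.2⟩ := by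
      intro i
      induction i with
      | zero => intro x; simp
      | succ i ih =>
        intro x
        rw [pow_succ', Equiv.Perm.mul_apply, ih]
        show μ (π _) = _
        refine congrArg π (Subtype.ext ?_)
        show h * (h ^ i * x * (h ^ i)⁻¹) * h⁻¹ = h ^ (i + 1) * x * (h ^ (i + 1))⁻¹
        rw [pow_succ']; group
    obtain ⟨k, hk⟩ := hy.pow
    have hσo : orderOf σ ∣ 3 ^ k := orderOf_dvd_of_pow_eq_one (Equiv.ext fun q => by
      obtain ⟨x, rfl⟩ := QuotientGroup.mk'_surjective _ q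
      rw [hσi, Equiv.Perm.one_apply]
      refine congrArg π (Subtype.ext ?_)
      show h ^ 3 ^ k * x * (h ^ 3 ^ k)⁻¹ = x
      rw [← hk, pow_orderOf_eq_one]; group)
    haveI := Fintype.ofFinite (X ⧸ B.subgroupOf X)
    have hsupp : σ.support = Finset.univ.erase 1 := by
      ext q
      rw [Equiv.Perm.mem_support, Finset.mem_erase, and_iff_left (Finset.mem_univ q)]
      obtain ⟨x, rfl⟩ := QuotientGroup.mk'_surjective _ q
      constructor
      · intro hq e
        apply hq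
        show μ (π x) = π x
        rw [show π x = 1 from e, map_one]
      · intro hq e
        apply hq
        have e' : π (ψ x) = π x := e
        refine (QuotientGroup.eq_one_iff x).2 (mem_subgroupOf.2 (hfpf x x.2 ?_))
        have h1 : π (ψ x * x⁻¹) = 1 := by rw [map_mul, map_inv, e', mul_inv_cancel]
        exact mem_subgroupOf.1 ((QuotientGroup.eq_one_iff _).1 h1)
    have hcard : Fintype.card (X ⧸ B.subgroupOf X) ≤ 16 := by
      rw [← Nat.card_eq_fintype_card]
      exact hy.section_le hBX hXT (fun g hg a ha => hB.nrm g (hXT hg) a ha) fun d hd => hd.2.1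
    obtain ⟨j, hj⟩ := relIndex_pow hy.two B hXT
    have hj' : Fintype.card (X ⧸ B.subgroupOf X) = 2 ^ j := by rw [← Nat.card_eq_fintype_card]; exact hj
    have hsum : σ.cycleType.sum = 2 ^ j - 1 := by
      rw [Equiv.Perm.sum_cycleType, hsupp, Finset.card_erase_of_mem (Finset.mem_univ _), Finset.card_univ, hj']
    have hj0 : j ≠ 0 := fun e => hx₀B (relIndex_eq_one.1 (by rw [hj, e, pow_zero]) hx₀X)
    have hj4 : j ≤ 4 := by
      by_contra hlt
      have := Nat.pow_le_pow_right (show 0 < 2 by norm_num) (show 5 ≤ j by omega)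
      omega
    have hpart : ∀ i ∈ σ.cycleType, i = 3 ∨ (9 ∣ i ∧ 9 ≤ i) := by
      intro i hi
      obtain ⟨l, -, rfl⟩ := (Nat.dvd_prime_pow Nat.prime_three).1 ((Equiv.Perm.dvd_of_mem_cycleType hi).trans hσo)
      have h2 := Equiv.Perm.two_le_of_mem_cycleType hi
      match l with
      | 0 => simp at h2
      | 1 => exact Or.inl (pow_one 3)
      | l + 2 =>
        exact Or.inr ⟨pow_dvd_pow 3 (Nat.le_add_left 2 l),
          Nat.le_of_dvd (by positivity) (pow_dvd_pow 3 (Nat.le_add_left 2 l))⟩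
    obtain ⟨x, hxX, hxB, hx3⟩ : ∃ x ∈ X, x ∉ B ∧ h ^ 3 * x * (h ^ 3)⁻¹ * x⁻¹ ∈ B := by
      by_cases h3 : (3 : ℕ) ∈ σ.cycleType
      · obtain ⟨c, τ, hst, hd, hc, hc3⟩ := Equiv.Perm.mem_cycleType_iff.1 h3
        obtain ⟨q, hq⟩ := hc.nonempty_support
        obtain ⟨x, rfl⟩ := QuotientGroup.mk'_surjective _ q
        have hq' : σ (π x) ≠ π x := by
          rw [hst, Equiv.Perm.mul_apply, (Equiv.Perm.notMem_support.1 fun h1 =>
            Finset.disjoint_left.1 hd.disjoint_support hq h1)]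
          exact Equiv.Perm.mem_support.1 hq
        refine ⟨x, x.2, fun hxB => hq' ?_, ?_⟩
        · show μ (π x) = π x
          rw [show π x = 1 from (QuotientGroup.eq_one_iff x).2 (mem_subgroupOf.2 hxB), map_one]
        · have h1 : (σ ^ 3) (π x) = π x := by
            rw [hst, hd.commute.mul_pow, Equiv.Perm.mul_apply]
            have hτ : (τ ^ 3) (π x) = π x := Equiv.Perm.notMem_support.1 fun h1 =>
              Finset.disjoint_left.1 hd.disjoint_support hq (Equiv.Perm.support_pow_le τ 3 h1)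
            rw [hτ, show c ^ 3 = 1 by rw [← hc3, ← hc.orderOf]; exact pow_orderOf_eq_one c, Equiv.Perm.one_apply]
          rw [hσi] at h1
          have h2 : π (⟨h ^ 3 * x * (h ^ 3)⁻¹, pow_conj_mem hXh 3 x.2⟩ * x⁻¹) = 1 := by
            rw [map_mul, map_inv, h1, mul_inv_cancel]
          exact mem_subgroupOf.1 ((QuotientGroup.eq_one_iff _).1 h2)
      · exfalso
        have hall : ∀ i ∈ σ.cycleType, 9 ∣ i := fun i hi =>
          ((hpart i hi).resolve_left fun e => h3 (e ▸ hi)).1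
        have h9 := Multiset.dvd_sum hall
        rw [hsum] at h9
        interval_cases j <;> omega
    set y := h * x * h⁻¹ with hydef
    have hyX : y ∈ X := hXh x hxX
    have hyB : h * y * h⁻¹ * x * y ∈ B := by
      set z := h * y * h⁻¹ with hzdef
      have hzX : z ∈ X := hXh y hyX
      refine hfpf _ (mul_mem (mul_mem hzX hxX) hyX) ?_
      have e1 : h * (z * x * y) * h⁻¹ = (h ^ 3 * x * (h ^ 3)⁻¹ * x⁻¹) * (x * (y * z)) := by
        rw [hzdef, hydef, show h ^ 3 = h * h * h by rw [pow_succ, pow_two]]; group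
      have h1 := hXc (x * y) (mul_mem hxX hyX) z hzX
      rw [e1, show h ^ 3 * x * (h ^ 3)⁻¹ * x⁻¹ * (x * (y * z)) * (z * x * y)⁻¹ =
        h ^ 3 * x * (h ^ 3)⁻¹ * x⁻¹ * ((x * y) * z * (x * y)⁻¹ * z⁻¹) by group]
      exact mul_mem hx3 h1
    obtain ⟨E, hBE, hEX, hxE, -, hEm⟩ := exists_ext hBX hXc hxX hxX.2.1
    obtain ⟨F, hEF, hFX, hyF, -, hFm⟩ :=
      exists_ext hEX (fun a ha b hb => hBE (hXc a ha b hb)) hyX (hBE hyX.2.1)
    have hgen : ∀ S : Subgroup G, B ≤ S → x ∈ S → y ∈ S → F ≤ S := by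
      intro S hBS hxS hyS f hf
      rcases hFm f hf with h1 | h1
      · rcases hEm f h1 with h2 | h2
        · exact hBS h2
        · exact (mul_mem_cancel_right hxS).1 (hBS h2)
      · refine (mul_mem_cancel_right hyS).1 ?_
        rcases hEm _ h1 with h2 | h2
        · exact hBS h2
        · exact (mul_mem_cancel_right hxS).1 (hBS h2)
    -- the commutator is fixed by `h`, hence trivial
    have hxy : Commute x y := by
      set c := x * y * x⁻¹ * y⁻¹ with hcdef
      have hcX : c ∈ B := hXc x hxX y hyX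
      have hz : h * y * h⁻¹ = (h * y * h⁻¹ * x * y) * y⁻¹ * x⁻¹ := by group
      set w := h * y * h⁻¹ * x * y with hwdef
      have hxc : ∀ b ∈ B, x * b * x⁻¹ = b := hcB x hxX.1
      have hyc : ∀ b ∈ B, y * b * y⁻¹ = b := hcB y hyX.1
      have hc' : h * c * h⁻¹ = c := by
        calc h * c * h⁻¹ = y * (h * y * h⁻¹) * y⁻¹ * (h * y * h⁻¹)⁻¹ := by rw [hcdef, hydef]; group
          _ = y * w * y⁻¹ * (x⁻¹ * y⁻¹) * (x * y) * w⁻¹ := by rw [hz]; group
          _ = w * (x⁻¹ * y⁻¹ * x * y) * w⁻¹ := by rw [hyc w hyB]; group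
          _ = w * (x⁻¹ * (y⁻¹ * c * y) * x) * w⁻¹ := by rw [hcdef]; group
          _ = c := by
            rw [show y⁻¹ * c * y = c by
              conv_lhs => rw [← hyc c hcX]
              group,
              show x⁻¹ * c * x = c by
              conv_lhs => rw [← hxc c hcX]
              group, conj_eq_of_commute (hBc w hyB c hcX)]
      exact commute_of_conj_eq (mul_inv_eq_one.1 (hfix c hcX (commute_of_conj_eq hc')))
    have hFB : ∀ f ∈ F, ∀ b ∈ B, Commute f b := fun f hf b hb => ((mem_inf.1 (hFX hf).1).2 b hb).symm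
    have hFc : ∀ a ∈ F, ∀ b ∈ F, Commute a b := by
      have key : ∀ s, (∀ b ∈ B, Commute s b) → Commute s x → Commute s y → ∀ f ∈ F, Commute s f := by
        intro s h1 h2 h3 f hf
        have := hgen (centralizer ({s} : Set G)) (fun b hb => mem_centralizer_singleton_iff.2 (h1 b hb).symm.eq)
          (mem_centralizer_singleton_iff.2 h2.symm.eq) (mem_centralizer_singleton_iff.2 h3.symm.eq) hf
        exact (mem_centralizer_singleton_iff.1 this : Commute f s).symm
      have hx' := key x (fun b hb => hFB x (hEF hxE) b hb) (Commute.refl x) hxy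
      have hy' := key y (fun b hb => hFB y hyF b hb) hxy.symm (Commute.refl y)
      intro a ha b hb
      exact key a (hFB a ha) (hx' a ha).symm (hy' a ha).symm b hb
    have hFinv : Inv T h F := by
      refine ⟨hFX.trans hXT, fun g hg e he => ?_, fun e he => ?_⟩
      · rw [← inv_mul_cancel_right (g * e * g⁻¹) e]
        exact mul_mem (hEF (hBE ((hFX he).2.2 g hg))) he
      · have := hgen (F.comap (MulAut.conj h).toMonoidHom) (fun b hb => hEF (hBE (hB.hinv b hb))) hyF (by
          show h * y * h⁻¹ ∈ F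
          rw [show h * y * h⁻¹ = (h * y * h⁻¹ * x * y) * y⁻¹ * x⁻¹ by group]
          exact mul_mem (mul_mem (hEF (hBE hyB)) (inv_mem hyF)) (inv_mem (hEF hxE))) he
        exact this
    exact hxB (hmax ⟨hFinv, hFc⟩ (hBE.trans hEF) (hEF hxE))
  -- the exponent
  have hexists : ∃ n, ∀ b ∈ B, b ^ 2 ^ n = 1 := by
    obtain ⟨k, hk⟩ := IsPGroup.iff_card.1 (hy.two.to_le hB.le)
    exact ⟨k, fun b hb => by
      rw [← hk]
      exact congrArg Subtype.val (pow_card_eq_one' (x := (⟨b, hb⟩ : B)))⟩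
  set n := Nat.find hexists with hn
  have hexp : ∀ b ∈ B, b ^ 2 ^ n = 1 := Nat.find_spec hexists
  obtain ⟨u₀, hu₀, hu₀1⟩ : ∃ u ∈ U, u ≠ 1 := by
    by_contra hall
    push Not at hall
    have h4 := hp.card
    rw [(Subgroup.eq_bot_iff_forall U).2 hall, card_bot] at h4
    omega
  have hn1 : 1 ≤ n := by
    by_contra hlt
    have := hexp u₀ (hUB hu₀)
    rw [show n = 0 by omega, pow_zero, pow_one] at this
    exact hu₀1 this
  obtain ⟨b, hb, hbo⟩ : ∃ b ∈ B, b ^ 2 ^ (n - 1) ≠ 1 := by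
    by_contra hall
    push Not at hall
    exact Nat.find_min hexists (show n - 1 < n by omega) hall
  have hbn : b ^ 2 ^ n = 1 := hexp b hb
  set u := b ^ 2 ^ (n - 1) with hu
  have hu2 : u * u = 1 := by
    rw [hu, ← pow_add, ← two_mul, ← pow_succ', Nat.sub_add_cancel hn1, hbn]
  have huU : u ∈ U := homega u (pow_mem hb _) hu2
  set b' := h * b * h⁻¹ with hb'
  have hb'B : b' ∈ B := hB.hinv b hb
  haveI : NeZero (2 ^ n) := ⟨by positivity⟩
  have hb'n : b' ^ 2 ^ n = 1 := hexp b' hb'B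
  have hord : orderOf b = 2 ^ n := by
    have e := orderOf_eq_prime_pow (p := 2) (n := n - 1) hbo (by rw [Nat.sub_add_cancel hn1]; exact hbn)
    rwa [Nat.sub_add_cancel hn1] at e
  have hval : ∀ (c : G), c ^ 2 ^ n = 1 → ∀ i j : ZMod (2 ^ n), c ^ (i + j).val = c ^ i.val * c ^ j.val := by
    intro c hc i j
    rw [← pow_add, ZMod.val_add]
    conv_rhs => rw [← Nat.mod_add_div (i.val + j.val) (2 ^ n), pow_add, pow_mul, hc, one_pow, mul_one]
  let φ : Multiplicative (ZMod (2 ^ n) × ZMod (2 ^ n)) →* B :=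
    { toFun := fun q => ⟨b ^ q.toAdd.1.val * b' ^ q.toAdd.2.val, mul_mem (pow_mem hb _) (pow_mem hb'B _)⟩
      map_one' := Subtype.ext (by simp)
      map_mul' := fun q r => Subtype.ext (by
        show b ^ (q.toAdd.1 + r.toAdd.1).val * b' ^ (q.toAdd.2 + r.toAdd.2).val =
          b ^ q.toAdd.1.val * b' ^ q.toAdd.2.val * (b ^ r.toAdd.1.val * b' ^ r.toAdd.2.val)
        rw [hval b hbn, hval b' hb'n]
        exact ((hBc b hb b' hb'B).pow_pow r.toAdd.1.val q.toAdd.2.val).mul_mul_mul_comm _ _) }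
  have hinj : Function.Injective φ := by
    rw [injective_iff_map_eq_one]
    rintro q hq
    have hq' : b ^ q.toAdd.1.val * b' ^ q.toAdd.2.val = 1 := congrArg Subtype.val hq
    have hx1 : b ^ q.toAdd.1.val = 1 := by
      by_contra hx
      obtain ⟨k, hk⟩ := FixityFour.exists_pow_orderOf (hy.two.to_le hB.le) (pow_mem hb _) hx
      set w := (b ^ q.toAdd.1.val) ^ k
      have hw2 : w * w = 1 := by
        rw [← pow_two]; conv_lhs => rw [← hk]
        exact pow_orderOf_eq_one _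
      have hw1 : w ≠ 1 := fun e => by rw [e, orderOf_one] at hk; omega
      have hinvol : ∀ (c : G) (i : ℕ), orderOf c = 2 ^ n → (c ^ i) * (c ^ i) = 1 → c ^ i ≠ 1 →
          c ^ i = c ^ 2 ^ (n - 1) := by
        intro c i hc hi hi1
        rw [← pow_add, ← two_mul] at hi
        have h1 := orderOf_dvd_of_pow_eq_one hi
        rw [hc, show 2 ^ n = 2 * 2 ^ (n - 1) by rw [← pow_succ', Nat.sub_add_cancel hn1]] at h1
        obtain ⟨r, hr⟩ := (Nat.mul_dvd_mul_iff_left (by norm_num : 0 < 2)).1 h1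
        have hsq : c ^ 2 ^ (n - 1) * c ^ 2 ^ (n - 1) = 1 := by
          rw [← pow_add, ← two_mul, ← pow_succ', Nat.sub_add_cancel hn1, ← hc, pow_orderOf_eq_one]
        rw [hr, pow_mul]
        rcases Nat.even_or_odd' r with ⟨s, rfl | rfl⟩
        · exfalso
          apply hi1
          rw [hr, pow_mul, pow_mul, pow_two, hsq, one_pow]
        · rw [pow_succ, pow_mul, pow_two, hsq, one_pow, one_mul]
      have e1 : w = u := by
        have e : w = b ^ (q.toAdd.1.val * k) := (pow_mul b _ k).symm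
        rw [e]
        exact hinvol b _ hord (by rw [← e]; exact hw2) (by rw [← e]; exact hw1)
      have hwi : w = b' ^ (q.toAdd.2.val * k) := by
        have e : b ^ q.toAdd.1.val = (b' ^ q.toAdd.2.val)⁻¹ := eq_inv_of_mul_eq_one_left hq'
        calc w = w⁻¹ := (inv_eq_of_mul_eq_one_right hw2).symm
          _ = _ := by
            show ((b ^ q.toAdd.1.val) ^ k)⁻¹ = _
            rw [e, inv_pow, inv_inv, pow_mul]
      have e2 : w = h * u * h⁻¹ := by
        rw [hwi, hinvol b' _ (by rw [hb', show h * b * h⁻¹ = MulAut.conj h b from rfl, MulEquiv.orderOf_eq, hord])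
          (by rw [← hwi]; exact hw2) (by rw [← hwi]; exact hw1), hb', conj_pow]
      exact hw1 (e1 ▸ hp.move u huU (commute_of_conj_eq (e2.symm.trans e1)))
    rw [hx1, one_mul] at hq'
    have key : ∀ (c : G), orderOf c = 2 ^ n → ∀ i : ZMod (2 ^ n), c ^ i.val = 1 → i = 0 := by
      intro c hc i hi
      have h1 := orderOf_dvd_of_pow_eq_one hi
      rw [hc] at h1
      exact (ZMod.val_eq_zero i).1 (Nat.eq_zero_of_dvd_of_lt h1 i.val_lt)
    refine Multiplicative.toAdd.injective (Prod.ext (key b hord _ hx1) (key b' ?_ _ hq'))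
    rw [hb', show h * b * h⁻¹ = MulAut.conj h b from rfl, MulEquiv.orderOf_eq, hord]
  -- elements of bounded order
  let K : ℕ → Subgroup G := fun j =>
    { carrier := {x | x ∈ B ∧ x ^ 2 ^ j = 1}
      one_mem' := ⟨one_mem _, one_pow _⟩
      mul_mem' := fun {x y} hx hy' => ⟨mul_mem hx.1 hy'.1, by rw [(hBc x hx.1 y hy'.1).mul_pow, hx.2, hy'.2, one_mul]⟩
      inv_mem' := fun {x} hx => ⟨inv_mem hx.1, by rw [inv_pow, hx.2, inv_one]⟩ }
  have hK : ∀ j, Nat.card (K j) ≤ 4 ^ j := by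
    intro j
    induction j with
    | zero =>
      rw [pow_zero]
      haveI : Subsingleton (K 0) := ⟨fun x y => Subtype.ext (by
        have hx : (x : G) ^ 2 ^ 0 = 1 := x.2.2
        have hy' : (y : G) ^ 2 ^ 0 = 1 := y.2.2
        rw [pow_zero, pow_one] at hx hy'
        rw [hx, hy'])⟩
      exact Finite.card_le_one_iff_subsingleton.2 this
    | succ j ih =>
      let sq : K (j + 1) →* K j :=
        { toFun := fun x => ⟨(x : G) * x, mul_mem x.2.1 x.2.1, by
            rw [← pow_two, ← pow_mul, ← pow_succ']; exact x.2.2⟩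
          map_one' := Subtype.ext (one_mul 1)
          map_mul' := fun x y => Subtype.ext ((hBc y y.2.1 x x.2.1).mul_mul_mul_comm (x : G) y) }
      have h1 := sq.ker.card_mul_index
      rw [index_ker] at h1
      rw [← h1, pow_succ, mul_comm (4 ^ j)]
      refine Nat.mul_le_mul ?_ ((card_le_card_group _).trans ih)
      rw [← hp.card]
      refine Nat.card_le_card_of_injective (fun x : sq.ker => (⟨((x : K (j + 1)) : G), homega _ (x : K (j + 1)).2.1
        (congrArg Subtype.val (MonoidHom.mem_ker.1 x.2))⟩ : U)) fun x y e => ?_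
      have e' := congrArg Subtype.val e
      exact Subtype.ext (Subtype.ext e')
  have hcardle : Nat.card B ≤ 4 ^ n := (card_le_of_le (show B ≤ K n from fun x hx => (⟨hx, hexp x hx⟩ : x ∈ B ∧ x ^ 2 ^ n = 1))).trans (hK n)
  have hcardge : 4 ^ n ≤ Nat.card B := by
    have h1 := Nat.card_le_card_of_injective φ hinj
    rw [show Nat.card (Multiplicative (ZMod (2 ^ n) × ZMod (2 ^ n))) = Nat.card (ZMod (2 ^ n) × ZMod (2 ^ n)) from rfl,
      Nat.card_prod, Nat.card_zmod, ← mul_pow] at h1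
    exact h1
  have hcard : Nat.card B = 4 ^ n := le_antisymm hcardle hcardge
  have hbij : Function.Bijective φ := (Nat.bijective_iff_injective_and_card φ).2 ⟨hinj, by
    rw [show Nat.card (Multiplicative (ZMod (2 ^ n) × ZMod (2 ^ n))) = Nat.card (ZMod (2 ^ n) × ZMod (2 ^ n)) from rfl,
      Nat.card_prod, Nat.card_zmod, ← mul_pow, hcard]; rfl⟩
  refine ⟨B, n, hp, hB, hUB, hBc, hself, homega, hfix, hn1, hexp, hcard, fun j hj a ha haj => ?_,
    ⟨(MulEquiv.ofBijective φ hbij).symm⟩⟩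
  -- roots
  let pw : B →* K j :=
    { toFun := fun x => ⟨(x : G) ^ 2 ^ (n - j), pow_mem x.2 _, by
        rw [← pow_mul, ← pow_add, Nat.sub_add_cancel hj]; exact hexp x x.2⟩
      map_one' := Subtype.ext (one_pow _)
      map_mul' := fun x y => Subtype.ext ((hBc x x.2 y y.2).mul_pow _) }
  have hsurj : Function.Surjective pw := by
    rw [← MonoidHom.range_eq_top]
    apply eq_top_of_le_card
    have h1 := pw.ker.card_mul_index
    rw [index_ker, hcard] at h1
    have h2 : Nat.card pw.ker ≤ 4 ^ (n - j) := by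
      refine le_trans ?_ (hK (n - j))
      refine Nat.card_le_card_of_injective (fun x : pw.ker =>
        (⟨((x : B) : G), (x : B).2, congrArg Subtype.val (MonoidHom.mem_ker.1 x.2)⟩ : K (n - j))) fun x y e => ?_
      have e' := congrArg Subtype.val e
      exact Subtype.ext (Subtype.ext e')
    refine (hK j).trans (Nat.le_of_mul_le_mul_left ?_ (Nat.pow_pos (n := n - j) (show 0 < 4 by norm_num)))
    calc 4 ^ (n - j) * 4 ^ j = 4 ^ n := by rw [← pow_add, Nat.sub_add_cancel hj]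
      _ = Nat.card pw.ker * Nat.card pw.range := h1.symm
      _ ≤ _ := Nat.mul_le_mul_right _ h2
  obtain ⟨c, hc⟩ := hsurj ⟨a, ha, haj⟩
  exact ⟨c, c.2, congrArg Subtype.val hc⟩

end Cfsg.Agent.NormalRankTwo
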