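import Mathlib
import Cfsg.Agent.Lib.NormalRankTwo.Homocyclic

/-!
# The action on a homocyclic self-centralising subgroup

`T / B` is read as a group of endomorphisms of the four-group of involutions, through
`g ↦ (a * a ↦ a⁻¹ * g * a * g⁻¹)` on the elements of order dividing four.
-/

set_option autoImplicit false
set_option linter.style.haveILetI false
set_option linter.unusedSectionVars false

namespace Cfsg.Agent.NormalRankTwo

open Subgroup

variable {G : Type*} [Group G]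

/-- The displacement of `a` by `g`. -/
def shift (g a : G) : G := a⁻¹ * (g * a * g⁻¹)

theorem conj_eq_shift (g a : G) : g * a * g⁻¹ = a * shift g a := by rw [shift]; group

theorem shift_eq_one {g a : G} : shift g a = 1 ↔ Commute g a :=
  ⟨fun e => commute_of_conj_eq (inv_mul_eq_one.1 e).symm,
    fun e => inv_mul_eq_one.2 (conj_eq_of_commute e).symm⟩

theorem four_eq (b : G) : b * b * (b * b) = b ^ 2 ^ 2 := by rw [← pow_two, ← pow_two, ← pow_mul]; rfl

theorem val_one2 : (1 : ZMod 2).val = 1 := rfl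

/-- Coordinates in a four-group. -/
abbrev V2 := ZMod 2 × ZMod 2

/-- The rotation in coordinates. -/
def rotv (v : V2) : V2 := (v.2, v.1 + v.2)

/-- A linear map given by the images of the two basis vectors. -/
def app (m : V2 × V2) (v : V2) : V2 := (v.1 * m.1.1 + v.2 * m.2.1, v.1 * m.1.2 + v.2 * m.2.2)

/-- Conjugation by the rotation. -/
def mconj (m : V2 × V2) : V2 × V2 := (rotv (m.1 + m.2), rotv m.1)

/-- The identity map. -/
def mone : V2 × V2 := ((1, 0), (0, 1))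

theorem app_add : ∀ (m m' : V2 × V2) (v : V2), app (m + m') v = app m v + app m' v := by
  intro m m' v
  simp only [app, Prod.fst_add, Prod.snd_add, Prod.mk_add_mk, Prod.mk.injEq]
  constructor <;> ring

theorem app_basis (m : V2 × V2) : app m (1, 0) = m.1 ∧ app m (0, 1) = m.2 := by
  constructor <;> simp [app]

theorem app_rotv : ∀ (m : V2 × V2) (v : V2), app (mconj m) (rotv v) = rotv (app m v) := by
  decide

theorem app_mone (v : V2) : app mone v = v := by simp [app, mone]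

/-- An idempotent family stable under rotation is fixed by it. -/
theorem mconj_eq_of_idem : ∀ m : V2 × V2, (∀ v, app m (app m v) = app m v) →
    (∀ v, app (mconj m) (app (mconj m) v) = app (mconj m) v) →
    (∀ v, app (m + mconj m) (app (m + mconj m) v) = app (m + mconj m) v) → mconj m = m := by
  decide

/-- A fixed map fixing a non-zero vector is the identity. -/
theorem eq_mone_of_fix : ∀ m : V2 × V2, mconj m = m → ∀ v, v ≠ 0 → app m v = v → m = mone := by
  decide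

/-- A non-fixed map gives three elements. -/
theorem mconj_ne_zero : ∀ m : V2 × V2, mconj m ≠ m → m ≠ 0 ∧ mconj m ≠ 0 := by
  decide

/-- The coordinates of `U`. -/
def cfun (h u : G) (v : V2) : G := u ^ v.1.val * (h * u * h⁻¹) ^ v.2.val

/-- `m` describes the action of `g`. -/
def Rep (B : Subgroup G) (h u g : G) (m : V2 × V2) : Prop :=
  ∀ a ∈ B, ∀ v : V2, a * a = cfun h u v → shift g a = cfun h u (app m v)

variable [Finite G] {T U B : Subgroup G} {h u : G} {n : ℕ}

section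
variable (hp : Plane T h U) (hu : u ∈ U) (hu1 : u ≠ 1)
include hp hu

theorem cfun_mem (v : V2) : cfun h u v ∈ U := mul_mem (pow_mem hu _) (pow_mem (hp.inv.hinv u hu) _)

theorem cfun_add (v w : V2) : cfun h u (v + w) = cfun h u v * cfun h u w := by
  have hval : ∀ x : G, x * x = 1 → ∀ i j : ZMod 2, x ^ (i + j).val = x ^ i.val * x ^ j.val := by
    intro x hx i j
    rw [← pow_add, ZMod.val_add]
    conv_rhs => rw [← Nat.mod_add_div (i.val + j.val) 2, pow_add, pow_mul, pow_two, hx, one_pow, mul_one]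
  have hv := hp.inv.hinv u hu
  rw [cfun, cfun, cfun, Prod.fst_add, Prod.snd_add, hval u (hp.sq u hu), hval _ (hp.sq _ hv)]
  exact ((hp.cent u (hp.inv.le hu) _ hv).pow_pow w.1.val v.2.val).mul_mul_mul_comm _ _

theorem cfun_zero : cfun h u 0 = 1 := by simp [cfun]

theorem cfun_rot (v : V2) : cfun h u (rotv v) = h * cfun h u v * h⁻¹ := by
  have hv := hp.inv.hinv u hu
  have e : cfun h u (rotv v) = (h * u * h⁻¹) ^ v.1.val * (u * (h * u * h⁻¹)) ^ v.2.val := by
    have hsplit : rotv v = (0, v.1) + (v.2, v.2) := by simp [rotv]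
    rw [hsplit, cfun_add hp hu, (hp.cent u (hp.inv.le hu) _ hv).mul_pow]
    simp [cfun]
  rw [e, cfun, ← hp.rot hu]
  rw [conj_pow, conj_pow, conj_pow]
  group

include hu1

theorem cfun_eq_one {v : V2} (e : cfun h u v = 1) : v = 0 := by
  have hv := hp.inv.hinv u hu
  have hne : h * u * h⁻¹ ≠ u := fun e => hu1 (hp.move u hu (commute_of_conj_eq e))
  have hcases : ∀ v : V2, v = 0 ∨ v = (0, 1) ∨ v = (1, 0) ∨ v = (1, 1) := by decide
  rcases hcases v with rfl | rfl | rfl | rfl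
  · rfl
  · exact absurd (by simpa [cfun, val_one2] using e) (fun e : h * u * h⁻¹ = 1 => hu1 (conj_eq_one_iff.1 e))
  · exact absurd (by simpa [cfun, val_one2] using e) hu1
  · have e' : u * (h * u * h⁻¹) = 1 := by simpa [cfun, val_one2] using e
    exact absurd ((eq_inv_of_mul_eq_one_right e').trans (inv_eq_of_mul_eq_one_right (hp.sq u hu))) hne

theorem cfun_inj : Function.Injective (cfun h u) := fun v w e => by
  have h2 : ∀ x : V2, x + x = 0 := by decide
  have h1 : cfun h u (v + w) = 1 := by rw [cfun_add hp hu, e, hp.sq _ (cfun_mem hp hu w)]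
  have := cfun_eq_one hp hu hu1 h1
  calc v = v + (w + w) := by rw [h2, add_zero]
    _ = w := by rw [← add_assoc, this, zero_add]

theorem cfun_surj {x : G} (hx : x ∈ U) : ∃ v, cfun h u v = x := by
  rcases hp.cases hu hu1 x hx with rfl | rfl | rfl | rfl
  exacts [⟨0, cfun_zero hp hu⟩, ⟨(1, 0), by simp [cfun, val_one2]⟩, ⟨(0, 1), by simp [cfun, val_one2]⟩,
    ⟨(1, 1), by simp [cfun, val_one2]⟩]

end

theorem Homo.shift_mem (hH : Homo T h U B n) {g a : G} (hg : g ∈ T) (ha : a ∈ B) : shift g a ∈ B :=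
  mul_mem (inv_mem ha) (hH.inv.nrm g hg a ha)

theorem Homo.shift_mul (hH : Homo T h U B n) {g a b : G} (hg : g ∈ T) (ha : a ∈ B) (hb : b ∈ B) :
    shift g (a * b) = shift g a * shift g b := by
  have e : shift g (a * b) = b⁻¹ * (shift g a) * (g * b * g⁻¹) := by rw [shift, shift]; group
  rw [e, (hH.comm _ (inv_mem hb) _ (hH.shift_mem hg ha)).eq, mul_assoc, shift, shift]

theorem Homo.shift_pow (hH : Homo T h U B n) {g a : G} (hg : g ∈ T) (ha : a ∈ B) (k : ℕ) :
    shift g (a ^ k) = shift g a ^ k := by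
  induction k with
  | zero => simp [shift]
  | succ k ih => rw [pow_succ, hH.shift_mul hg (pow_mem ha k) ha, ih, pow_succ]

theorem Homo.shift_fix (hH : Homo T h U B n) {g a : G} (hg : g ∈ T) (ha : a ∈ U) : shift g a = 1 :=
  shift_eq_one.2 (hH.plane.cent g hg a ha)

theorem Homo.shift_four (hH : Homo T h U B n) {g a : G} (hg : g ∈ T) (ha : a ∈ B) (ha2 : a * a ∈ U) :
    shift g a ∈ U := by
  refine hH.omega _ (hH.shift_mem hg ha) ?_
  rw [← hH.shift_mul hg ha ha, hH.shift_fix hg ha2]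

/-- The elements of order four determine the action. -/
theorem Homo.centA (hH : Homo T h U B n) (hn : 2 ≤ n) :
    ∀ g ∈ T, (∀ a ∈ B, a * a ∈ U → Commute g a) → g ∈ B := by
  have hy := hH.plane.hy
  rcases (by omega : n = 2 ∨ 3 ≤ n) with h2 | hn3
  · intro g hg hgA
    refine hH.self g hg fun b hb => hgA b hb (hH.omega _ (mul_mem hb hb) ?_)
    have := hH.exp b hb
    rw [h2] at this
    rw [four_eq]; exact this
  let C : Subgroup G :=
    { carrier := {g | g ∈ T ∧ ∀ a ∈ B, a * a ∈ U → Commute g a}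
      one_mem' := ⟨one_mem _, fun a _ _ => Commute.one_left a⟩
      mul_mem' := fun {x y} hx hy' => ⟨mul_mem hx.1 hy'.1, fun a ha ha2 => (hx.2 a ha ha2).mul_left (hy'.2 a ha ha2)⟩
      inv_mem' := fun {x} hx => ⟨inv_mem hx.1, fun a ha ha2 => (hx.2 a ha ha2).inv_left⟩ }
  suffices hCB : C ≤ B from fun g hg hgA => hCB (⟨hg, hgA⟩ : g ∈ T ∧ _)
  have hBC : B ≤ C := fun b hb => (⟨hH.inv.le hb, fun a ha _ => hH.comm b hb a ha⟩ : b ∈ T ∧ _)
  have hCh : ∀ x ∈ C, h * x * h⁻¹ ∈ C := fun x hx => by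
    refine (⟨hy.norm x hx.1, fun a ha ha2 => ?_⟩ : h * x * h⁻¹ ∈ T ∧ _)
    have h1 : h⁻¹ * a * h ∈ B := hinv_symm hH.inv.hinv ha
    have h2 : h⁻¹ * a * h * (h⁻¹ * a * h) ∈ U := by
      rw [show h⁻¹ * a * h * (h⁻¹ * a * h) = h⁻¹ * (a * a) * h by group]
      exact hinv_symm hH.plane.inv.hinv ha2
    have h3 := conj_commute (c := h) (hx.2 _ h1 h2)
    rwa [show h * (h⁻¹ * a * h) * h⁻¹ = a by group] at h3
  by_contra hne
  obtain ⟨x₀, hx₀, hx₀B, hx₀2, hx₀c⟩ := exists_central_mod hy.two hBC (fun x hx => hx.1) hH.inv.nrm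
    (fun g hg x hx => (⟨mul_mem (mul_mem hg hx.1) (inv_mem hg), fun a ha ha2 => by
      have h1 : g⁻¹ * a * g ∈ B := by simpa using hH.inv.nrm g⁻¹ (inv_mem hg) a ha
      have h2 : g⁻¹ * a * g * (g⁻¹ * a * g) ∈ U := by
        rw [show g⁻¹ * a * g * (g⁻¹ * a * g) = g⁻¹ * (a * a) * g by group]
        simpa using hH.plane.inv.nrm g⁻¹ (inv_mem hg) _ ha2
      have h3 := conj_commute (c := g) (hx.2 _ h1 h2)
      rwa [show g * (g⁻¹ * a * g) * g⁻¹ = a by group] at h3⟩ : g * x * g⁻¹ ∈ T ∧ _))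
    (fun e => hne e.ge)
  let Good : G → Prop := fun x => x ∈ C ∧ x ∉ B ∧ x * x ∈ B ∧ ∀ g ∈ T, g * x * g⁻¹ * x⁻¹ ∈ B
  have hsh : ∀ x, Good x → ∀ b ∈ B, shift x b ∈ U := by
    intro x hx
    have hxT := hx.1.1
    have hinvol : ∀ b ∈ B, shift x (shift x b) = (shift x b * shift x b)⁻¹ := by
      intro b hb
      have e1 := hH.comm (x * x) hx.2.2.1 b hb
      set e := shift x b with he
      have heB := hH.shift_mem hxT hb
      have h1 : b = b * (e * (e * shift x e)) := by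
        calc b = x * x * b * (x * x)⁻¹ := (conj_eq_of_commute e1).symm
          _ = x * (x * b * x⁻¹) * x⁻¹ := by group
          _ = x * (b * e) * x⁻¹ := by rw [conj_eq_shift x b]
          _ = x * b * x⁻¹ * (x * e * x⁻¹) := by group
          _ = _ := by rw [conj_eq_shift x b, conj_eq_shift x e, ← he]; group
      have h2 : e * e * shift x e = 1 := by rw [mul_assoc]; exact mul_eq_left.1 h1.symm
      exact eq_inv_of_mul_eq_one_right h2
    suffices hk : ∀ d k, k + d = n - 2 → 1 ≤ k → ∀ b ∈ B, shift x b ^ 2 ^ k = 1 by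
      intro b hb
      refine hH.omega _ (hH.shift_mem hxT hb) ?_
      have := hk (n - 3) 1 (by omega) le_rfl b hb
      rwa [pow_one, pow_two] at this
    intro d
    induction d with
    | zero =>
      intro k hk hk1 b hb
      rw [← hH.shift_pow hxT hb]
      have hkn : k = n - 2 := by omega
      refine shift_eq_one.2 (hx.1.2 _ (pow_mem hb _) (hH.omega _ (mul_mem (pow_mem hb _) (pow_mem hb _)) ?_))
      rw [hkn, ← pow_add, ← pow_add, show 2 ^ (n - 2) + 2 ^ (n - 2) + (2 ^ (n - 2) + 2 ^ (n - 2)) = 2 ^ n by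
        conv_rhs => rw [show n = n - 2 + 2 by omega, pow_add]
        omega]
      exact hH.exp b hb
    | succ d ih =>
      intro k hk hk1 b hb
      have hup := ih (k + 1) (by omega) (by omega)
      set e := shift x b with he
      have heB := hH.shift_mem hxT hb
      have hen : e ^ 2 ^ (n - 2) = 1 := by
        rw [show n - 2 = (k + 1) + d by omega, pow_add, pow_mul, hup b hb, one_pow]
      obtain ⟨c, hc, hce⟩ := hH.roots (n - 2) (by omega) e heB hen
      rw [show n - (n - 2) = 2 by omega] at hce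
      have h1 := hinvol b hb
      rw [← he] at h1
      have h2 : (e * e)⁻¹ = shift x c ^ 2 ^ 2 := by rw [← h1, ← hce, hH.shift_pow hxT hc]
      obtain ⟨k', rfl⟩ : ∃ k', k = k' + 1 := ⟨k - 1, by omega⟩
      have h3 : e ^ 2 ^ (k' + 1) = ((e * e)⁻¹ ^ 2 ^ k')⁻¹ := by
        rw [inv_pow, inv_inv, ← pow_two, ← pow_mul, pow_succ']
      rw [h3, h2, ← pow_mul, ← pow_add, show 2 + k' = k' + 1 + 1 by omega, hup c hc, inv_one]
  have hcc : ∀ x, Good x → ∀ c ∈ B, shift x (c * c) = 1 := fun x hx c hc => by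
    rw [hH.shift_mul hx.1.1 hc hc]; exact hH.plane.sq _ (hsh x hx c hc)
  -- a square which is a square in `B`
  have hnosq : ∀ x, Good x → ∀ q ∈ B, x * x ≠ q * q := by
    intro x hx q hq e
    have hxT := hx.1.1
    set y := x * q⁻¹ with hy'
    have hy2 : y * y = shift x q⁻¹ := by
      calc y * y = q⁻¹ * shift x q⁻¹ * (q * q) * q⁻¹ := by rw [← conj_eq_shift, ← e, hy']; group
        _ = q⁻¹ * (shift x q⁻¹ * q) := by group
        _ = _ := by rw [← (hH.comm q hq _ (hH.shift_mem hxT (inv_mem hq))).eq, inv_mul_cancel_left]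
    have hyC : y ∈ C := mul_mem hx.1 (hBC (inv_mem hq))
    have hyU : y * y ∈ U := hy2 ▸ hsh x hx _ (inv_mem hq)
    obtain ⟨c, hc, hce⟩ := hH.roots 1 (by omega) (y * y) (hH.le hyU) (by rw [pow_one, pow_two]; exact hH.plane.sq _ hyU)
    set a := c ^ 2 ^ (n - 2) with ha
    have haB : a ∈ B := pow_mem hc _
    have haa : a * a = y * y := by
      rw [ha, ← pow_add, ← hce, ← two_mul, ← pow_succ', show n - 2 + 1 = n - 1 by omega]
    have haU : a * a ∈ U := haa ▸ hyU
    have hya : Commute y a := hyC.2 a haB haU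
    set v := y * a⁻¹ with hv
    have hvC : v ∈ C := mul_mem hyC (hBC (inv_mem haB))
    have hv2 : v * v = 1 := by
      rw [hv, hya.inv_right.symm.mul_mul_mul_comm y a⁻¹, ← haa, ← mul_inv_rev, mul_inv_cancel]
    have hvB : v ∉ B := by
      intro hvB
      refine hx.2.1 ?_
      rw [show x = v * a * q by rw [hv, hy']; group]
      exact mul_mem (mul_mem hvB haB) hq
    have hvx : ∀ b ∈ B, shift v b ∈ U := by
      intro b hb
      have hz : q⁻¹ * a⁻¹ ∈ B := mul_mem (inv_mem hq) (inv_mem haB)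
      have : shift v b = shift x b := by
        rw [shift, shift, show v * b * v⁻¹ = x * ((q⁻¹ * a⁻¹) * b * (q⁻¹ * a⁻¹)⁻¹) * x⁻¹ by rw [hv, hy']; group,
          conj_eq_of_commute (hH.comm _ hz b hb)]
      exact this ▸ hsh x hx b hb
    refine hy.no_eight hH.plane.inv.le hH.plane.card hH.plane.inv.nrm
      (fun a ha b hb => hH.plane.cent a (hH.plane.inv.le ha) b hb) hH.plane.sq hvC.1 hv2 (fun hvU => hvB (hH.le hvU))
      (fun a ha => hH.plane.cent v hvC.1 a ha) fun g hg => ?_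
    set z := g * v * g⁻¹ * v⁻¹ with hz
    have hzB : z ∈ B := by
      have hz' : q⁻¹ * a⁻¹ ∈ B := mul_mem (inv_mem hq) (inv_mem haB)
      rw [hz, show g * v * g⁻¹ * v⁻¹ = g * x * g⁻¹ * x⁻¹ * (x * (g * (q⁻¹ * a⁻¹) * g⁻¹ * (q⁻¹ * a⁻¹)⁻¹) * x⁻¹) by
        rw [hv, hy']; group]
      exact mul_mem (hx.2.2.2 g hg) (hH.inv.nrm x hxT _ (mul_mem (hH.inv.nrm g hg _ hz') (inv_mem hz')))
    have h1 : z * (z * shift v z) = 1 := by
      calc z * (z * shift v z) = z * (v * z * v⁻¹) := by rw [conj_eq_shift]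
        _ = z * (v * z * v) := by rw [inv_eq_of_mul_eq_one_right hv2]
        _ = (z * v) * (z * v) := by group
        _ = g * (v * v) * g⁻¹ := by rw [hz]; group
        _ = 1 := by rw [hv2]; group
    have h2 : z * z ∈ U := by
      rw [← mul_assoc] at h1
      rw [eq_inv_of_mul_eq_one_left h1]
      exact inv_mem (hvx z hzB)
    rw [shift_eq_one.2 (hvC.2 z hzB h2), mul_one] at h1
    exact hH.omega z hzB h1
  -- the top layer
  set σ : G → G := fun b => b ^ 2 ^ (n - 1) with hσ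
  have hsplit : ∀ b ∈ B, σ b = 1 → ∃ c ∈ B, b = c * c := by
    intro b hb e
    obtain ⟨c, hc, hce⟩ := hH.roots (n - 1) (by omega) b hb e
    exact ⟨c, hc, by rw [← hce, show n - (n - 1) = 1 by omega, pow_one, pow_two]⟩
  have hσU : ∀ b ∈ B, σ b ∈ U := fun b hb => hH.omega _ (pow_mem hb _) (by
    rw [hσ, ← pow_add, ← two_mul, ← pow_succ', Nat.sub_add_cancel hH.pos]; exact hH.exp b hb)
  have hσm : ∀ a ∈ B, ∀ b ∈ B, σ (a * b) = σ a * σ b := fun a ha b hb => (hH.comm a ha b hb).mul_pow _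
  have hcomm : ∀ x y, Good x → Good y →
      shift y (x * x) = (y * x * y⁻¹ * x⁻¹) * (y * x * y⁻¹ * x⁻¹) := by
    intro x y hx hy'
    set z := y * x * y⁻¹ * x⁻¹ with hz
    have hzB : z ∈ B := hx.2.2.2 y hy'.1.1
    have h1 : shift y (x * x) = z * z * shift x z := by
      have h2 : y * (x * x) * y⁻¹ = z * z * shift x z * (x * x) := by
        calc y * (x * x) * y⁻¹ = z * (x * z * x⁻¹) * (x * x) := by rw [hz]; group
          _ = _ := by rw [conj_eq_shift]; group
      rw [shift, h2, (hH.comm _ (mul_mem (mul_mem hzB hzB) (hH.shift_mem hx.1.1 hzB)) _ hx.2.2.1).eq,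
        inv_mul_cancel_left]
    have h3 : z * z ∈ U := by
      rw [show z * z = shift y (x * x) * (shift x z)⁻¹ by rw [h1, mul_inv_cancel_right]]
      exact mul_mem (hsh y hy' _ hx.2.2.1) (inv_mem (hsh x hx z hzB))
    rw [h1, shift_eq_one.2 (hx.1.2 z hzB h3), mul_one]
  have hgood : ∀ x, Good x → Good (h * x * h⁻¹) := fun x hx => by
    refine ⟨hCh x hx.1, fun hB => hx.2.1 ?_, ?_, fun g hg => ?_⟩
    · simpa [mul_assoc] using hinv_symm hH.inv.hinv hB
    · rw [sq_conj]; exact hH.inv.hinv _ hx.2.2.1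
    · have h1 := hH.inv.hinv _ (hx.2.2.2 _ (hinv_symm hy.norm hg))
      rwa [show h * (h⁻¹ * g * h * x * (h⁻¹ * g * h)⁻¹ * x⁻¹) * h⁻¹ =
        g * (h * x * h⁻¹) * g⁻¹ * (h * x * h⁻¹)⁻¹ by group] at h1
  have hxg : Good x₀ := ⟨hx₀, hx₀B, hx₀2, hx₀c⟩
  set x' := h * x₀ * h⁻¹ with hx'
  have hxg' : Good x' := hgood x₀ hxg
  have hxg'' : Good (h * x' * h⁻¹) := hgood x' hxg'
  set s := σ (x₀ * x₀) with hs
  have hs1 : s ≠ 1 := fun e => by
    obtain ⟨c, hc, hce⟩ := hsplit _ hx₀2 e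
    exact hnosq x₀ hxg c hc hce
  have hsU : s ∈ U := hσU _ hx₀2
  have hs' : σ (x' * x') = h * s * h⁻¹ := by
    rw [hx', sq_conj, hs, hσ]; exact conj_pow
  set p := shift x₀ (x' * x') with hp'
  have hpU : p ∈ U := hsh x₀ hxg _ hxg'.2.2.1
  have hp2 : shift x' (x₀ * x₀) = p := by
    rw [hp', hcomm x' x₀ hxg' hxg, hcomm x₀ x' hxg hxg',
      show x₀ * x' * x₀⁻¹ * x'⁻¹ = (x' * x₀ * x'⁻¹ * x₀⁻¹)⁻¹ by group, ← mul_inv_rev]
    refine (inv_eq_of_mul_eq_one_right ?_).symm
    rw [← hcomm x₀ x' hxg hxg']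
    exact hH.plane.sq _ (hsh x' hxg' _ hx₀2)
  have hpfix : h * p * h⁻¹ = p := by
    set x'' := h * x' * h⁻¹ with hx''
    have hsc : ∀ g a : G, h * shift g a * h⁻¹ = shift (h * g * h⁻¹) (h * a * h⁻¹) := fun g a => by
      rw [shift, shift]; group
    have e1 : h * p * h⁻¹ = shift x' (x'' * x'') := by rw [hp', hsc, ← hx', ← sq_conj]
    have hB2 : (x₀ * x₀) * (x' * x') ∈ B := mul_mem hx₀2 hxg'.2.2.1
    have hσ'' : σ (x'' * x'') = σ ((x₀ * x₀) * (x' * x')) := by
      rw [hσm _ hx₀2 _ hxg'.2.2.1, hs', ← hs, ← hH.plane.rot hsU, ← hs', hx'', sq_conj, hσ]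
      exact conj_pow
    obtain ⟨c, hc, hce⟩ := hsplit ((x'' * x'') * ((x₀ * x₀) * (x' * x'))) (mul_mem hxg''.2.2.1 hB2) (by
      rw [hσm _ hxg''.2.2.1 _ hB2, hσ'']; exact hH.plane.sq _ (hσU _ hB2))
    have e2 : shift x' (x'' * x'') * p = 1 := by
      have h1 := congrArg (shift x') hce
      rw [hcc x' hxg' c hc, hH.shift_mul hxg'.1.1 hxg''.2.2.1 hB2, hH.shift_mul hxg'.1.1 hx₀2 hxg'.2.2.1, hp2,
        shift_eq_one.2 ((Commute.refl x').mul_right (Commute.refl x')), mul_one] at h1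
      exact h1
    rw [e1, eq_inv_of_mul_eq_one_left e2, inv_eq_of_mul_eq_one_right (hH.plane.sq _ hpU)]
  have hp1 : p = 1 := hH.plane.move p hpU (commute_of_conj_eq hpfix)
  refine hx₀B (hH.self x₀ hx₀.1 fun b hb => shift_eq_one.1 ?_)
  have hkey : ∀ q ∈ B, shift x₀ q = 1 → σ q = σ b → shift x₀ b = 1 := by
    intro q hq h1 h2
    obtain ⟨c, hc, hce⟩ := hsplit (b * q) (mul_mem hb hq) (by
      rw [hσm b hb q hq, h2]; exact hH.plane.sq _ (hσU _ hb))
    have h3 := congrArg (shift x₀) hce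
    rwa [hcc x₀ hxg c hc, hH.shift_mul hx₀.1 hb hq, h1, mul_one] at h3
  have hxx : shift x₀ (x₀ * x₀) = 1 := shift_eq_one.2 ((Commute.refl x₀).mul_right (Commute.refl x₀))
  rcases hH.plane.cases hsU hs1 _ (hσU b hb) with e | e | e | e
  · exact hkey 1 (one_mem _) (by simp [shift]) (by rw [e, hσ]; exact one_pow _)
  · exact hkey _ hx₀2 hxx e.symm
  · exact hkey _ hxg'.2.2.1 (hp'.symm.trans hp1) (by rw [e, hs'])
  · exact hkey _ (mul_mem hx₀2 hxg'.2.2.1)
      (by rw [hH.shift_mul hx₀.1 hx₀2 hxg'.2.2.1, hxx, ← hp', hp1, one_mul])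
      (by rw [hσm _ hx₀2 _ hxg'.2.2.1, e, hs', ← hs])

theorem Homo.exists_root (hH : Homo T h U B n) (hn : 2 ≤ n) {x : G} (hx : x ∈ U) : ∃ a ∈ B, a * a = x := by
  obtain ⟨c, hc, hce⟩ := hH.roots 1 (by omega) x (hH.le hx) (by rw [pow_one, pow_two]; exact hH.plane.sq x hx)
  refine ⟨c ^ 2 ^ (n - 2), pow_mem hc _, ?_⟩
  rw [← pow_add, ← two_mul, ← pow_succ', show n - 2 + 1 = n - 1 by omega, hce]

section
variable (hH : Homo T h U B n) (hn : 2 ≤ n) (hu : u ∈ U) (hu1 : u ≠ 1)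
include hH hn hu hu1

theorem rep_exists {g : G} (hg : g ∈ T) : ∃ m, Rep B h u g m := by
  have hp := hH.plane
  obtain ⟨a₀, ha₀, ha₀2⟩ := hH.exists_root hn hu
  have ha₁ : h * a₀ * h⁻¹ ∈ B := hH.inv.hinv _ ha₀
  have ha₁2 : h * a₀ * h⁻¹ * (h * a₀ * h⁻¹) = h * u * h⁻¹ := by rw [sq_conj, ha₀2]
  obtain ⟨m₁, hm₁⟩ := cfun_surj hp hu hu1 (hH.shift_four hg ha₀ (by rw [ha₀2]; exact hu))
  obtain ⟨m₂, hm₂⟩ := cfun_surj hp hu hu1 (hH.shift_four hg ha₁ (by rw [ha₁2]; exact hp.inv.hinv u hu))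
  refine ⟨(m₁, m₂), fun a ha v hv => ?_⟩
  set r := a₀ ^ v.1.val * (h * a₀ * h⁻¹) ^ v.2.val with hr
  have hrB : r ∈ B := mul_mem (pow_mem ha₀ _) (pow_mem ha₁ _)
  have hr2 : r * r = cfun h u v := by
    rw [hr, ((hH.comm _ ha₀ _ ha₁).pow_pow v.1.val v.2.val).symm.mul_mul_mul_comm (a₀ ^ v.1.val) _,
      ← (Commute.refl a₀).mul_pow, ← (Commute.refl _).mul_pow, ha₀2, ha₁2, cfun]
  have hw : a * r⁻¹ ∈ U := hH.omega _ (mul_mem ha (inv_mem hrB)) (by
    rw [(hH.comm _ (inv_mem hrB) a ha).mul_mul_mul_comm a r⁻¹, hv, ← hr2, ← mul_inv_rev, mul_inv_cancel])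
  have e : shift g a = shift g r := by
    calc shift g a = shift g (a * r⁻¹ * r) := by rw [inv_mul_cancel_right]
      _ = _ := by rw [hH.shift_mul hg (mul_mem ha (inv_mem hrB)) hrB, hH.shift_fix hg hw, one_mul]
  have hsm : ∀ (i : ZMod 2) (w : V2), cfun h u w ^ i.val = cfun h u (i * w.1, i * w.2) := by
    intro i w
    rcases (show ∀ i : ZMod 2, i = 0 ∨ i = 1 by decide) i with rfl | rfl
    · simp [cfun]
    · simp [val_one2]
  rw [e, hr, hH.shift_mul hg (pow_mem ha₀ _) (pow_mem ha₁ _), hH.shift_pow hg ha₀, hH.shift_pow hg ha₁,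
    ← hm₁, ← hm₂, hsm, hsm, ← cfun_add hp hu]
  rfl

theorem rep_unique {g : G} {m m' : V2 × V2} (hm : Rep B h u g m) (hm' : Rep B h u g m') : m = m' := by
  have key : ∀ v, app m v = app m' v := fun v => by
    obtain ⟨a, ha, ha2⟩ := hH.exists_root hn (cfun_mem hH.plane hu v)
    exact cfun_inj hH.plane hu hu1 ((hm a ha v ha2).symm.trans (hm' a ha v ha2))
  refine Prod.ext ?_ ?_
  · rw [← (app_basis m).1, ← (app_basis m').1, key]
  · rw [← (app_basis m).2, ← (app_basis m').2, key]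

theorem rep_mul {g g' : G} {m m' : V2 × V2} (hg : g ∈ T) (hg' : g' ∈ T) (hm : Rep B h u g m)
    (hm' : Rep B h u g' m') : Rep B h u (g * g') (m + m') := by
  intro a ha v hv
  have hp := hH.plane
  have e1 : shift g' a ∈ U := by rw [hm' a ha v hv]; exact cfun_mem hp hu _
  rw [app_add, cfun_add hp hu, ← hm a ha v hv, ← hm' a ha v hv]
  calc shift (g * g') a = a⁻¹ * (g * (g' * a * g'⁻¹) * g⁻¹) := by rw [shift]; group
    _ = a⁻¹ * (g * a * g⁻¹) * (g * shift g' a * g⁻¹) := by rw [conj_eq_shift g' a]; group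
    _ = _ := by rw [conj_eq_of_commute (hp.cent g hg _ e1)]; rfl

theorem rep_conj {g : G} {m : V2 × V2} (hm : Rep B h u g m) : Rep B h u (h * g * h⁻¹) (mconj m) := by
  intro a ha v hv
  have hp := hH.plane
  obtain ⟨w, rfl⟩ := (show ∀ v : V2, ∃ w, rotv w = v by decide) v
  have h1 : h⁻¹ * a * h ∈ B := hinv_symm hH.inv.hinv ha
  have h2 : h⁻¹ * a * h * (h⁻¹ * a * h) = cfun h u w := by
    rw [show h⁻¹ * a * h * (h⁻¹ * a * h) = h⁻¹ * (a * a) * h by group, hv, cfun_rot hp hu]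
    group
  rw [app_rotv, cfun_rot hp hu, ← hm _ h1 w h2, shift, shift]
  group

theorem rep_one : Rep B h u 1 0 := by
  intro a _ v _
  rw [show app (0 : V2 × V2) v = 0 by simp [app], cfun_zero hH.plane hu]
  simp [shift]

theorem rep_mem {g : G} (hg : g ∈ B) : Rep B h u g 0 := by
  intro a ha v _
  rw [show app (0 : V2 × V2) v = 0 by simp [app], cfun_zero hH.plane hu]
  exact shift_eq_one.2 (hH.comm g hg a ha)

theorem rep_zero {g : G} (hg : g ∈ T) (hm : Rep B h u g 0) : g ∈ B := by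
  refine hH.centA hn g hg fun a ha ha2 => shift_eq_one.1 ?_
  obtain ⟨v, hv⟩ := cfun_surj hH.plane hu hu1 ha2
  rw [hm a ha v hv.symm, show app (0 : V2 × V2) v = 0 by simp [app], cfun_zero hH.plane hu]

theorem rep_sq {g : G} (hg : g ∈ T) : g * g ∈ B := by
  obtain ⟨m, hm⟩ := rep_exists hH hn hu hu1 hg
  have h2 : ∀ x : V2 × V2, x + x = 0 := by decide
  have := rep_mul hH hn hu hu1 hg hg hm hm
  rw [h2] at this
  exact rep_zero hH hn hu hu1 (mul_mem hg hg) this

/-- Above exponent four the action is by idempotents. -/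
theorem rep_idem (hn3 : 3 ≤ n) {g : G} {m : V2 × V2} (hg : g ∈ T) (hm : Rep B h u g m) (v : V2) :
    app m (app m v) = app m v := by
  have hp := hH.plane
  have hg2 := rep_sq hH hn hu hu1 hg
  obtain ⟨a, ha, ha2⟩ := hH.exists_root hn (cfun_mem hp hu v)
  have ha4 : a ^ 2 ^ 2 = 1 := by
    rw [← four_eq, ha2]; exact hp.sq _ (cfun_mem hp hu v)
  obtain ⟨b, hb, hba⟩ := hH.roots 2 (by omega) a ha ha4
  set e := shift g b with he
  have heB := hH.shift_mem hg hb
  have hep : e ^ 2 ^ (n - 2) = cfun h u (app m v) := by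
    rw [he, ← hH.shift_pow hg hb, hba, hm a ha v ha2]
  obtain ⟨c, hc, hce⟩ := hH.roots (n - 1) (by omega) e heB (by
    rw [show n - 1 = n - 2 + 1 by omega, pow_succ, pow_mul, hep, pow_two]; exact hp.sq _ (cfun_mem hp hu _))
  rw [show n - (n - 1) = 1 by omega, pow_one] at hce
  have h1 : e * e * shift g e = 1 := by
    have e1 := hH.comm (g * g) hg2 b hb
    have h1 : b = b * (e * (e * shift g e)) := by
      calc b = g * g * b * (g * g)⁻¹ := (conj_eq_of_commute e1).symm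
        _ = g * (g * b * g⁻¹) * g⁻¹ := by group
        _ = g * (b * e) * g⁻¹ := by rw [conj_eq_shift g b]
        _ = g * b * g⁻¹ * (g * e * g⁻¹) := by group
        _ = _ := by rw [conj_eq_shift g b, conj_eq_shift g e, ← he]; group
    rw [mul_assoc]; exact mul_eq_left.1 h1.symm
  set w := c ^ 2 * shift g c with hw
  have hw2 : w * w = 1 := by
    rw [hw, (hH.comm _ (hH.shift_mem hg hc) _ (pow_mem hc 2)).mul_mul_mul_comm, hce,
      ← hH.shift_mul hg hc hc, ← pow_two c, hce, h1]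
  have hwU : w ∈ U := hH.omega _ (mul_mem (pow_mem hc 2) (hH.shift_mem hg hc)) hw2
  set a' := c ^ 2 ^ (n - 2) with ha'
  have ha'2 : a' * a' = cfun h u (app m v) := by
    rw [ha', ← (Commute.refl c).mul_pow, ← pow_two c, hce, hep]
  have h3 : w ^ 2 ^ (n - 2) = 1 := by
    obtain ⟨k, hk⟩ : ∃ k, 2 ^ (n - 2) = 2 * k := ⟨2 ^ (n - 3), by rw [← pow_succ']; congr 1; omega⟩
    rw [hk, pow_mul, pow_two, hp.sq _ hwU, one_pow]
  rw [hw, (hH.comm _ (pow_mem hc 2) _ (hH.shift_mem hg hc)).mul_pow, hce, hep, ← hH.shift_pow hg hc, ← ha',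
    hm a' (pow_mem hc _) _ ha'2, ← cfun_add hp hu] at h3
  have h4 := cfun_eq_one hp hu hu1 h3
  have h5 : ∀ x y : V2, x + y = 0 → y = x := by decide
  exact h5 _ _ h4

/-- A fixed non-trivial action is inversion. -/
theorem rep_fixed {g : G} {m : V2 × V2} (hg : g ∈ T) (hm : Rep B h u g m) (hfix : mconj m = m) (hm0 : m ≠ 0) :
    m = mone ∧ ∃ t ∈ T, t ∉ B ∧ t * t = 1 ∧ Rep B h u t mone := by
  have hp := hH.plane
  have hy := hp.hy
  have hh : h * g * h⁻¹ ∈ T := hy.norm g hg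
  have hgh : g⁻¹ * (h * g * h⁻¹) ∈ B := by
    obtain ⟨m', hm'⟩ := rep_exists hH hn hu hu1 (mul_mem (inv_mem hg) hh)
    have h1 := rep_mul hH hn hu hu1 hg (mul_mem (inv_mem hg) hh) hm hm'
    rw [mul_inv_cancel_left] at h1
    have h2 := rep_unique hH hn hu hu1 h1 (hfix ▸ rep_conj hH hn hu hu1 hm)
    rw [add_eq_left] at h2
    exact rep_zero hH hn hu hu1 (mul_mem (inv_mem hg) hh) (h2 ▸ hm')
  obtain ⟨b, hb, hc⟩ := hy.exists_fixed hH.inv.le hH.inv.hinv hgh
  set t := g * b with ht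
  have htT : t ∈ T := mul_mem hg (hH.inv.le hb)
  have htm : Rep B h u t m := by
    have := rep_mul hH hn hu hu1 hg (hH.inv.le hb) hm (rep_mem hH hn hu hu1 hb)
    rwa [add_zero] at this
  have htB : t ∉ B := fun htB => hm0 (rep_unique hH hn hu hu1 htm (rep_mem hH hn hu hu1 htB))
  have ht2 : t * t = 1 := hH.fixone _ (rep_sq hH hn hu hu1 htT) (hc.mul_right hc)
  suffices hone : m = mone from ⟨hone, t, htT, htB, ht2, hone ▸ htm⟩
  rcases (by omega : n = 2 ∨ 3 ≤ n) with h2 | hn3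
  · subst h2
    by_contra hne
    refine hy.no_eight hp.inv.le hp.card hp.inv.nrm (fun a ha b hb => hp.cent a (hp.inv.le ha) b hb) hp.sq htT ht2
      (fun htU => htB (hH.le htU)) (fun a ha => hp.cent t htT a ha) fun g' hg' => ?_
    set z := g' * t * g'⁻¹ * t⁻¹ with hz
    have hzB : z ∈ B := by
      have hzT : z ∈ T := mul_mem (mul_mem (mul_mem hg' htT) (inv_mem hg')) (inv_mem htT)
      obtain ⟨m', hm'⟩ := rep_exists hH hn hu hu1 hg'
      obtain ⟨k, hk⟩ := rep_exists hH hn hu hu1 hzT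
      have h1 := rep_mul hH hn hu hu1 (mul_mem hzT htT) hg' (rep_mul hH hn hu hu1 hzT htT hk htm) hm'
      rw [show z * t * g' = g' * t by rw [hz]; group] at h1
      have h2 := rep_unique hH hn hu hu1 h1 (rep_mul hH hn hu hu1 hg' htT hm' htm)
      rw [add_assoc, add_comm m m', add_eq_right] at h2
      exact rep_zero hH hn hu hu1 hzT (h2 ▸ hk)
    have hz2 : z * z ∈ U := hH.omega _ (mul_mem hzB hzB) (by rw [four_eq]; exact hH.exp z hzB)
    have h1 : z * z * shift t z = 1 := by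
      rw [mul_assoc, ← conj_eq_shift, inv_eq_of_mul_eq_one_right ht2]
      calc z * (t * z * t) = (z * t) * (z * t) := by group
        _ = g' * (t * t) * g'⁻¹ := by rw [hz]; group
        _ = 1 := by rw [ht2]; group
    by_contra hzU
    obtain ⟨v, hv⟩ := cfun_surj hp hu hu1 hz2
    rw [htm z hzB v hv.symm, ← hv, ← cfun_add hp hu] at h1
    have h5 : ∀ x y : V2, x + y = 0 → y = x := by decide
    refine hne (eq_mone_of_fix m hfix v (fun e => hzU (hH.omega z hzB ?_)) (h5 _ _ (cfun_eq_one hp hu hu1 h1)))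
    rw [← hv, e, cfun_zero hp hu]
  · have hidem := rep_idem hH hn hu hu1 hn3 hg hm
    obtain ⟨v, hv⟩ : ∃ v, app m v ≠ 0 := by
      by_contra hall
      push Not at hall
      exact hm0 (Prod.ext ((app_basis m).1.symm.trans (hall _)) ((app_basis m).2.symm.trans (hall _)))
    exact eq_mone_of_fix m hfix _ hv (hidem v)

/-- Inversion on the elements of order four. -/
theorem rep_mone_conj {g a : G} (hm : Rep B h u g mone) (ha : a ∈ B) (ha2 : a * a ∈ U) : g * a * g⁻¹ = a⁻¹ := by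
  obtain ⟨v, hv⟩ := cfun_surj hH.plane hu hu1 ha2
  rw [conj_eq_shift, hm a ha v hv.symm, app_mone, hv]
  refine eq_inv_of_mul_eq_one_left ?_
  calc a * (a * a) * a = a * a * (a * a) := by group
    _ = 1 := hH.plane.sq _ ha2

end

end Cfsg.Agent.NormalRankTwo
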