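import Mathlib
import Cfsg.Agent.Lib.Involutions.ThompsonTransfer
import Cfsg.Agent.Lib.FixityFour.Shape

/-!
# An abelian subgroup of index two inverted by an outer involution

Its involutions cannot absorb the outer ones.
-/

set_option autoImplicit false
set_option linter.style.haveILetI false
set_option linter.unusedSectionVars false

namespace Cfsg.Agent.NormalRankTwo

open Subgroup

variable {G : Type*} [Group G] [Finite G]

theorem mem_normalizer_of_conj_le {K : Subgroup G} {g : G} (hK : ∀ y ∈ K, g * y * g⁻¹ ∈ K) :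
    g ∈ normalizer (K : Set G) := by
  have hmap : K.map (MulAut.conj g).toMonoidHom = K :=
    eq_of_le_of_card_ge (by rintro _ ⟨y, hy, rfl⟩; exact hK y hy)
      (by rw [card_map_of_injective (MulAut.conj g).injective])
  refine mem_normalizer_iff.2 fun y => ⟨hK y, fun hy => ?_⟩
  rw [← hmap] at hy
  obtain ⟨w, hw, hwe⟩ := hy
  exact ((MulAut.conj g).injective hwe : w = y) ▸ hw

/-- An outer involution inverting an abelian subgroup of index two gives a subgroup of index two of `G`. -/
theorem inv_fusion (hG : ∀ H : Subgroup G, H.index ≠ 2) (T : Sylow 2 G) {B U : Subgroup G}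
    (hBT : B ≤ (T : Subgroup G)) (hrel : B.relIndex (T : Subgroup G) = 2) (hUB : U ≤ B) (hU4 : Nat.card U = 4)
    (hU2 : ∀ u ∈ U, u * u = 1) (hUinv : ∀ b ∈ B, b * b = 1 → b ∈ U)
    (hUc : ∀ g ∈ (T : Subgroup G), ∀ u ∈ U, Commute g u) (h8 : 8 < Nat.card (T : Subgroup G))
    (hcent : ∀ t ∈ (T : Subgroup G), t * t = 1 → t ∉ B → ∀ b ∈ B, Commute b t → b ∈ U)
    {t : G} (htT : t ∈ (T : Subgroup G)) (ht2 : t * t = 1) (htB : t ∉ B)
    (hroot : ∀ c ∈ U, ∃ a ∈ (T : Subgroup G), a * t * a⁻¹ = t * c) : False := by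
  classical
  haveI : Fact (Nat.Prime 2) := ⟨Nat.prime_two⟩
  have hti : t⁻¹ = t := inv_eq_of_mul_eq_one_right ht2
  have ht1 : t ≠ 1 := fun e => htB (e ▸ B.one_mem)
  have htU : t ∉ U := fun e => htB (hUB e)
  have htc : ∀ u ∈ U, Commute t u := hUc t htT
  -- `t` is conjugate to an involution of `U`
  obtain ⟨m₀, hm₀⟩ := Involutions.ThompsonTransfer.exists_conj_mem hG T B hBT hrel t
    (orderOf_eq_prime (by rw [pow_two]; exact ht2) ht1)
  set u₀ := m₀ * t * m₀⁻¹ with hu₀
  have hu₀U : u₀ ∈ U := hUinv _ hm₀ (by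
    rw [hu₀, show m₀ * t * m₀⁻¹ * (m₀ * t * m₀⁻¹) = m₀ * (t * t) * m₀⁻¹ by group, ht2]; group)
  -- the elementary group of order eight
  let E : Subgroup G :=
    { carrier := {y | y ∈ U ∨ y * t ∈ U}
      one_mem' := Or.inl U.one_mem
      mul_mem' := by
        rintro a b (ha | ha) (hb | hb)
        · exact Or.inl (mul_mem ha hb)
        · exact Or.inr (by rw [mul_assoc]; exact mul_mem ha hb)
        · refine Or.inr ?_
          rw [mul_assoc, ← (htc b hb).eq, ← mul_assoc]
          exact mul_mem ha hb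
        · refine Or.inl ?_
          have hb' : Commute t b := by
            have := (htc _ hb).mul_right ((Commute.refl t).inv_right)
            rwa [mul_inv_cancel_right] at this
          have : a * b = (a * t) * (b * t) := by
            calc a * b = a * (t * t) * b := by rw [ht2, mul_one]
              _ = (a * t) * (b * t) := by rw [← hb'.eq]; group
          rw [this]
          exact mul_mem ha hb
      inv_mem' := by
        rintro a (ha | ha)
        · exact Or.inl (inv_mem ha)
        · refine Or.inr ?_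
          have : a⁻¹ * t = (a * t)⁻¹ := by
            have hc : Commute t a := by
              have := (htc _ ha).mul_right ((Commute.refl t).inv_right)
              rwa [mul_inv_cancel_right] at this
            rw [mul_inv_rev, hti, hc.inv_right.eq]
          rw [this]
          exact inv_mem ha }
  have hUE : U ≤ E := fun y hy => Or.inl hy
  have htE : t ∈ E := Or.inr (by rw [ht2]; exact U.one_mem)
  have hcases : ∀ y ∈ E, ∃ u ∈ U, y = u ∨ y = u * t := by
    rintro y (hy | hy)
    · exact ⟨y, hy, Or.inl rfl⟩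
    · exact ⟨y * t, hy, Or.inr (by rw [mul_assoc, ht2, mul_one])⟩
  have hET : E ≤ (T : Subgroup G) := fun y hy => by
    obtain ⟨u, hu, rfl | rfl⟩ := hcases y hy
    exacts [hBT (hUB hu), mul_mem (hBT (hUB hu)) htT]
  have hEc : E ≤ centralizer ({t} : Set G) := fun y hy => by
    refine mem_centralizer_singleton_iff.2 ?_
    obtain ⟨u, hu, rfl | rfl⟩ := hcases y hy
    exacts [(htc y hu).symm.eq, ((htc u hu).symm.mul_left (Commute.refl t)).eq]
  have hE8 : Nat.card E ≤ 8 := by
    rw [← SetLike.coe_sort_coe, Nat.card_coe_set_eq]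
    have hsub : (E : Set G) ⊆ (U : Set G) ∪ (· * t) '' (U : Set G) := fun y hy => by
      obtain ⟨u, hu, rfl | rfl⟩ := hcases y hy
      exacts [Or.inl hu, Or.inr ⟨u, hu, rfl⟩]
    refine (Set.ncard_le_ncard hsub (Set.toFinite _)).trans ((Set.ncard_union_le _ _).trans ?_)
    rw [Set.ncard_image_of_injective _ (mul_left_injective t), ← Nat.card_coe_set_eq, SetLike.coe_sort_coe, hU4]
  -- two-elements normalising `U` centralise it
  have hfix : ∀ {g : G}, IsPGroup 2 (zpowers g) → g ∈ normalizer (U : Set G) → ∀ u ∈ U, Commute g u := by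
    intro g hg hgN u hu
    obtain ⟨n, hn, hnT⟩ := FixityFour.conj_into T (M := normalizer (U : Set G))
      (fun s hs => mem_normalizer_of_conj_le fun v hv => by rw [(hUc s hs v hv).eq, mul_inv_cancel_right]; exact hv)
      (zpowers_le.2 hgN) hg
    have h1 := hUc _ (hnT g (mem_zpowers g)) (n * u * n⁻¹) ((mem_normalizer_iff.1 hn u).1 hu)
    have h2 := h1.map (MulAut.conj n⁻¹).toMonoidHom
    simpa [mul_assoc] using h2
  -- a Sylow subgroup of the centraliser of `t`
  set C := centralizer ({t} : Set G) with hC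
  obtain ⟨Q, hQ⟩ := ((T.isPGroup'.to_le hET).comap_of_injective C.subtype C.subtype_injective :
    IsPGroup 2 (E.subgroupOf C)).exists_le_sylow
  set Q' := (Q : Subgroup C).map C.subtype with hQ'
  have hEQ : E ≤ Q' := fun s hs => mem_map.2 ⟨⟨s, hEc hs⟩, hQ hs, rfl⟩
  have hQp : IsPGroup 2 Q' := Q.isPGroup'.map _
  have hQne : E ≠ Q' := by
    intro e
    set T' := (T : Subgroup G).map (MulAut.conj m₀⁻¹).toMonoidHom
    have hT'C : T' ≤ C := by
      rintro _ ⟨s, hs, rfl⟩
      refine mem_centralizer_singleton_iff.2 ?_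
      have h2 := (hUc s hs u₀ hu₀U).map (MulAut.conj m₀⁻¹).toMonoidHom
      have e' : (MulAut.conj m₀⁻¹).toMonoidHom u₀ = t := by
        show m₀⁻¹ * (m₀ * t * m₀⁻¹) * m₀⁻¹⁻¹ = t
        group
      rw [e'] at h2
      exact h2.eq
    obtain ⟨m, -, hm⟩ := FixityFour.conj_into Q (M := ⊤) le_top (le_top : T'.subgroupOf C ≤ ⊤)
      ((T.isPGroup'.map _).comap_of_injective C.subtype C.subtype_injective)
    have h1 : Nat.card T' ≤ Nat.card Q' := by
      rw [← Nat.card_congr (subgroupOfEquivOfLe hT'C).toEquiv,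
        ← card_map_of_injective (K := T'.subgroupOf C) (f := (MulAut.conj m).toMonoidHom) (MulAut.conj m).injective,
        hQ', card_map_of_injective C.subtype_injective]
      exact card_le_of_le (by rintro _ ⟨y, hy', rfl⟩; exact hm y hy')
    rw [card_map_of_injective (MulAut.conj m₀⁻¹).injective, ← e] at h1
    omega
  obtain ⟨y, hyQ, hyE, hyn, hyn'⟩ := FixityFour.exists_normalizing hQp hEQ hQne
  by_cases hyU : y ∈ normalizer (U : Set G)
  · -- a two-group centralising `U` and `t` of order above eight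
    set Y := Q' ⊓ centralizer (U : Set G)
    have hEY : E ≤ Y := fun e he => mem_inf.2 ⟨hEQ he, fun u hu => (hUc e (hET he) u hu).symm.eq⟩
    have hyY : y ∈ Y := mem_inf.2 ⟨hyQ, fun u hu => (hfix (hQp.to_le (zpowers_le.2 hyQ)) hyU u hu).symm.eq⟩
    obtain ⟨m, hm, hmY⟩ := FixityFour.conj_into T (M := centralizer (U : Set G))
      (fun s hs u hu => (hUc s hs u hu).symm.eq) (inf_le_right : Y ≤ _) (hQp.to_le inf_le_left)
    set t' := m * t * m⁻¹ with ht'
    have ht'T : t' ∈ (T : Subgroup G) := hmY t (hEY htE)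
    have ht'2 : t' * t' = 1 := by
      rw [ht', show m * t * m⁻¹ * (m * t * m⁻¹) = m * (t * t) * m⁻¹ by group, ht2]; group
    have ht'B : t' ∉ B := fun h1 => by
      have h2 := hUinv t' h1 ht'2
      have h3 : t = t' := by
        calc t = m⁻¹ * t' * m := by rw [ht']; group
          _ = t' := by rw [mul_assoc, (hm t' h2 : t' * m = m * t'), inv_mul_cancel_left]
      exact htB (h3 ▸ h1)
    set W := (T : Subgroup G) ⊓ centralizer ({t'} : Set G)
    have hW : Nat.card W ≤ 8 := by
      rw [← SetLike.coe_sort_coe, Nat.card_coe_set_eq]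
      have hsub : (W : Set G) ⊆ (U : Set G) ∪ (· * t') '' (U : Set G) := by
        intro g hg
        have hgT := (mem_inf.1 hg).1
        have hgc : Commute g t' := mem_centralizer_singleton_iff.1 (mem_inf.1 hg).2
        by_cases hgB : g ∈ B
        · exact Or.inl (hcent t' ht'T ht'2 ht'B g hgB hgc)
        · have hgt : g * t' ∈ B := mem_subgroupOf.1 ((mul_mem_iff_of_index_two (H := B.subgroupOf (T : Subgroup G))
            hrel (a := ⟨g, hgT⟩) (b := ⟨t', ht'T⟩)).2 ⟨fun h1 => absurd h1 hgB, fun h1 => absurd h1 ht'B⟩)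
          exact Or.inr ⟨g * t', hcent t' ht'T ht'2 ht'B _ hgt (hgc.mul_left (Commute.refl t')),
            by show g * t' * t' = g; rw [mul_assoc, ht'2, mul_one]⟩
      refine (Set.ncard_le_ncard hsub (Set.toFinite _)).trans ((Set.ncard_union_le _ _).trans ?_)
      rw [Set.ncard_image_of_injective _ (mul_left_injective t'), ← Nat.card_coe_set_eq, SetLike.coe_sort_coe, hU4]
    have h3 : Nat.card Y ≤ Nat.card W := by
      rw [← card_map_of_injective (K := Y) (f := (MulAut.conj m).toMonoidHom) (MulAut.conj m).injective]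
      refine card_le_of_le ?_
      rintro _ ⟨w, hw, rfl⟩
      refine mem_inf.2 ⟨hmY w hw, mem_centralizer_singleton_iff.2 ?_⟩
      have h0 : Commute w t := mem_centralizer_singleton_iff.1 (map_subtype_le _ (mem_inf.1 hw).1)
      exact (h0.map (MulAut.conj m).toMonoidHom).eq
    have h4 : Nat.card E < Nat.card Y := lt_of_le_of_ne (card_le_of_le hEY) fun e => hyE
      ((eq_of_le_of_card_ge hEY e.ge).symm ▸ hyY)
    have h5 : 8 ≤ Nat.card E := by
      have h6 : Nat.card U < Nat.card E := lt_of_le_of_ne (card_le_of_le hUE) fun e =>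
        htU ((eq_of_le_of_card_ge hUE e.ge).symm ▸ htE)
      obtain ⟨k, hk⟩ := IsPGroup.iff_card.1 (T.isPGroup'.to_le hET)
      rw [hU4, hk] at h6
      rw [hk]
      have : 3 ≤ k := by
        by_contra hlt
        have := Nat.pow_le_pow_right (show 0 < 2 by norm_num) (show k ≤ 2 by omega)
        omega
      exact Nat.pow_le_pow_right (show 0 < 2 by norm_num) this
    omega
  -- `U` meets its conjugate
  obtain ⟨c, hc, hc1, hyc⟩ : ∃ c ∈ U, c ≠ 1 ∧ y * c * y⁻¹ ∈ U := by
    by_contra hall
    push Not at hall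
    have hinj : Function.Injective fun q : U × U => (⟨y * q.1 * y⁻¹ * q.2,
        mul_mem (hyn _ (hUE q.1.2)) (hUE q.2.2)⟩ : E) := by
      rintro ⟨a, b⟩ ⟨a', b'⟩ e
      have e' : y * a * y⁻¹ * b = y * a' * y⁻¹ * b' := congrArg Subtype.val e
      have h1 : y * ((a' : G)⁻¹ * a) * y⁻¹ = (b' : G) * (b : G)⁻¹ := by
        calc y * ((a' : G)⁻¹ * a) * y⁻¹ = (y * a' * y⁻¹)⁻¹ * (y * a * y⁻¹ * b) * (b : G)⁻¹ := by group
          _ = _ := by rw [e']; group
      have h2 : (a' : G)⁻¹ * a = 1 := by
        by_contra hne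
        exact hall _ (mul_mem (inv_mem a'.2) a.2) hne (h1 ▸ mul_mem b'.2 (inv_mem b.2))
      have ha : (a' : G) = a := inv_mul_eq_one.1 h2
      rw [ha] at e'
      exact Prod.ext (Subtype.ext ha.symm) (Subtype.ext (mul_left_cancel e'))
    have h1 := Nat.card_le_card_of_injective _ hinj
    rw [Nat.card_prod, hU4] at h1
    omega
  obtain ⟨a, haT, hat⟩ := hroot c hc
  have hyfix : ∀ x ∈ E, a * x * a⁻¹ = x ∨ (a * x * a⁻¹ = x * c ∧ x ∉ U) := by
    intro x hx
    obtain ⟨u, hu, rfl | rfl⟩ := hcases x hx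
    · exact Or.inl (by rw [(hUc a haT x hu).eq, mul_inv_cancel_right])
    · refine Or.inr ⟨?_, fun h1 => htU ((mul_mem_cancel_left hu).1 h1)⟩
      rw [show a * (u * t) * a⁻¹ = a * u * a⁻¹ * (a * t * a⁻¹) by group, hat, (hUc a haT u hu).eq,
        mul_inv_cancel_right, mul_assoc]
  set g := y * a * y⁻¹ with hg
  have hgN : g ∈ normalizer (U : Set G) := mem_normalizer_of_conj_le fun x hx => by
    rw [hg, show y * a * y⁻¹ * x * (y * a * y⁻¹)⁻¹ = y * (a * (y⁻¹ * x * y) * a⁻¹) * y⁻¹ by group]
    rcases hyfix _ (hyn' x (hUE hx)) with e | ⟨e, -⟩ <;> rw [e]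
    · rw [show y * (y⁻¹ * x * y) * y⁻¹ = x by group]; exact hx
    · rw [show y * (y⁻¹ * x * y * c) * y⁻¹ = x * (y * c * y⁻¹) by group]; exact mul_mem hx hyc
  have hg2 : IsPGroup 2 (zpowers g) := by
    rw [hg, show y * a * y⁻¹ = (MulAut.conj y).toMonoidHom a from rfl, ← MonoidHom.map_zpowers]
    exact (T.isPGroup'.to_le (zpowers_le.2 haT)).map _
  refine hyU ?_
  have hy' : y⁻¹ ∈ normalizer (U : Set G) := mem_normalizer_of_conj_le fun x hx => by
    rw [inv_inv]
    rcases hyfix _ (hyn' x (hUE hx)) with e | ⟨e, -⟩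
    · by_contra hne
      obtain ⟨u, hu, e' | e'⟩ := hcases _ (hyn' x (hUE hx))
      · exact hne (e' ▸ hu)
      · rw [e', show a * (u * t) * a⁻¹ = a * u * a⁻¹ * (a * t * a⁻¹) by group, hat, (hUc a haT u hu).eq,
          mul_inv_cancel_right, ← mul_assoc] at e
        exact hc1 (mul_eq_left.1 e)
    · exfalso
      have h1 := (hfix hg2 hgN x hx)
      have h2 : y⁻¹ * x * y * c = y⁻¹ * x * y := by
        calc y⁻¹ * x * y * c = a * (y⁻¹ * x * y) * a⁻¹ := e.symm
          _ = y⁻¹ * (g * x * g⁻¹) * y := by rw [hg]; group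
          _ = _ := by rw [h1.eq, mul_inv_cancel_right]
      exact hc1 (mul_eq_left.1 h2)
  simpa using inv_mem hy'

end Cfsg.Agent.NormalRankTwo
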