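import Mathlib
import Cfsg.Agent.Lib.NormalRankTwo.HomocyclicAction
import Cfsg.Agent.Lib.NormalRankTwo.InvFusion
import Cfsg.Agent.S0949

/-!
# The order of `T` when a central four-group is moved
-/

set_option autoImplicit false
set_option linter.style.haveILetI false
set_option linter.unusedSectionVars false

namespace Cfsg.Agent.NormalRankTwo

open Subgroup

variable {G : Type*} [Group G] [Finite G] {h : G} {n : ℕ}

theorem index_ne_two [IsSimpleGroup G] (hna : ¬ IsMulCommutative G) (H : Subgroup G) : H.index ≠ 2 := by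
  intro h2
  rcases IsSimpleGroup.eq_bot_or_eq_top_of_normal H (normal_of_index_eq_two h2) with rfl | rfl
  · rw [index_bot] at h2
    haveI : Fact (Nat.Prime 2) := ⟨Nat.prime_two⟩
    exact hna (isCyclic_of_prime_card (p := 2) h2).isMulCommutative
  · rw [index_top] at h2
    omega

theorem eq_bot_of_odd [IsSimpleGroup G] {k : ℕ} (T : Subgroup G) (hk : 1 ≤ k) (hT : Nat.card T = 4 ^ k)
    (N : Subgroup G) (hN : N.Normal) (ho : Odd (Nat.card N)) : N = ⊥ := by
  rcases IsSimpleGroup.eq_bot_or_eq_top_of_normal N hN with e | e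
  · exact e
  · exfalso
    subst e
    rw [card_top] at ho
    have h1 : 2 ∣ Nat.card G := ((dvd_pow (by norm_num : 2 ∣ 4) (by omega : k ≠ 0)).trans hT.symm.dvd).trans
      (card_subgroup_dvd_card T)
    obtain ⟨r, hr⟩ := ho
    omega

theorem mone_facts : mone + mone = 0 ∧ mconj mone = mone ∧ mone ≠ 0 := by decide

/-- A fixed map other than the identity. -/
theorem exists_other : ∃ k : V2 × V2, mconj k = k ∧ k ≠ 0 ∧ k ≠ mone := ⟨((0, 1), (1, 1)), by decide⟩

/-- The order of `T` when some plane exists. -/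
theorem Plane.card_sylow [IsSimpleGroup G] (hna : ¬ IsMulCommutative G) (T : Sylow 2 G) {U : Subgroup G}
    (hp : Plane (T : Subgroup G) h U) :
    Nat.card (T : Subgroup G) = 4 ∨ Nat.card (T : Subgroup G) = 64 ∨ Nat.card (T : Subgroup G) = 128 := by
  classical
  haveI : Fact (Nat.Prime 2) := ⟨Nat.prime_two⟩
  obtain ⟨B, n, hH⟩ := hp.exists_homo
  have hy := hp.hy
  by_cases hn1 : n = 1
  · left
    have hBU : B ≤ U := fun b hb => hH.omega b hb (by
      have := hH.exp b hb
      rw [hn1, pow_one, pow_two] at this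
      exact this)
    have e : (T : Subgroup G) = B :=
      le_antisymm (fun g hg => hH.self g hg fun b hb => hp.cent g hg b (hBU hb)) hH.inv.le
    rw [e, hH.card, hn1, pow_one]
  have hn : 2 ≤ n := by have := hH.pos; omega
  obtain ⟨u, hu, hu1⟩ : ∃ u ∈ U, u ≠ 1 := by
    by_contra hall
    push Not at hall
    have h4 := hp.card
    rw [(Subgroup.eq_bot_iff_forall U).2 hall, card_bot] at h4
    omega
  have rexists := fun g (hg : g ∈ (T : Subgroup G)) => rep_exists hH hn hu hu1 hg
  by_cases hall : ∀ g ∈ (T : Subgroup G), g ∉ B → Rep B h u g mone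
  · exfalso
    have hrel : B.relIndex (T : Subgroup G) ≤ 2 := relIndex_le_two fun a ha haB b hb hbB => by
      refine rep_zero hH hn hu hu1 (mul_mem ha hb) ?_
      exact mone_facts.1 ▸ rep_mul hH hn hu hu1 ha hb (hall a ha haB) (hall b hb hbB)
    by_cases hTB : (T : Subgroup G) ≤ B
    · have e : (T : Subgroup G) = B := le_antisymm hTB hH.inv.le
      obtain ⟨ψ⟩ := hH.iso
      obtain ⟨hnorm, -, -⟩ := Cfsg.Agent.S0949.result T n hn ((MulEquiv.subgroupCongr e).trans ψ)
        (eq_bot_of_odd (T : Subgroup G) hH.pos (by rw [e]; exact hH.card))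
      rcases IsSimpleGroup.eq_bot_or_eq_top_of_normal _ hnorm with e1 | e1
      · exact hu1 (mem_bot.1 (e1 ▸ hp.inv.le hu))
      · have hmem : ∀ x : G, x ∈ B := fun x => hTB (e1 ▸ mem_top x)
        exact hna ⟨⟨fun a b => (hH.comm a (hmem a) b (hmem b)).eq⟩⟩
    obtain ⟨g, hg, hgB⟩ := SetLike.not_le_iff_exists.1 hTB
    obtain ⟨-, t, htT, htB, ht2, htm⟩ := rep_fixed hH hn hu hu1 hg (hall g hg hgB) mone_facts.2.1 mone_facts.2.2
    have hinv : ∀ x ∈ (T : Subgroup G), x ∉ B → ∀ a ∈ B, a * a ∈ U → x * a * x⁻¹ = a⁻¹ := fun x hx hxB a ha ha2 =>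
      rep_mone_conj hH hn hu hu1 (hall x hx hxB) ha ha2
    have hne1 : B.relIndex (T : Subgroup G) ≠ 1 := fun e => hTB (relIndex_eq_one.1 e)
    have hne0 : B.relIndex (T : Subgroup G) ≠ 0 := index_ne_zero_of_finite
    have hr2 : B.relIndex (T : Subgroup G) = 2 := by omega
    have hti : t⁻¹ = t := inv_eq_of_mul_eq_one_right ht2
    rcases (by omega : n = 2 ∨ 3 ≤ n) with h2 | hn3
    · refine hy.no_eight hp.inv.le hp.card hp.inv.nrm (fun a ha b hb => hp.cent a (hp.inv.le ha) b hb) hp.sq htT ht2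
        (fun htU => htB (hH.le htU)) (fun a ha => hp.cent t htT a ha) fun x hx => ?_
      have hB2 : ∀ b ∈ B, b * b ∈ U := fun b hb => hH.omega _ (mul_mem hb hb) (by
        rw [four_eq]
        have := hH.exp b hb
        rwa [h2] at this)
      have key : ∀ b ∈ B, b * t * b⁻¹ * t⁻¹ ∈ U := fun b hb => by
        rw [show b * t * b⁻¹ * t⁻¹ = b * (t * b⁻¹ * t⁻¹) by group,
          hinv t htT htB _ (inv_mem hb) (hB2 _ (inv_mem hb)), inv_inv]
        exact hB2 b hb
      by_cases hxB : x ∈ B
      · exact key x hxB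
      · have hb : x * t ∈ B := mul_mem_of_relIndex_two hr2 hx htT hxB htB
        have := key _ hb
        rwa [show x * t * t * (x * t)⁻¹ * t⁻¹ = x * t * x⁻¹ * t⁻¹ by group] at this
    · have hc8 : 8 < Nat.card (T : Subgroup G) := by
        have h1 : Nat.card B ∣ Nat.card (T : Subgroup G) := card_dvd_of_le hH.inv.le
        have h3 : 4 ^ 3 ≤ Nat.card B := hH.card ▸ Nat.pow_le_pow_right (by norm_num) hn3
        have := Nat.le_of_dvd Nat.card_pos h1
        omega
      refine inv_fusion (index_ne_two hna) T hH.inv.le hr2 hH.le hp.card hp.sq hH.omega hp.cent hc8 ?_ htT ht2 htB ?_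
      · intro x hx _ hxB b hb hbx
        suffices hk : ∀ k, ∀ b ∈ B, Commute b x → b ^ 2 ^ k = 1 → b * b = 1 from
          hH.omega b hb (hk n b hb hbx (hH.exp b hb))
        intro k
        induction k with
        | zero => intro b _ _ e; rw [pow_zero, pow_one] at e; rw [e, one_mul]
        | succ k ih =>
          intro b hb hbx e
          rw [pow_succ', pow_mul, pow_two] at e
          have hbb := ih (b * b) (mul_mem hb hb) (hbx.mul_left hbx) e
          have h1 := hinv x hx hxB b hb (hH.omega _ (mul_mem hb hb) hbb)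
          rw [conj_eq_of_commute hbx.symm] at h1
          exact mul_eq_one_iff_eq_inv.2 h1
      · intro c hc
        obtain ⟨a, ha, ha2⟩ := hH.exists_root hn hc
        refine ⟨a, hH.inv.le ha, ?_⟩
        have h1 := hinv t htT htB a ha (by rw [ha2]; exact hc)
        calc a * t * a⁻¹ = t * (t * a * t⁻¹) * a⁻¹ := by
              rw [show t * (t * a * t⁻¹) = (t * t) * a * t⁻¹ by group, ht2, hti, one_mul]
          _ = t * (a * a)⁻¹ := by rw [h1]; group
          _ = t * c := by rw [ha2, inv_eq_of_mul_eq_one_right (hp.sq c hc)]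
  -- some element does not commute with `h` modulo `B`
  right
  push Not at hall
  obtain ⟨g, hg, hgB, hgm⟩ := hall
  obtain ⟨m, hm⟩ := rexists g hg
  have hm0 : m ≠ 0 := fun e => hgB (rep_zero hH hn hu hu1 hg (e ▸ hm))
  have hmove : mconj m ≠ m := fun e => hgm ((rep_fixed hH hn hu hu1 hg hm e hm0).1 ▸ hm)
  have hn2 : n = 2 := by
    by_contra hne
    have hn3 : 3 ≤ n := by omega
    have hg' : h * g * h⁻¹ ∈ (T : Subgroup G) := hy.norm g hg
    exact hmove (mconj_eq_of_idem m (rep_idem hH hn hu hu1 hn3 hg hm)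
      (rep_idem hH hn hu hu1 hn3 hg' (rep_conj hH hn hu hu1 hm))
      (rep_idem hH hn hu hu1 hn3 (mul_mem hg hg')
        (rep_mul hH hn hu hu1 hg hg' hm (rep_conj hH hn hu hu1 hm))))
  -- the image of `T`
  choose φ hφ using fun x : (T : Subgroup G) => rexists x x.2
  let Φ : (T : Subgroup G) →* Multiplicative (V2 × V2) :=
    { toFun := fun x => Multiplicative.ofAdd (φ x)
      map_one' := congrArg Multiplicative.ofAdd (rep_unique hH hn hu hu1 (hφ 1) (rep_one hH hn hu hu1))
      map_mul' := fun x y => congrArg Multiplicative.ofAdd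
        (rep_unique hH hn hu hu1 (hφ (x * y)) (rep_mul hH hn hu hu1 x.2 y.2 (hφ x) (hφ y))) }
  have hker : Φ.ker = B.subgroupOf (T : Subgroup G) := by
    ext x
    refine ⟨fun hx => ?_, fun hx => ?_⟩
    · have hx' : φ x = 0 := congrArg Multiplicative.toAdd (MonoidHom.mem_ker.1 hx)
      exact mem_subgroupOf.2 (rep_zero hH hn hu hu1 x.2 (hx' ▸ hφ x))
    · exact MonoidHom.mem_ker.2 (congrArg Multiplicative.ofAdd
        (rep_unique hH hn hu hu1 (hφ x) (rep_mem hH hn hu hu1 (mem_subgroupOf.1 hx))))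
  have hcard := Φ.ker.card_mul_index
  rw [index_ker, hker, Nat.card_congr (subgroupOfEquivOfLe hH.inv.le).toEquiv, hH.card, hn2] at hcard
  have h16 : Nat.card (Multiplicative (V2 × V2)) = 16 := by
    rw [show Nat.card (Multiplicative (V2 × V2)) = Nat.card (V2 × V2) from rfl, Nat.card_prod, Nat.card_prod,
      Nat.card_zmod]
  have hdvd : Nat.card Φ.range ∣ 16 := h16 ▸ card_subgroup_dvd_card _
  have hne16 : Nat.card Φ.range ≠ 16 := by
    intro e
    have htop : Φ.range = ⊤ := eq_top_of_card_eq _ (e.trans h16.symm)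
    obtain ⟨k, hk1, hk2, hk3⟩ := exists_other
    obtain ⟨x, hx⟩ : Multiplicative.ofAdd k ∈ Φ.range := htop ▸ mem_top _
    have hx' : φ x = k := congrArg Multiplicative.toAdd hx
    exact hk3 (rep_fixed hH hn hu hu1 x.2 (hx' ▸ hφ x) hk1 hk2).1
  have h3 : 3 ≤ Nat.card Φ.range := by
    have hmem : ∀ y ∈ (T : Subgroup G), ∀ k, Rep B h u y k → Multiplicative.ofAdd k ∈ Φ.range := fun y hy k hk =>
      ⟨⟨y, hy⟩, congrArg Multiplicative.ofAdd (rep_unique hH hn hu hu1 (hφ ⟨y, hy⟩) hk)⟩
    obtain ⟨-, hm'0⟩ := mconj_ne_zero m hmove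
    have h3 := Set.ncard_le_ncard (show ({Multiplicative.ofAdd 0, Multiplicative.ofAdd m,
        Multiplicative.ofAdd (mconj m)} : Set (Multiplicative (V2 × V2))) ⊆ Φ.range by
      rintro b (rfl | rfl | rfl)
      exacts [hmem 1 (one_mem _) _ (rep_one hH hn hu hu1), hmem g hg _ hm,
        hmem _ (hy.norm g hg) _ (rep_conj hH hn hu hu1 hm)]) (Set.toFinite _)
    rw [Set.ncard_insert_of_notMem (by
        rintro (e | e)
        exacts [hm0 (Multiplicative.ofAdd.injective e).symm, hm'0 (Multiplicative.ofAdd.injective e).symm]),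
      Set.ncard_pair (by simpa using hmove.symm), ← Nat.card_coe_set_eq, SetLike.coe_sort_coe] at h3
    exact h3
  have hle : Nat.card Φ.range ≤ 16 := Nat.le_of_dvd (by norm_num) hdvd
  generalize Nat.card Φ.range = r at *
  interval_cases r <;> omega

end Cfsg.Agent.NormalRankTwo
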