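import Mathlib
import Cfsg.Agent.Lib.NormalRankTwo.HomocyclicCases
import Cfsg.Agent.Lib.NormalRankTwo.CentralFusion
import Cfsg.Agent.S0501

/-!
# Simple groups of normal rank two with a large Sylow normaliser
-/

set_option autoImplicit false
set_option linter.style.haveILetI false
set_option linter.unusedSectionVars false

namespace Cfsg.Agent.NormalRankTwo

open Subgroup

variable {G : Type*} [Group G] [Finite G]

theorem exists_decomp (T : Sylow 2 G) {n : G} (hn : n ∈ normalizer ((T : Subgroup G) : Set G)) :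
    ∃ o ∈ normalizer ((T : Subgroup G) : Set G), Odd (orderOf o) ∧ ∃ t ∈ (T : Subgroup G), n = o * t := by
  haveI : Fact (Nat.Prime 2) := ⟨Nat.prime_two⟩
  obtain ⟨k, m, hm2, hnm⟩ := Nat.exists_eq_pow_mul_and_not_dvd (orderOf_pos n).ne' 2 (by norm_num)
  have htwo : ∀ x ∈ zpowers (n ^ m), x ∈ (T : Subgroup G) := by
    have hP : IsPGroup 2 (zpowers (n ^ m)) := by
      have hd : orderOf (n ^ m) ∣ 2 ^ k := orderOf_dvd_of_pow_eq_one (by
        rw [← pow_mul, mul_comm, ← hnm, pow_orderOf_eq_one])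
      obtain ⟨j, -, hj⟩ := (Nat.dvd_prime_pow Nat.prime_two).1 hd
      exact IsPGroup.of_card (n := j) (by rw [Nat.card_zpowers, hj])
    have hle : zpowers (n ^ m) ≤ normalizer ((T : Subgroup G) : Set G) := zpowers_le.2 (pow_mem hn m)
    have := T.is_maximal' (hP.to_sup_of_normal_right' T.2 hle) le_sup_right
    exact fun x hx => this ▸ mem_sup_left hx
  have hmod : Odd m := Nat.odd_iff.2 (by omega)
  obtain ⟨r, s, hrs⟩ : ∃ r s : ℤ, ((2 ^ k : ℕ) : ℤ) * r + (m : ℤ) * s = 1 := by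
    have hc : Nat.Coprime (2 ^ k) m := (Nat.prime_two.coprime_iff_not_dvd.2 hm2).pow_left k
    exact ⟨Nat.gcdA (2 ^ k) m, Nat.gcdB (2 ^ k) m, by rw [← Nat.gcd_eq_gcd_ab, hc]; rfl⟩
  refine ⟨(n ^ 2 ^ k) ^ r, zpow_mem (pow_mem hn _) r, ?_, (n ^ m) ^ s, htwo _ (zpow_mem (mem_zpowers _) s), ?_⟩
  · have h1 : orderOf ((n ^ 2 ^ k) ^ r) ∣ m := orderOf_dvd_of_pow_eq_one (by
      rw [← zpow_natCast ((n ^ 2 ^ k) ^ r), ← zpow_mul, mul_comm, zpow_mul, zpow_natCast, ← pow_mul, ← hnm,
        pow_orderOf_eq_one, one_zpow])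
    exact hmod.of_dvd_nat h1
  · rw [← zpow_natCast n (2 ^ k), ← zpow_natCast n m, ← zpow_mul, ← zpow_mul, ← zpow_add, hrs, zpow_one]

theorem exists_prime_power {T : Subgroup G} {o : G} (ho : Odd (orderOf o))
    (hne : ¬ ∀ g ∈ T, Commute o g) :
    ∃ (p : ℕ) (h : G), p.Prime ∧ p ≠ 2 ∧ (∃ k, orderOf h = p ^ k) ∧ h ∈ zpowers o ∧ ¬ ∀ g ∈ T, Commute h g := by
  induction e : orderOf o using Nat.strong_induction_on generalizing o with
  | _ N ih =>
    subst e
    have h1 : orderOf o ≠ 1 := fun e => hne fun g _ => by rw [orderOf_eq_one_iff.1 e]; exact Commute.one_left g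
    obtain ⟨p, hp, hpd⟩ := Nat.exists_prime_and_dvd h1
    have hp2 : p ≠ 2 := fun e => by subst e; exact (Nat.not_even_iff_odd.2 ho) (even_iff_two_dvd.2 hpd)
    obtain ⟨a, b, hb, hab⟩ := Nat.exists_eq_pow_mul_and_not_dvd (orderOf_pos o).ne' p hp.ne_one
    have hb0 : b ≠ 0 := fun e => hb (by rw [e]; exact dvd_zero p)
    have ho1 : orderOf (o ^ p ^ a) = b := by
      rw [orderOf_pow' _ (pow_pos hp.pos a).ne', Nat.gcd_eq_right ⟨b, hab⟩, hab, Nat.mul_div_cancel_left _ (pow_pos hp.pos a)]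
    have ho2 : orderOf (o ^ b) = p ^ a := by
      rw [orderOf_pow' _ hb0, Nat.gcd_eq_right ⟨p ^ a, by rw [hab, mul_comm]⟩, hab,
        Nat.mul_div_cancel _ (Nat.pos_of_ne_zero hb0)]
    by_cases hcb : ∀ g ∈ T, Commute (o ^ b) g
    · have ha : a ≠ 0 := by
        rintro rfl
        rw [pow_zero, one_mul] at hab
        exact hb (hab ▸ hpd)
      have hnc : ¬ ∀ g ∈ T, Commute (o ^ p ^ a) g := fun hca => hne fun g hg => by
        have hc : Nat.Coprime (p ^ a) b := (hp.coprime_iff_not_dvd.2 hb).pow_left a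
        have hbz : ((p ^ a : ℕ) : ℤ) * Nat.gcdA (p ^ a) b + (b : ℤ) * Nat.gcdB (p ^ a) b = 1 := by
          rw [← Nat.gcd_eq_gcd_ab, hc]; rfl
        have e : o = (o ^ p ^ a) ^ Nat.gcdA (p ^ a) b * (o ^ b) ^ Nat.gcdB (p ^ a) b := by
          rw [← zpow_natCast o (p ^ a), ← zpow_natCast o b, ← zpow_mul, ← zpow_mul, ← zpow_add, hbz, zpow_one]
        rw [e]
        exact ((hca g hg).zpow_left _).mul_left ((hcb g hg).zpow_left _)
      have hlt : b < orderOf o := by
        have h2 : 2 ≤ p ^ a := le_trans hp.two_le (Nat.le_self_pow ha p)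
        have : 2 * b ≤ p ^ a * b := Nat.mul_le_mul_right b h2
        omega
      obtain ⟨q, h, h2, h3, h4, h5, h6⟩ :=
        ih b hlt (o := o ^ p ^ a) (ho1 ▸ ho.of_dvd_nat ⟨p ^ a, by rw [hab, mul_comm]⟩) hnc ho1
      exact ⟨q, h, h2, h3, h4, zpowers_le.2 (pow_mem (mem_zpowers o) _) h5, h6⟩
    · exact ⟨p, o ^ b, hp, hp2, ⟨a, ho2⟩, pow_mem (mem_zpowers o) _, hcb⟩

/-- A simple group of normal rank two whose Sylow normaliser acts non-trivially. -/
theorem card_sylow_normal_rank_two [IsSimpleGroup G] (hna : ¬ IsMulCommutative G) (T : Sylow 2 G)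
    (hd2 : ∀ A : Subgroup ↥T, A.Normal → IsMulCommutative ↥A → ∃ a b : ↥T, Subgroup.closure {a, b} = A)
    (hN : ¬ normalizer ((T : Subgroup G) : Set G) ≤ (T : Subgroup G) ⊔ centralizer ((T : Subgroup G) : Set G)) :
    Nat.card (T : Subgroup G) = 4 ∨ Nat.card (T : Subgroup G) = 64 ∨ Nat.card (T : Subgroup G) = 128 := by
  classical
  haveI : Fact (Nat.Prime 2) := ⟨Nat.prime_two⟩
  -- elementary normal subgroups have order at most four
  have helem : ∀ A : Subgroup ↥T, A.Normal → IsMulCommutative A → (∀ a ∈ A, a ^ 2 = 1) → Nat.card A ≤ 4 := by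
    intro A hA hAc hA2
    obtain ⟨a, b, hab⟩ := hd2 A hA hAc
    have ha : a ∈ A := hab ▸ subset_closure (Or.inl rfl)
    have hb : b ∈ A := hab ▸ subset_closure (Or.inr rfl)
    have hcomm : Commute a b := congrArg Subtype.val (hAc.is_comm.comm (⟨a, ha⟩ : A) ⟨b, hb⟩)
    have hsq : ∀ x ∈ A, x * x = 1 := fun x hx => by rw [← pow_two]; exact hA2 x hx
    let S : Subgroup ↥T :=
      { carrier := {x | x = 1 ∨ x = a ∨ x = b ∨ x = a * b}
        one_mem' := Or.inl rfl
        mul_mem' := by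
          intro x y hx hy
          have h1 : a * a = 1 := hsq a ha
          have h2 : b * b = 1 := hsq b hb
          have h3 : b * a = a * b := hcomm.eq.symm
          have h4 : a * (a * b) = b := by rw [← mul_assoc, h1, one_mul]
          have h5 : b * (a * b) = a := by rw [← mul_assoc, h3, mul_assoc, h2, mul_one]
          have h6 : a * b * a = b := by rw [mul_assoc, h3, h4]
          have h7 : a * b * b = a := by rw [mul_assoc, h2, mul_one]
          have h8 : a * b * (a * b) = 1 := hsq _ (mul_mem ha hb)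
          show x * y = 1 ∨ x * y = a ∨ x * y = b ∨ x * y = a * b
          rcases hx with e | e | e | e <;> rcases hy with e' | e' | e' | e' <;> rw [e, e'] <;>
            simp only [one_mul, mul_one, h1, h2, h3, h4, h5, h6, h7, h8, true_or, or_true]
        inv_mem' := by
          rintro x (rfl | rfl | rfl | rfl)
          · exact Or.inl inv_one
          · exact Or.inr (Or.inl (inv_eq_of_mul_eq_one_right (hsq _ ha)))
          · exact Or.inr (Or.inr (Or.inl (inv_eq_of_mul_eq_one_right (hsq _ hb))))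
          · exact Or.inr (Or.inr (Or.inr (inv_eq_of_mul_eq_one_right (hsq _ (mul_mem ha hb))))) }
    have hle : A ≤ S := by
      rw [← hab, closure_le]
      rintro x (rfl | rfl)
      exacts [Or.inr (Or.inl rfl), Or.inr (Or.inr (Or.inl rfl))]
    refine (card_le_of_le hle).trans ?_
    have : (S : Set ↥T).ncard ≤ 4 := by
      refine (Set.ncard_le_ncard (show (S : Set ↥T) ⊆ {1, a, b, a * b} from fun x hx => hx) (Set.toFinite _)).trans ?_
      refine (Set.ncard_insert_le _ _).trans (Nat.succ_le_succ ?_)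
      refine (Set.ncard_insert_le _ _).trans (Nat.succ_le_succ ?_)
      exact (Set.ncard_insert_le _ _).trans (by rw [Set.ncard_singleton])
    rwa [← Nat.card_coe_set_eq] at this
  have hrank : ∀ A : Subgroup G, A ≤ (T : Subgroup G) → (∀ g ∈ (T : Subgroup G), ∀ a ∈ A, g * a * g⁻¹ ∈ A) →
      (∀ a ∈ A, ∀ b ∈ A, Commute a b) → (∀ a ∈ A, a * a = 1) → Nat.card A ≤ 4 := by
    intro A hA hAn hAc hA2
    rw [← Nat.card_congr (subgroupOfEquivOfLe hA).toEquiv]
    refine helem _ ⟨fun a ha g => mem_subgroupOf.2 (hAn g g.2 a ha)⟩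
      ⟨⟨fun x y => Subtype.ext (Subtype.ext (hAc _ x.2 _ y.2))⟩⟩ fun x hx => Subtype.ext ?_
    show ((x : ↥(T : Subgroup G)) : G) ^ 2 = 1
    rw [pow_two]
    exact hA2 _ hx
  have hsec : Cfsg.SectionalPRankLE 2 4 (T : Subgroup G) := Cfsg.Agent.S0501.result T.2 helem
  -- a moved four-group
  by_cases hplane : ∃ o ∈ normalizer ((T : Subgroup G) : Set G), Odd (orderOf o) ∧ ∃ A : Subgroup G,
      Inv (T : Subgroup G) o A ∧ (∀ a ∈ A, ∀ b ∈ A, Commute a b) ∧ ∃ a ∈ A, a * a = 1 ∧ ¬ Commute o a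
  · obtain ⟨o, ho, hodd, A, hA, hAc, a, ha, ha2, hmove⟩ := hplane
    obtain ⟨h, U, hp⟩ := exists_plane T.2 hrank hsec hodd (fun g hg => (mem_normalizer_iff.1 ho g).1 hg) hA hAc ha
      ha2 hmove
    exact hp.card_sylow hna T
  push Not at hplane
  -- an element of odd prime power order acting non-trivially
  obtain ⟨o, ho, hodd, hoT⟩ : ∃ o ∈ normalizer ((T : Subgroup G) : Set G), Odd (orderOf o) ∧
      ¬ ∀ g ∈ (T : Subgroup G), Commute o g := by
    by_contra hall
    push Not at hall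
    refine hN fun n hn => ?_
    obtain ⟨o, ho, hodd, t, ht, rfl⟩ := exists_decomp T hn
    exact mul_mem (mem_sup_right fun g hg => (hall o ho hodd g hg).symm.eq) (mem_sup_left ht)
  obtain ⟨p, h, hp, hp2, hpow, hho, hhT⟩ := exists_prime_power hodd hoT
  have hhN : h ∈ normalizer ((T : Subgroup G) : Set G) := zpowers_le.2 ho hho
  have hy : Hyp (T : Subgroup G) p h :=
    ⟨T.2, hrank, hsec, hp, hp2, hpow, fun g hg => (mem_normalizer_iff.1 hhN g).1 hg⟩
  have hf : FixAb (T : Subgroup G) h := fun A hA hAc => hy.fix_abelian hA.le hA.hinv hAc fun a ha ha2 =>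
    hplane h hhN hy.odd_order A hA hAc a ha ha2
  push Not at hhT
  have hfixN : ∀ n ∈ normalizer ((T : Subgroup G) : Set G), ∀ w ∈ (T : Subgroup G),
      (∀ g ∈ (T : Subgroup G), Commute g w) → w * w = 1 → n * w * n⁻¹ = w := by
    intro n hn w hw hwc hw2
    obtain ⟨o, ho, hodd, t, ht, rfl⟩ := exists_decomp T hn
    let Z : Subgroup G := (T : Subgroup G) ⊓ centralizer ((T : Subgroup G) : Set G)
    have hZ : Inv (T : Subgroup G) o Z := by
      refine ⟨inf_le_left, fun g hg a ha => ?_, fun a ha => ?_⟩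
      · rwa [conj_eq_of_commute ((mem_inf.1 ha).2 g hg : Commute g a)]
      · refine mem_inf.2 ⟨(mem_normalizer_iff.1 ho a).1 (mem_inf.1 ha).1, fun g hg => ?_⟩
        have hg' : o⁻¹ * g * o ∈ (T : Subgroup G) := by
          have := (mem_normalizer_iff.1 (inv_mem ho) g).1 hg
          rwa [inv_inv] at this
        have h1 := conj_commute (c := o) ((mem_inf.1 ha).2 _ hg' : Commute (o⁻¹ * g * o) a)
        rw [show o * (o⁻¹ * g * o) * o⁻¹ = g by group] at h1
        exact h1.eq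
    have hcw : Commute o w := hplane o ho hodd Z hZ (fun a ha b hb => (mem_inf.1 hb).2 a (mem_inf.1 ha).1) w
      (mem_inf.2 ⟨hw, fun g hg => (hwc g hg).eq⟩) hw2
    rw [show o * t * w * (o * t)⁻¹ = o * (t * w * t⁻¹) * o⁻¹ by group, conj_eq_of_commute (hwc t ht),
      conj_eq_of_commute hcw]
  rcases card_zsub hy hf hhT with h2 | h4
  · exact (fusion_case hna T hy hf hhT hfixN h2).elim
  · exact Or.inr (card_of_four hy hf hhT h4)

end Cfsg.Agent.NormalRankTwo
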